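import Cfsg.Agent.K7.Defs
import Cfsg.Agent.K35.A0
import Cfsg.Agent.Solv.ClassSize

/-! A subgroup of 3-power index. -/

set_option autoImplicit false

namespace Cfsg.Lib.K7

open Cfsg Subgroup Cfsg.Lib.Trans Cfsg.Lib.Gold
open Cfsg.Lib.P8 (L32 V3 O2 Om Jt Phi EA SR4 Ch E9 Pj Ty Sec SecOK Mx Crd)
open Cfsg.Lib.K35 (PSL Alt A3 NC)
open scoped commutatorElement

universe u

namespace A3c

variable {G : Type u} [Group G] [Finite G] {p : ℕ} {M S : Subgroup G}

theorem one (gl : Gl G p) (hM : M ≠ ⊤) (hS : S ≤ M) (syl : IsSylowIn 2 S ⊤) (h5 : p ∣ Nat.card M) :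
    A3 M := by
  have := gl.sim
  have : Fact (Nat.Prime 2) := ⟨Nat.prime_two⟩
  have p7 := gl.p7
  have fac : ∀ R : Subgroup G, IsSylowIn 3 R ⊤ → ∀ g, ∃ m ∈ M, ∃ r ∈ R, g = m * r := fun R hR => by
    refine Solv.ClassSize.forall_mul_of_coprime_index (Nat.coprime_of_dvd fun q pp h1 h2 => ?_)
    obtain ⟨a, b, e⟩ := gl.ord
    have h3 := e ▸ h1.trans M.index_dvd_card
    rcases (Nat.Prime.dvd_mul pp).1 h3 with h | h
    · rcases (Nat.Prime.dvd_mul pp).1 h with h | h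
      · obtain rfl := (Nat.prime_dvd_prime_iff_eq pp gl.pp).1 h
        have h4 := mul_dvd_mul h5 h1
        rw [M.card_mul_index, e, mul_assoc, Nat.mul_dvd_mul_iff_left pp.pos] at h4
        rcases (Nat.Prime.dvd_mul pp).1 h4 with h | h <;>
          have := Nat.le_of_dvd (by norm_num) (pp.dvd_of_dvd_pow h) <;> omega
      · obtain rfl := (Nat.prime_dvd_prime_iff_eq pp Nat.prime_three).1 (pp.dvd_of_dvd_pow h)
        exact hR.not_dvd (by rwa [relIndex_top_right])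
    · obtain rfl := (Nat.prime_dvd_prime_iff_eq pp Nat.prime_two).1 (pp.dvd_of_dvd_pow h)
      exact syl.not_dvd_relIndex_of_le hS (by rwa [relIndex_top_right])
  have core : ∀ R : Subgroup G, IsSylowIn 3 R ⊤ → ∀ x, (∀ r ∈ R, r * x * r⁻¹ ∈ M) → x = 1 :=
    fun R hR x hx => by
      have h : x ∈ M.normalCore := fun g => by
        obtain ⟨m, hm, r, hr, rfl⟩ := fac R hR g
        rw [show m * r * x * (m * r)⁻¹ = m * (r * x * r⁻¹) * m⁻¹ by group]
        exact mul_mem (mul_mem hm (hx r hr)) (inv_mem hm)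
      rcases M.normalCore_normal.eq_bot_or_eq_top with e | e
      · exact mem_bot.1 (e ▸ h)
      · exact absurd (top_unique (e ▸ M.normalCore_le)) hM
  refine ⟨fun R X hR hX hN => eq_bot_iff.2 fun x hx => mem_bot.2 (core R hR x fun r hr => ?_),
    fun r hr ho R hR hC => ?_⟩
  · obtain ⟨g, -, hg⟩ := syl.exists_cj_le hX le_top
    obtain ⟨m, hm, ρ, hρ, rfl⟩ := fac R hR g
    have := hS (hg (conj_mem_cj.2 (mem_normalizer_conj (hN (mul_mem (inv_mem hρ) hr)) hx)))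
    rw [show m * ρ * (ρ⁻¹ * r * x * (ρ⁻¹ * r)⁻¹) * (m * ρ)⁻¹ = m * (r * x * r⁻¹) * m⁻¹ by group] at this
    exact (mul_mem_cancel_left hm).1 ((mul_mem_cancel_right (inv_mem hm)).1 this)
  · have := core R hR r fun ρ hρ => by rwa [mem_centralizer_singleton_iff.1 (hC hρ), mul_inv_cancel_right]
    rw [this, orderOf_one] at ho
    omega

theorem rk (gl : Gl G p) (a3 : A3 M) {T : Subgroup G} {a b : G} (h1 : IsPGroup 2 T) (h2 : T ≠ ⊥)
    (ha : a ∈ Ns T) (hb : b ∈ Ns T) (e9 : E9 a b) : PRankLE 3 2 G := by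
  have := Fact.mk Nat.prime_three
  obtain ⟨R, hR, -⟩ := exists_isSylowIn_ge (IsPGroup.of_bot (p := 3) (G := G)) le_top
  exact gl.n3 R hR (fun Y => a3.no2 R Y hR) T a b h1 h2 ha hb e9

theorem two (gl : Gl G p) (a3 : A3 M) : R3 G := fun T a b c h1 h2 ha hb _ e9 c3 ac bc => by
  have := Fact.mk Nat.prime_three
  by_cases c1 : c = 1
  · exact c1 ▸ one_mem _
  · exact K35.A0.mem9 (rk gl a3 h1 h2 ha hb e9) e9 (orderOf_eq_prime c3 c1) ac.symm bc.symm

theorem three (gl : Gl G p) (a3 : A3 M) (h : O2 M ≠ ⊥) : ∀ a ∈ M, ∀ b ∈ M, ¬ E9 a b :=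
  fun a aM b bM e9 => by
  have := Fact.mk Nat.prime_three
  have := Fact.mk Nat.prime_two
  have nM : M ≤ Ns (O2 M) := Local.le_normalizer_pCoreOf M
  have p3 : IsPGroup 3 ↥(zpowers a ⊔ zpowers b) := by
    have k : ∀ c : G, orderOf c = 3 → IsPGroup 3 (zpowers c) := fun c hc =>
      IsPGroup.of_card (n := 1) (by rw [Nat.card_zpowers, hc, pow_one])
    refine (k a e9.1).to_sup_of_normal_right' (k b e9.2.1) (zpowers_le.2 (Cs_le_Ns ?_))
    rw [Cs_zpowers]
    exact mem_C1.2 e9.2.2.1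
  obtain ⟨R, hR, l⟩ := exists_isSylowIn_ge p3 le_top
  have aR : a ∈ R := l (mem_sup_left (mem_zpowers a))
  have bR : b ∈ R := l (mem_sup_right (mem_zpowers b))
  obtain ⟨r, -, hr, o⟩ := exists_orderOf_eq_mem_centralizer hR.isPGroup hR.isPGroup le_normalizer
    fun e => e9.2.2.2 (by rw [show b = 1 from mem_bot.1 (e ▸ bR)]; exact one_mem _)
  have m := K35.A0.mem9 (rk gl a3 (Local.isPGroup_pCoreOf M) h (nM aM) (nM bM) e9) e9 o
    (mem_centralizer_iff.1 hr a aR).symm (mem_centralizer_iff.1 hr b bR).symm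
  refine a3.nc r ((closure_le M).2 ?_ m) o R hR fun s hs => mem_C1.2 (mem_centralizer_iff.1 hr s hs)
  rintro _ (rfl | rfl)
  exacts [aM, bM]

end A3c

end Cfsg.Lib.K7
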