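import Cfsg.Agent.K7.Loc
import Cfsg.Agent.K7.A3c

/-! A subgroup of 3-power index. -/

set_option autoImplicit false

namespace Cfsg.Lib.K7

open Cfsg Subgroup Cfsg.Lib.Trans Cfsg.Lib.Gold
open Cfsg.Lib.P8 (O2)

universe u

theorem a3 : StA3'.{u} := by
  intro G _ _ p gl M S h hS syl hp
  have := Fact.mk Nat.prime_two
  have := gl.sim
  have hM : M ≠ ⊤ := by
    rintro rfl
    have nM : (⊤ : Subgroup G) ≤ Ns (O2 ⊤) := Local.le_normalizer_pCoreOf ⊤
    have two : IsPGroup 2 (O2 (⊤ : Subgroup G)) := Local.isPGroup_pCoreOf ⊤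
    have : (O2 (⊤ : Subgroup G)).Normal := normalizer_eq_top_iff.1 (top_le_iff.1 nM)
    rw [this.eq_bot_or_eq_top.resolve_left h] at two
    obtain ⟨n, hn⟩ := two.exists_card_eq
    have := Nat.le_of_dvd (by norm_num) (gl.pp.dvd_of_dvd_pow (hn ▸ hp))
    have := gl.p7
    omega
  have a := A3c.one gl hM hS syl hp
  exact ⟨a, A3c.two gl a, A3c.three gl a h⟩

end Cfsg.Lib.K7
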