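import Cfsg.Agent.K7.Defs
import Cfsg.Agent.P8.Bas2
import Cfsg.Agent.Char.Burnside

/-!
# Simple groups of order `p * 3 ^ a * 2 ^ b`: the induction and the assembly
-/

set_option autoImplicit false
set_option linter.unusedVariables false

namespace Cfsg.Lib.K7

open Cfsg Subgroup Cfsg.Lib.Trans Cfsg.Lib.Gold
open Cfsg.Lib.P8 (O2 Mx)

universe u

namespace All

theorem not_solv {X : Type u} [Group X] [IsSimpleGroup X] (h : ¬ IsMulCommutative X) :
    ¬ Group.IsSolvable X := fun hs =>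
  h ⟨⟨IsSimpleGroup.comm_iff_isSolvable.2 hs⟩⟩

theorem ord_of {X : Type u} [Group X] [Finite X] [IsSimpleGroup X] (h : ¬ IsMulCommutative X)
    {p a b : ℕ} (hp : p.Prime) (hd : Nat.card X ∣ p * 3 ^ a * 2 ^ b) : Ord X p := by
  obtain ⟨y, z, hy, hz, hyz⟩ := Nat.dvd_mul.1 hd
  obtain ⟨v, w, hv, hw, rfl⟩ := Nat.dvd_mul.1 hy
  obtain ⟨i, -, rfl⟩ := (Nat.dvd_prime_pow Nat.prime_two).1 hz
  obtain ⟨j, -, rfl⟩ := (Nat.dvd_prime_pow Nat.prime_three).1 hw
  rcases (Nat.dvd_prime hp).1 hv with rfl | rfl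
  · exact absurd (Char.isSolvable_of_card_dvd (a := j) (b := i) Nat.prime_three Nat.prime_two X
      (by rw [← hyz]; simp)) (not_solv h)
  · exact ⟨j, i, hyz.symm⟩

end All

theorem all (hFam : StFam.{u}) (hGl : StGl.{u}) (hP5 : StP5.{u}) (hNo : StNo.{u}) : StAll.{u} := by
  suffices H : ∀ n : ℕ, ∀ (G : Type u) [Group G] [Finite G] [IsSimpleGroup G], Nat.card G = n →
      ¬ IsMulCommutative G → ∀ p : ℕ, p.Prime → Ord G p → Concl G from
    fun G _ _ _ h p hp ho => H _ G rfl h p hp ho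
  intro n
  induction n using Nat.strong_induction_on with
  | _ n ih =>
    intro G _ _ _ hn hna p hp ho
    by_cases h7 : 7 ≤ p
    · by_contra hc
      refine hNo G p (hGl G p hp h7 hna ho (hFam G p hp h7 hna ho) ?_ hc)
      intro H N _ hH hs hna'
      obtain ⟨a, b, hab⟩ := ho
      have h1 : Nat.card (H ⧸ N) ∣ Nat.card H := N.card_quotient_dvd_card
      have h2 : Nat.card H ∣ Nat.card G := H.card_subgroup_dvd_card
      have ho' : Ord (H ⧸ N) p := All.ord_of hna' hp (hab ▸ h1.trans h2)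
      have h3 : Nat.card H < Nat.card G := by
        refine lt_of_le_of_ne (Nat.le_of_dvd Nat.card_pos h2) fun h => hH ?_
        exact (Subgroup.card_eq_iff_eq_top H).1 h
      exact ih _ (hn ▸ lt_of_le_of_lt (Nat.le_of_dvd Nat.card_pos h1) h3) _ rfl hna' p hp ho'
    · obtain rfl | rfl | rfl : p = 2 ∨ p = 3 ∨ p = 5 := by
        have := hp.two_le
        have h : p < 7 := not_le.1 h7
        interval_cases p <;> simp_all (config := { decide := true })
      · obtain ⟨a, b, hab⟩ := ho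
        exact absurd (Char.isSolvable_of_card_dvd (a := a) (b := b + 1) Nat.prime_three
          Nat.prime_two G (by rw [hab]; exact ⟨1, by ring⟩)) (All.not_solv hna)
      · obtain ⟨a, b, hab⟩ := ho
        exact absurd (Char.isSolvable_of_card_dvd (a := a + 1) (b := b) Nat.prime_three
          Nat.prime_two G (by rw [hab]; exact ⟨1, by ring⟩)) (All.not_solv hna)
      · exact hP5 G hna ho

theorem nc : StNC.{u} := by
  intro G _ _ p hG
  haveI : Fact (Nat.Prime 2) := ⟨Nat.prime_two⟩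
  obtain ⟨N₀, hN₀, hs₀⟩ := hG.ns
  let P := {p : Subgroup G × Subgroup G //
    IsTwoLocal p.1 ∧ ¬ Group.IsSolvable p.1 ∧ p.2 ≤ p.1 ∧ IsPGroup 2 p.2}
  haveI : Nonempty P := ⟨⟨(N₀, ⊥), hN₀, hs₀, bot_le, IsPGroup.of_bot⟩⟩
  obtain ⟨⟨⟨N, T⟩, hN, hs, hTN, hT⟩, hmax⟩ := Finite.exists_max (fun p : P => Nat.card p.1.2)
  let Q := {M : Subgroup G // IsTwoLocal M ∧ N ≤ M}
  haveI : Nonempty Q := ⟨⟨N, hN, le_rfl⟩⟩
  obtain ⟨⟨M, hM, hNM⟩, hmx⟩ := Finite.exists_max (fun q : Q => Nat.card q.1)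
  obtain ⟨S₀, hS₀, hTS⟩ := exists_isSylowIn_ge hT (hTN.trans hNM)
  obtain ⟨hch, hne⟩ := P8.Bas2H.chl hG.c2 hM
  refine ⟨M, S₀, ⟨⟨hM, fun N' hN' hle => ?_⟩, rfl, hch, hne⟩, fun hsol => hs ?_, hS₀, ?_⟩
  · exact (Subgroup.eq_of_le_of_card_ge hle (hmx ⟨N', hN', hNM.trans hle⟩)).symm
  · exact solvable_of_solvable_injective (f := Subgroup.inclusion hNM) (Subgroup.inclusion_injective hNM)
  · by_cases h : IsSylowIn 2 S₀ ⊤
    · exact Or.inl h
    right
    intro C hC hne' hle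
    by_contra hns
    obtain ⟨S₁, hS₁, h01⟩ := exists_isSylowIn_ge hS₀.isPGroup (le_top (a := S₀))
    have hlt : S₀ < S₁ := lt_of_le_of_ne h01 (fun e => h (e ▸ hS₁))
    have h2 := lt_inf_normalizer hS₁.isPGroup hlt
    have h3 := hmax ⟨(Ns C, S₁ ⊓ normalizer (S₀ : Set G)), ⟨C, hC, hne', rfl⟩, hns,
      inf_le_right.trans hle, hS₁.isPGroup.to_inf_left⟩
    have h4 := card_lt_of_lt h2
    have h5 := Trans.card_le_of_le hTS
    exact absurd (h3.trans h5) (not_le.2 h4)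

theorem no (hNC : StNC.{u}) (hB : StB.{u}) (hTyp : StTyp.{u}) (hTS : StTS.{u}) (hL8 : StL8.{u})
    (hL17 : StL17.{u}) (hL7 : StL7.{u}) : StNo.{u} := by
  intro G _ _ p gl
  obtain ⟨M, S, mx, hns, hS, h⟩ := hNC G p gl
  have hS' : IsSylowIn 2 S ⊤ := h.elim id (hB G p gl M S mx hns hS)
  rcases hTS G p gl M S (hTyp G p gl M mx.ch mx.ne hns) hS.1 hS' with ⟨rfl, h | h⟩ | ⟨rfl, h⟩
  · exact hL7 G gl M S mx h hS.1 hS'
  · exact hL8 G gl M S h hS.1 hS'
  · exact hL17 G gl M S mx h hS.1 hS'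

end Cfsg.Lib.K7
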