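import Cfsg.Agent.K7.NDefs
import Cfsg.Agent.Gold.Cm

/-!
# Pushing up `L₃(2)`: basic facts about the configuration
-/

set_option autoImplicit false
set_option maxRecDepth 100000

namespace Cfsg.Lib.K7.N3

open Cfsg Subgroup Cfsg.Lib.Trans Cfsg.Lib.Gold Matrix
open Cfsg.Lib.P8 (L32 V3 O2 Om Jt Phi EA Pj Ty Mx Crd)
open scoped commutatorElement

universe u

namespace N3E

theorem up_one : up 1 := by unfold up; decide

theorem add_self (a : V3) : a + a = 0 := by revert a; decide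

theorem add_eq (a b : V3) (h : a + b = 0) : a = b := by revert a b; decide

theorem fix_all (A : L32) (h : ∀ v : V3, A.1 *ᵥ v = v) : A = 1 := by
  apply Subtype.ext
  ext i j
  have := congrFun (h (Pi.single j 1)) i
  simpa [Matrix.mulVec_single_one, Matrix.one_apply, Pi.single_apply] using this

theorem fix_up : ∀ v : V3, (∀ A : L32, A.1 1 0 = 0 ∧ A.1 2 0 = 0 ∧ A.1 2 1 = 0 → A.1 *ᵥ v = v) →
    v = 0 ∨ v = ![1, 0, 0] := by decide +kernel

theorem up_e0 : ∀ A : L32, A.1 1 0 = 0 ∧ A.1 2 0 = 0 ∧ A.1 2 1 = 0 → A.1 *ᵥ ![1, 0, 0] = ![1, 0, 0] := by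
  decide +kernel

theorem two_cases : ∀ x : ZMod 2, x = 0 ∨ x = 1 := by decide

variable {G : Type u} [Group G]

theorem ea_cj {A : Subgroup G} (h : EA A) (g : G) : EA (cj g A) := by
  have k : ∀ a ∈ cj g A, a * a = 1 := fun a ha => by
    have := h.2 _ (mem_cj.1 ha)
    rw [pow_two] at this
    have e : a * a = g * (g⁻¹ * a * g * (g⁻¹ * a * g)) * g⁻¹ := by group
    rw [e, this]; group
  exact ⟨isMulCommutative_of_sq k, fun a ha => by rw [pow_two]; exact k a ha⟩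

/-- The join of all elementary abelian subgroups of order `n` of `X` is normalised by `N(X)`. -/
theorem ns_sSup [Finite G] (X : Subgroup G) (n : ℕ) :
    Ns X ≤ Ns (sSup {A : Subgroup G | A ≤ X ∧ EA A ∧ Nat.card A = n}) := fun g hg => by
  refine mem_normalizer_of_cj_le ?_
  rw [cj_le_iff_le_cj_inv]
  refine sSup_le fun A hA => ?_
  rw [← cj_le_iff_le_cj_inv]
  refine le_sSup ⟨?_, ea_cj hA.2.1 g, (card_cj g A).trans hA.2.2⟩
  exact cj_le_iff.2 fun t ht => mem_normalizer_conj hg (hA.1 ht)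

end N3E

open N3E

variable {G : Type u} [Group G] [Finite G] {M T S V R X Y : Subgroup G} {π ρ : G → L32} {c κ τ : G → V3}
  {u g : G} {ε : ZMod 2}

theorem NN.TS (h : NN M T S V π c) : T ≤ S := fun t ht =>
  (h.memS t).2 ⟨h.pj.le ht, by rw [(h.pj.ker t (h.pj.le ht)).2 ht]; exact up_one⟩

theorem NN.SM (h : NN M T S V π c) : S ≤ M := fun s hs => ((h.memS s).1 hs).1

theorem NN.sq (h : NN M T S V π c) : ∀ v ∈ V, v * v = 1 := fun v hv =>
  (h.crd.zero _ (mul_mem hv hv)).1 (by rw [h.crd.add v hv v hv]; exact add_self _)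

theorem NN.inj (h : NN M T S V π c) : ∀ v ∈ V, ∀ w ∈ V, c v = c w → v = w := fun v hv w hw e => by
  have k : v * w = 1 := (h.crd.zero _ (mul_mem hv hw)).1 (by rw [h.crd.add v hv w hw, e]; exact add_self _)
  rw [eq_inv_of_mul_eq_one_left k, inv_eq_of_sq (h.sq w hw)]

theorem NN.card (h : NN M T S V π c) : Nat.card V = 8 := by
  have : Nat.card V3 = 8 := by simp
  rw [← this]
  refine Nat.card_congr (Equiv.ofBijective (fun a : V => c a)
    ⟨fun a b e => Subtype.ext (h.inj _ a.2 _ b.2 e), fun m => ?_⟩)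
  obtain ⟨a, ha, e⟩ := h.crd.sur m
  exact ⟨⟨a, ha⟩, e⟩

theorem NN.nV' (h : NN M T S V π c) : Ns V ≤ M := by
  refine h.mx V (fun e => ?_) h.leV h.nV
  have := h.card
  rw [e, card_bot] at this
  exact absurd this (by norm_num)

theorem NN.cV' (h : NN M T S V π c) : Cs V ≤ T := fun t ht => by
  have hM : t ∈ M := h.nV' (Cs_le_Ns ht)
  refine (h.pj.ker t hM).1 (fix_all _ fun m => ?_)
  obtain ⟨a, ha, rfl⟩ := h.crd.sur m
  rw [← h.crd.eqv t hM a ha, ← mem_Cs.1 ht a ha, mul_inv_cancel_right]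

theorem NN.cV3 (h : NN M T S V π c) {t v : G} (hv : v ∈ V) (h2 : c v 2 = 1) (hc : t * v = v * t)
    (hW : ∀ w ∈ V, c w 2 = 0 → t * w = w * t) : t ∈ T := by
  refine h.cV' (mem_Cs.2 fun a ha => ?_)
  rcases two_cases (c a 2) with k | k
  · exact (hW a ha k).symm
  · have k' : c (v * a) 2 = 0 := by
      rw [h.crd.add v hv a ha, Pi.add_apply, h2, k]; decide
    have e := hW _ (mul_mem hv ha) k'
    rw [← mul_assoc, hc, mul_assoc, mul_assoc] at e
    exact (mul_left_cancel e).symm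

theorem NN.zc (h : NN M T S V π c) {w : G} (h2 : w * w = 1) (hw : w ∈ Cs S) :
    w ∈ V ∧ (c w = 0 ∨ c w = e0) := by
  have hT : w ∈ Cs T := Cs_anti h.TS hw
  have hV : w ∈ V := h.om w (h.cV' (Cs_anti h.leV hT)) h2 hT
  refine ⟨hV, fix_up _ fun A hA => ?_⟩
  obtain ⟨s, hs, rfl⟩ := h.pj.sur A
  rw [← h.crd.eqv s hs w hV, mem_Cs.1 hw s ((h.memS s).2 ⟨hs, hA⟩), mul_inv_cancel_right]

theorem NN.zS (h : NN M T S V π c) {w : G} (hw : w ∈ V) (h0 : c w = e0) : w ∈ Cs S :=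
  mem_Cs.2 fun s hs => by
    obtain ⟨hM, hu⟩ := (h.memS s).1 hs
    have e : s * w * s⁻¹ = w := h.inj _ (mem_normalizer_conj (h.nV hM) hw) _ hw (by
      rw [h.crd.eqv s hM w hw, h0]; exact up_e0 _ hu)
    exact mul_inv_eq_iff_eq_mul.1 e

theorem NN.of (h : NN M T S V π c) (hg : g ∈ Ns S) (hM : g ∉ M) : Of S T := by
  by_contra hO
  have eaV : EA V := ⟨isMulCommutative_of_sq h.sq, fun a ha => by rw [pow_two]; exact h.sq a ha⟩
  obtain ⟨A, ⟨hA, hA'⟩, mx⟩ := Set.Finite.exists_maximalFor (fun E : Subgroup G => Nat.card E)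
    {E : Subgroup G | E ≤ S ∧ EA E} (Set.toFinite _) ⟨V, h.leV.trans h.TS, eaV⟩
  have mx' : ∀ E : Subgroup G, E ≤ S → EA E → Nat.card E ≤ Nat.card A := fun E h1 h2 => by
    rcases le_total (Nat.card E) (Nat.card A) with k | k
    · exact k
    · exact mx ⟨h1, h2⟩ k
  have all : ∀ B : Subgroup G, B ≤ S → EA B → Nat.card B = Nat.card A → B ≤ T := fun B h1 h2 h3 => by
    by_contra k
    exact hO ⟨B, h1, h2, k, fun E e1 e2 => h3 ▸ mx' E e1 e2⟩
  have e : {B : Subgroup G | B ≤ S ∧ EA B ∧ Nat.card B = Nat.card A} =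
      {B : Subgroup G | B ≤ T ∧ EA B ∧ Nat.card B = Nat.card A} :=
    Set.ext fun B => ⟨fun k => ⟨all B k.1 k.2.1 k.2.2, k.2⟩, fun k => ⟨k.1.trans h.TS, k.2⟩⟩
  have g1 := ns_sSup S (Nat.card A) hg
  rw [e] at g1
  refine hM (h.mx _ (fun k => ?_) (sSup_le fun B hB => hB.1) (h.nT.trans (ns_sSup T _)) g1)
  have a1 : A ≤ ⊥ := k ▸ le_sSup ⟨all A hA hA' rfl, hA', rfl⟩
  have := mx' V (h.leV.trans h.TS) eaV
  rw [h.card, le_bot_iff.1 a1, card_bot] at this
  exact absurd this (by norm_num)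

end Cfsg.Lib.K7.N3
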