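import Cfsg.Agent.K7.NDefs
import Cfsg.Agent.P8.PjB
import Cfsg.Agent.P8.E73

/-!
# Pushing up `L₃(2)`: fixed point free elements of order seven
-/

set_option autoImplicit false
set_option linter.unusedSectionVars false
set_option linter.style.haveILetI false

namespace Cfsg.Lib.K7.N3

open Cfsg Subgroup Cfsg.Lib.Trans Cfsg.Lib.Gold Matrix
open Cfsg.Lib.P8 (L32 V3 O2 Om Jt Phi EA Pj Ty Mx Crd)
open scoped commutatorElement

universe u

variable {G : Type u} [Group G] [Finite G] {M T S V R X Y : Subgroup G} {π ρ : G → L32} {c κ τ : G → V3}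
  {u g : G} {ε : ZMod 2}

theorem lift (h : Pj M T ρ) (A : L32) (hA : Odd (orderOf A)) :
    ∃ σ ∈ M, ρ σ = A ∧ orderOf σ = orderOf A := by
  obtain ⟨m, hm, rfl⟩ := h.sur A
  obtain ⟨b, hb, h1, h2⟩ := P8.PjBH.odd h m hm hA
  exact ⟨b, zpowers_le.2 hm hb, h1, h2⟩

theorem fpq (hT : IsPGroup 2 T) (hn : M ≤ Ns T) (h : Fp M T) {K : Subgroup G} (hK : K ≤ T) {σ w : G}
    (hσ : σ ∈ M) (h7 : orderOf σ = 7) (hσK : σ ∈ Ns K) (hw : w ∈ T) (hc : σ * w * σ⁻¹ * w⁻¹ ∈ K) :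
    w ∈ K := by
  classical
  haveI : Fact (Nat.Prime 7) := ⟨by norm_num⟩
  have st : ∀ x : G, x * w⁻¹ ∈ K → σ * x * σ⁻¹ * w⁻¹ ∈ K := fun x hx => by
    rw [show σ * x * σ⁻¹ * w⁻¹ = σ * (x * w⁻¹) * σ⁻¹ * (σ * w * σ⁻¹ * w⁻¹) by group]
    exact mul_mem (mem_normalizer_conj hσK hx) hc
  let f : {x : G // x * w⁻¹ ∈ K} → {x : G // x * w⁻¹ ∈ K} := fun x => ⟨_, st x x.2⟩
  have fi : Function.Injective f := fun a b k =>
    Subtype.ext (mul_left_cancel (mul_right_cancel (congrArg Subtype.val k)))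
  let e : Equiv.Perm {x : G // x * w⁻¹ ∈ K} :=
    Equiv.ofBijective f (Finite.injective_iff_bijective.1 fi)
  have ep : ∀ (n : ℕ) x, ((e ^ n) x : G) = σ ^ n * x * (σ ^ n)⁻¹ := fun n x => by
    induction n with
    | zero => simp
    | succ n ih =>
      rw [pow_succ', Equiv.Perm.mul_apply]
      change σ * ((e ^ n) x : G) * σ⁻¹ = _
      rw [ih, pow_succ']
      group
  letI := Fintype.ofFinite {x : G // x * w⁻¹ ∈ K}
  obtain ⟨a, ha⟩ := Equiv.Perm.exists_fixed_point_of_prime (p := 7) (n := 1) (σ := e) (by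
    obtain ⟨k, hk⟩ := (hT.to_le hK).exists_card_eq
    rw [← Nat.card_eq_fintype_card,
      Nat.card_congr ((Equiv.mulRight w⁻¹).subtypeEquiv (p := fun x => x * w⁻¹ ∈ K) (q := fun x => x ∈ K)
        fun _ => Iff.rfl)]
    change ¬ 7 ∣ Nat.card K
    rw [hk]
    exact fun d => absurd ((Nat.prime_dvd_prime_iff_eq (by norm_num) Nat.prime_two).1
      (Nat.Prime.dvd_of_dvd_pow (by norm_num) d)) (by norm_num)) (by
    ext x
    rw [ep, pow_one, ← h7, pow_orderOf_eq_one]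
    simp)
  have a1 : (a : G) = 1 := h σ hσ h7 a ((mul_mem_cancel_right (inv_mem hw)).1 (hK a.2))
    (mul_inv_eq_iff_eq_mul.1 (congrArg Subtype.val ha))
  have := a.2
  rwa [a1, one_mul, inv_mem_iff] at this

theorem NN.qw (h : NN M T S V π c) {j : G} (hj : j ∈ M) (hc : ∀ t ∈ T, ⁅j, t⁆ ∈ V) : j ∈ T := by
  haveI : Fact (Nat.Prime 7) := ⟨by norm_num⟩
  haveI := P8.E73H.simple32
  let K : Subgroup G :=
    { carrier := {j | j ∈ M ∧ ∀ t ∈ T, ⁅j, t⁆ ∈ V}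
      one_mem' := ⟨one_mem _, fun t _ => by rw [commutatorElement_one_left]; exact one_mem _⟩
      mul_mem' := fun {a b} ha hb => ⟨mul_mem ha.1 hb.1, fun t ht => by
        rw [show ⁅a * b, t⁆ = a * ⁅b, t⁆ * a⁻¹ * ⁅a, t⁆ by simp only [commutatorElement_def]; group]
        exact mul_mem (mem_normalizer_conj (h.nV ha.1) (hb.2 t ht)) (ha.2 t ht)⟩
      inv_mem' := fun {a} ha => ⟨inv_mem ha.1, fun t ht => by
        rw [show ⁅a⁻¹, t⁆ = a⁻¹ * ⁅a, t⁆⁻¹ * a by simp only [commutatorElement_def]; group]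
        exact mem_normalizer_conj' (h.nV ha.1) (inv_mem (ha.2 t ht))⟩ }
  obtain ⟨B, mB, -⟩ := P8.PjBH.im h.pj K fun _ k => k.1
  have nB : B.Normal := ⟨fun b hb g => by
    obtain ⟨a, ha, rfl⟩ := (mB b).1 hb
    obtain ⟨m, hm, rfl⟩ := h.pj.sur g
    refine (mB _).2 ⟨m * a * m⁻¹, ⟨mul_mem (mul_mem hm ha.1) (inv_mem hm), fun t ht => ?_⟩,
      P8.PjBH.cj h.pj hm ha.1⟩
    rw [show ⁅m * a * m⁻¹, t⁆ = m * ⁅a, m⁻¹ * t * m⁆ * m⁻¹ by simp only [commutatorElement_def]; group]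
    exact mem_normalizer_conj (h.nV hm) (ha.2 _ (mem_normalizer_conj' (h.nT hm) ht))⟩
  rcases nB.eq_bot_or_eq_top with k | k
  · exact (h.pj.ker j hj).1 (mem_bot.1 (k ▸ (mB _).2 ⟨j, ⟨hj, hc⟩, rfl⟩))
  obtain ⟨A, hA⟩ := exists_prime_orderOf_dvd_card' (G := L32) 7 (by rw [P8.E73H.card32]; norm_num)
  obtain ⟨a, ha, rfl⟩ := (mB A).1 (k ▸ mem_top A)
  obtain ⟨σ, hσ, -, h2⟩ := P8.PjBH.odd h.pj a ha.1 (by rw [hA]; decide)
  have sK : σ ∈ K := zpowers_le.2 ha hσ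
  exact (h.ne fun t ht => fpq h.pj.two h.nT h.fp h.leV sK.1 (h2.trans hA) (h.nV sK.1) ht
    (sK.2 t ht)).elim

end Cfsg.Lib.K7.N3
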