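import Cfsg.Agent.K7.N3Q
import Cfsg.Agent.K7.N3F
import Cfsg.Agent.K7.N3E
import Cfsg.Agent.P8.PjB

/-!
# Pushing up `L₃(2)`: the element `g` and the involution `u`
-/

set_option autoImplicit false
set_option maxRecDepth 100000

namespace Cfsg.Lib.K7.N3

open Cfsg Subgroup Cfsg.Lib.Trans Cfsg.Lib.Gold Matrix
open Cfsg.Lib.P8 (L32 V3 O2 Om Jt Phi EA Pj Ty Mx Crd)
open scoped commutatorElement

universe u

namespace N3G

def B1 : L32 := ⟨!![1, 0, 0; 0, 1, 1; 0, 0, 1], by decide⟩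
def X2 : L32 := ⟨!![0, 1, 0; 1, 1, 0; 0, 0, 1], by decide⟩

theorem B1_eq_1' : type_of% @B1.eq_1 := @B1.eq_1
theorem X2_eq_1' : type_of% @X2.eq_1 := @X2.eq_1

theorem f1 : ∀ A : L32, up A → ∀ a : V3, a 2 = 0 → a + A.1 *ᵥ a = 0 ∨ a + A.1 *ᵥ a = e0 := by
  unfold up e0
  decide +kernel

theorem f2 : ∀ A : L32, pl A → ∀ a : V3, (A.1 *ᵥ a) 2 = a 2 := by
  unfold pl
  decide +kernel

theorem f3 : up B1 ∧ ∀ a : V3, a + B1.1 *ᵥ a = 0 ∨ a + B1.1 *ᵥ a = e0 → a 2 = 0 := by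
  unfold up e0 B1
  decide +kernel

theorem f4 : pl X2 ∧ up (X2 * (X2 * X2)) ∧
    ∀ A : L32, pl A → up A ∨ up (X2 * A) ∨ up (X2 * (X2 * A)) := by
  unfold up pl X2
  decide +kernel

theorem f5 : ∀ A : L32, (A.1 *ᵥ e0) 2 = 0 → (A.1 *ᵥ e1) 2 = 0 → pl A := by
  unfold pl e0 e1
  decide +kernel

theorem f6 : ¬ (cx e0 e2 = 0 ∨ cx e0 e2 = e0) ∧ e0 ≠ 0 ∧ e0 2 = 0 ∧ e1 2 = 0 ∧ e2 2 = 1 := by
  unfold cx e0 e1 e2
  decide +kernel

theorem f7 : ∀ a : ZMod 2, (a + a = 0) ∧ (a + (a + a) = 0 → a = 0) ∧ (a = 0 ∨ a = 1) := by decide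

variable {G : Type u} [Group G] [Finite G] {M T S V : Subgroup G} {π : G → L32} {c : G → V3} {u g : G}

omit [Finite G] in
theorem c1 (h : NN M T S V π c) : c 1 = 0 := (h.crd.zero 1 (one_mem _)).2 rfl

omit [Finite G] in
theorem cj (h : NN M T S V π c) {m v : G} (hm : m ∈ M) (hv : v ∈ V) : m * v * m⁻¹ ∈ V :=
  (mem_normalizer_iff.1 (h.nV hm) v).1 hv

theorem cm (h : NN M T S V π c) {m v : G} (hm : m ∈ M) (hv : v ∈ V) :
    ⁅v, m⁆ ∈ V ∧ c ⁅v, m⁆ = c v + (π m).1 *ᵥ c v := by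
  have e : ⁅v, m⁆ = v * (m * v * m⁻¹) := by
    rw [commutatorElement_def, inv_eq_of_mul_eq_one_right (h.sq v hv)]; group
  rw [e, h.crd.add _ hv _ (cj h hm hv), h.crd.eqv _ hm _ hv]
  exact ⟨mul_mem hv (cj h hm hv), rfl⟩

omit [Finite G] in
theorem cs (hg : g ∈ Ns S) {s : G} (hs : s ∈ S) : g⁻¹ * s * g ∈ S := by
  simpa using (mem_normalizer_iff.1 (inv_mem hg) s).1 hs

omit [Finite G] in
theorem cc (g w s : G) : ⁅g * w * g⁻¹, s⁆ = g * ⁅w, g⁻¹ * s * g⁆ * g⁻¹ := by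
  simp only [commutatorElement_def]; group

theorem sq (h : NN M T S V π c) (g : G) {v : G} (hv : v ∈ V) : g * v * g⁻¹ * (g * v * g⁻¹) = 1 := by
  rw [show g * v * g⁻¹ * (g * v * g⁻¹) = g * (v * v) * g⁻¹ by group, h.sq v hv]; group

theorem gz (h : NN M T S V π c) (hg : g ∈ Ns S) (v : G) (hv : v ∈ V) (e : c v = e0) :
    g * v * g⁻¹ = v := by
  obtain ⟨k1, k2⟩ := h.zc (sq h g hv) (mem_Cs.2 fun s hs => by
    rw [show s * (g * v * g⁻¹) = g * (g⁻¹ * s * g * v) * g⁻¹ by group,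
      mem_Cs.1 (h.zS hv e) _ (cs hg hs)]; group)
  refine h.inj _ k1 _ hv ((k2.resolve_left fun k => f6.2.1 ?_).trans e.symm)
  have k3 : v = 1 := by simpa using (h.crd.zero _ k1).1 k
  rw [← e, k3, c1 h]

theorem gW (h : NN M T S V π c) (hB : ∀ u, UU T S V c u → ∃ τ ε, UB M T V π c u τ ε) (hg : g ∈ Ns S)
    (w : G) (hw : w ∈ V) (e : c w 2 = 0) : g * w * g⁻¹ ∈ V ∧ c (g * w * g⁻¹) 2 = 0 := by
  have key : ∀ s ∈ S, ⁅g * w * g⁻¹, s⁆ ∈ V ∧ (c ⁅g * w * g⁻¹, s⁆ = 0 ∨ c ⁅g * w * g⁻¹, s⁆ = e0) :=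
    fun s hs => by
      obtain ⟨k0, k3⟩ := (h.memS _).1 (cs hg hs)
      obtain ⟨k1, k2⟩ := cm h k0 hw
      rw [cc]
      rcases k2 ▸ f1 _ k3 _ e with k | k
      · rw [(h.crd.zero _ k1).1 k, mul_one, mul_inv_cancel]
        exact ⟨one_mem _, .inl (c1 h)⟩
      · rw [gz h hg _ k1 k]
        exact ⟨k1, .inr k⟩
  have wS : g * w * g⁻¹ ∈ S := (mem_normalizer_iff.1 hg w).1 (h.TS (h.leV hw))
  have wT := h.qw (h.SM wS) fun t ht => (key t (h.TS ht)).1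
  have wV : g * w * g⁻¹ ∈ V := by
    by_contra n
    obtain ⟨τ, ε, hb⟩ := hB _ ⟨wT, n, sq h g hw, fun s hs => (key s hs).1, fun t ht => by
      rcases (key t (h.TS ht)).2 with k | k <;> rw [k]
      exacts [rfl, f6.2.2.1]⟩
    obtain ⟨t, ht, k⟩ := hb.sur e0
    have k1 := (hb.cm 1 (one_mem _) t ht).2
    rw [one_mul, inv_one, mul_one, k, P8.PjBH.one h.pj, ph_one] at k1
    exact f6.1 (k1 ▸ (key t (h.TS ht)).2)
  obtain ⟨s, hs, k⟩ := h.pj.sur B1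
  have k1 := (key s ((h.memS s).2 ⟨hs, k ▸ f3.1⟩)).2
  rw [(cm h hs wV).2, k] at k1
  exact ⟨wV, f3.2 _ k1⟩

/-- An element mapping the plane and one more vector into `V` normalizes `V`. -/
theorem nor (h : NN M T S V π c) {n v₀ : G} (h0 : v₀ ∈ V) (e : c v₀ 2 = 1) (h1 : n * v₀ * n⁻¹ ∈ V)
    (h2 : ∀ w ∈ V, c w 2 = 0 → n * w * n⁻¹ ∈ V) : n ∈ M :=
  h.nV' (mem_normalizer_fintype fun v hv => by
    rcases (f7 (c v 2)).2.2 with k | k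
    · exact h2 v hv k
    · have k1 := mul_mem h1 (h2 _ (mul_mem h0 hv) (by
        rw [h.crd.add _ h0 _ hv, Pi.add_apply, e, k]; decide))
      rwa [show n * v₀ * n⁻¹ * (n * (v₀ * v) * n⁻¹) = n * (v₀ * v₀ * v) * n⁻¹ by group, h.sq _ h0,
        one_mul] at k1)

theorem fix (h : NN M T S V π c) (hB : ∀ u, UU T S V c u → ∃ τ ε, UB M T V π c u τ ε)
    (hu : UU T S V c u) (hS : ∀ s ∈ S, c ⁅u, s⁆ 2 = 0) {m : G} (hm : m ∈ M) (hp : pl (π m)) :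
    ∃ v ∈ V, m * u * m⁻¹ = u * v ∧ c v 2 = 0 := by
  obtain ⟨τ, ε, hb⟩ := hB u hu
  have ui : u⁻¹ = u := inv_eq_of_mul_eq_one_right hu.sq
  have one := fun t ht => hb.cm 1 (one_mem _) t ht
  have tu := hb.tu 1 (one_mem _)
  simp only [one_mul, inv_one, mul_one, P8.PjBH.one h.pj, ph_one] at one tu
  have ex : ∀ m ∈ M, pl (π m) → ∃ a, ∃ v ∈ V, m * u * m⁻¹ = u * v ∧ c v 2 = a := fun m hm hp => by
    have k : ∀ t ∈ T, ⁅m * u * m⁻¹, t⁆ = ⁅u, t⁆ := fun t ht =>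
      h.inj _ (hb.cm m hm t ht).1 _ (one t ht).1 (by
        rw [(hb.cm m hm t ht).2, (one t ht).2, (pl_iff _).1 hp])
    have mT : m * u * m⁻¹ ∈ T := (mem_normalizer_iff.1 (h.nT hm) u).1 hu.uT
    refine ⟨_, u⁻¹ * (m * u * m⁻¹), h.om _ (mul_mem (inv_mem hu.uT) mT) ?_ (mem_Cs.2 fun t ht => ?_),
      (mul_inv_cancel_left _ _).symm, rfl⟩
    · have k1 := commutatorElement_eq_one_iff_mul_comm.1 ((k u hu.uT).trans (commutatorElement_self u))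
      rw [ui, show u * (m * u * m⁻¹) * (u * (m * u * m⁻¹)) = u * (m * u * m⁻¹ * u) * (m * u * m⁻¹) by group,
        k1, show u * (u * (m * u * m⁻¹)) * (m * u * m⁻¹) = u * u * (m * (u * u) * m⁻¹) by group, hu.sq]
      group
    · have k1 := k t ht
      generalize m * u * m⁻¹ = a at k1
      rw [commutatorElement_def, commutatorElement_def, mul_left_inj] at k1
      calc t * (u⁻¹ * a) = u⁻¹ * (u * t * u⁻¹) * a := by group
        _ = u⁻¹ * a * t := by rw [← k1]; group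
  have mul : ∀ m ∈ M, pl (π m) → ∀ n a b, (∃ v ∈ V, m * u * m⁻¹ = u * v ∧ c v 2 = a) →
      (∃ v ∈ V, n * u * n⁻¹ = u * v ∧ c v 2 = b) →
      ∃ v ∈ V, m * n * u * (m * n)⁻¹ = u * v ∧ c v 2 = a + b := by
    rintro m hm hp n _ _ ⟨v, hv, k, rfl⟩ ⟨w, hw, l, rfl⟩
    refine ⟨v * (m * w * m⁻¹), mul_mem hv (cj h hm hw), ?_, ?_⟩
    · rw [← mul_assoc u, ← k, show m * n * u * (m * n)⁻¹ = m * (n * u * n⁻¹) * m⁻¹ by group, l]; group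
    · rw [h.crd.add _ hv _ (cj h hm hw), h.crd.eqv _ hm _ hw, Pi.add_apply, f2 _ hp]
  have z : ∀ s ∈ M, up (π s) → ∀ a, (∃ v ∈ V, s * u * s⁻¹ = u * v ∧ c v 2 = a) → a = 0 := by
    rintro s hs hp _ ⟨v, -, k, rfl⟩
    have k1 := hS s ((h.memS s).2 ⟨hs, hp⟩)
    rwa [show ⁅u, s⁆ = v by
      rw [commutatorElement_def, ui, show u * s * u * s⁻¹ = u * (s * u * s⁻¹) by group, k, ← mul_assoc,
        hu.sq, one_mul]] at k1
  obtain ⟨x, hx, ex2⟩ := h.pj.sur X2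
  have px : pl (π x) := ex2 ▸ f4.1
  obtain ⟨b, hb⟩ := ex x hx px
  obtain rfl : b = 0 := (f7 b).2.1 (z _ (mul_mem hx (mul_mem hx hx)) (by
    rw [h.pj.mul _ hx _ (mul_mem hx hx), h.pj.mul _ hx _ hx, ex2]; exact f4.2.1) _
    (mul x hx px _ _ _ hb (mul x hx px _ _ _ hb hb)))
  obtain ⟨a, ha⟩ := ex m hm hp
  obtain rfl : a = 0 := by
    rcases f4.2.2 _ hp with k | k | k
    · exact z m hm k a ha
    · simpa using z _ (mul_mem hx hm) (by rwa [h.pj.mul _ hx _ hm, ex2]) _ (mul x hx px _ _ _ hb ha)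
    · simpa using z _ (mul_mem hx (mul_mem hx hm))
        (by rwa [h.pj.mul _ hx _ (mul_mem hx hm), h.pj.mul _ hx _ hm, ex2]) _
        (mul x hx px _ _ _ hb (mul x hx px _ _ _ hb ha))
  exact ha

end N3G

variable {G : Type u} [Group G] [Finite G] {M T S V : Subgroup G} {π : G → L32} {c : G → V3} {g : G}

open N3G in
theorem NN.gu (h : NN M T S V π c) (hB : ∀ u, UU T S V c u → ∃ τ ε, UB M T V π c u τ ε) (hg : g ∈ Ns S)
    (h2 : g * g ∈ S) (hM : g ∉ M) : ∃ u, GU M T S V π c g u := by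
  have W1 := gW h hB hg
  have W2 := gW h hB (inv_mem hg)
  simp only [inv_inv] at W2
  obtain ⟨v, hv, ev⟩ := h.crd.sur e2
  have e1' : c v 2 = 1 := ev ▸ f6.2.2.2.2
  have key : ∀ s ∈ S, ⁅g * v * g⁻¹, s⁆ ∈ V ∧ c ⁅g * v * g⁻¹, s⁆ 2 = 0 := fun s hs => by
    obtain ⟨k0, k3⟩ := (h.memS _).1 (cs hg hs)
    obtain ⟨k1, k2⟩ := cm h k0 hv
    rw [cc]
    exact W1 _ k1 (by rw [k2, Pi.add_apply, f2 _ k3.2]; exact (f7 _).1)
  have uS : g * v * g⁻¹ ∈ S := (mem_normalizer_iff.1 hg v).1 (h.TS (h.leV hv))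
  have uu : UU T S V c (g * v * g⁻¹) := ⟨h.qw (h.SM uS) fun t ht => (key t (h.TS ht)).1,
    fun k => hM (nor h hv e1' k fun w hw e => (W1 w hw e).1), N3G.sq h g hv, fun s hs => (key s hs).1,
    fun t ht => (key t (h.TS ht)).2⟩
  have u1 : g⁻¹ * (g * v * g⁻¹) * g = v := by group
  obtain ⟨g1, g2⟩ := (h.memS _).1 h2
  refine ⟨_, hg, h2, hM, gz h hg, W1, W2, uu, by rw [u1]; exact ⟨hv, e1'⟩, ?_, fun m hm hp => ?_⟩
  · rw [show g * (g * v * g⁻¹) * g⁻¹ = g * g * v * (g * g)⁻¹ by group, h.crd.eqv _ g1 _ hv, f2 _ g2.2]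
    exact ⟨cj h g1 hv, e1'⟩
  · have W3 : ∀ w ∈ V, c w 2 = 0 → g⁻¹ * m * g * w * (g⁻¹ * m * g)⁻¹ ∈ V ∧
        c (g⁻¹ * m * g * w * (g⁻¹ * m * g)⁻¹) 2 = 0 := fun w hw e => by
      obtain ⟨k1, k2⟩ := W1 w hw e
      rw [show g⁻¹ * m * g * w * (g⁻¹ * m * g)⁻¹ = g⁻¹ * (m * (g * w * g⁻¹) * m⁻¹) * g by group]
      exact W2 _ (cj h hm k1) (by rw [h.crd.eqv _ hm _ k1, f2 _ hp, k2])
    obtain ⟨w, hw, k, l⟩ := fix h hB uu (fun s hs => (key s hs).2) hm hp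
    have nM : g⁻¹ * m * g ∈ M := nor h hv e1' (by
      rw [show g⁻¹ * m * g * v * (g⁻¹ * m * g)⁻¹ = g⁻¹ * (m * (g * v * g⁻¹) * m⁻¹) * g by group, k,
        show g⁻¹ * (g * v * g⁻¹ * w) * g = v * (g⁻¹ * w * g) by group]
      exact mul_mem hv (W2 w hw l).1) fun w hw e => (W3 w hw e).1
    obtain ⟨a, ha, ea⟩ := h.crd.sur e0
    obtain ⟨b, hb, eb⟩ := h.crd.sur e1
    have ka := (W3 a ha (ea ▸ f6.2.2.1)).2
    have kb := (W3 b hb (eb ▸ f6.2.2.2.1)).2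
    rw [h.crd.eqv _ nM _ ha, ea] at ka
    rw [h.crd.eqv _ nM _ hb, eb] at kb
    exact ⟨nM, f5 _ ka kb⟩

end Cfsg.Lib.K7.N3
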