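import Cfsg.Agent.K7.N3E

/-! Pushing up `L₃(2)`: the conjugate of the module of order `2 ^ 6`. -/

set_option autoImplicit false
set_option maxRecDepth 100000

namespace Cfsg.Lib.K7.N3

open Cfsg Subgroup Cfsg.Lib.Trans Cfsg.Lib.Gold Matrix
open Cfsg.Lib.P8 (L32 V3 O2 Om Jt Phi EA Pj Ty Mx Crd)
open scoped commutatorElement

universe u

theorem N3H.un : ∀ A : L32, A.1 1 0 = 0 ∧ A.1 2 0 = 0 ∧ A.1 2 1 = 0 → ∀ x : V3, x 0 = 0 →
    x + x ᵥ* (A⁻¹).1 = 0 ∨ x + x ᵥ* (A⁻¹).1 = ![0, 0, 1] := by decide +kernel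

variable {G : Type u} [Group G] [Finite G] {M T S V R X Y : Subgroup G} {π ρ : G → L32} {c κ τ : G → V3}
  {u g : G} {ε : ZMod 2}

theorem NN.xg {ξ : G → V3} (h : NN M T S V π c) (hG : GU M T S V π c g u) (hX : XB M T V X π c u τ ξ) :
    XG T S X ξ g := by
  have cm : ∀ a ∈ X, ∀ b ∈ X, g * a * g⁻¹ * (g * b * g⁻¹) = g * b * g⁻¹ * (g * a * g⁻¹) :=
    fun a ha b hb => by
      have : a * b = b * a := congrArg Subtype.val (hX.ea.1.is_comm.comm ⟨a, ha⟩ ⟨b, hb⟩)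
      calc _ = g * (a * b) * g⁻¹ := by group
        _ = _ := by rw [this]; group
  have fV : ∀ v ∈ V, g * v * g⁻¹ ∈ X := fun v hv => by
    rcases (by decide : ∀ x : ZMod 2, x = 0 ∨ x = 1) (c v 2) with e | e
    · exact hX.leV (hG.gW v hv e).1
    · have := hX.leV (hG.gW _ (mul_mem hG.u1.1 hv) (by
        rw [h.crd.add _ hG.u1.1 _ hv, Pi.add_apply, hG.u1.2, e]; decide)).1
      rwa [show g * (g⁻¹ * u * g * v) * g⁻¹ = u * (g * v * g⁻¹) by group,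
        mul_mem_cancel_left hX.uX] at this
  refine ⟨fun a ha => h.cV3 hG.u2.1 hG.u2.2 (cm a ha u hX.uX) fun w hw e => ?_,
    fun a ha e s hs => ?_⟩
  · have := cm a ha _ (hX.leV (hG.gW' w hw e).1)
    rwa [show g * (g⁻¹ * w * g) * g⁻¹ = w by group] at this
  have hs' := (h.memS _).1 ((mem_normalizer_iff''.1 hG.gS s).1 hs)
  have ai : a⁻¹ = a := inv_eq_of_mul_eq_one_right (by rw [← pow_two]; exact hX.ea.2 a ha)
  have h1 := (mem_normalizer_iff.1 (hX.nX hs'.1) a).1 ha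
  have h2 := N3H.un _ hs'.2 _ e
  rw [← hX.eqv _ hs'.1 a ha, ← hX.add a ha _ h1] at h2
  have h3 := mul_mem ha h1
  rw [show ⁅g * a * g⁻¹, s⁆ = g * (a * (g⁻¹ * s * g * a⁻¹ * (g⁻¹ * s * g)⁻¹)) * g⁻¹ by
    rw [commutatorElement_def]; group, ai]
  generalize a * (g⁻¹ * s * g * a * (g⁻¹ * s * g)⁻¹) = b at h2 h3
  rcases h2 with h2 | h2
  · exact fV b ((hX.ker b h3).1 h2)
  · have := fV _ ((hX.ker _ (mul_mem hX.uX h3)).1 (by rw [hX.add _ hX.uX _ h3, hX.xu, h2]; decide))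
    rwa [show g * (u * b) * g⁻¹ = g * u * g⁻¹ * (g * b * g⁻¹) by group,
      mul_mem_cancel_left (hX.leV hG.u2.1)] at this

end Cfsg.Lib.K7.N3
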