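import Cfsg.Agent.K7.N3D
import Cfsg.Agent.K7.N3P
import Cfsg.Agent.K7.N3R
import Cfsg.Agent.K7.N3E
import Cfsg.Agent.K7.N3Q

/-!
# Pushing up `L₃(2)` with a fixed point free element of order seven: the end
-/

set_option autoImplicit false
set_option linter.unusedSectionVars false

namespace Cfsg.Lib.K7.N3

open Cfsg Subgroup Cfsg.Lib.Trans Cfsg.Lib.Gold Matrix
open Cfsg.Lib.P8 (L32 V3 O2 Om Jt Phi EA Pj Ty Mx Crd)
open scoped commutatorElement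

universe u

variable {G : Type u} [Group G] [Finite G] {M T S V R X Y : Subgroup G} {π ρ : G → L32} {c κ τ : G → V3}
  {u g : G} {ε : ZMod 2}

theorem N3L.PjInv (h : Pj M T π) {a : G} (ha : a ∈ M) : π a⁻¹ = (π a)⁻¹ :=
  eq_inv_of_mul_eq_one_left (by
    rw [← h.mul _ (inv_mem ha) _ ha, inv_mul_cancel]; exact (h.ker 1 M.one_mem).2 T.one_mem)

namespace N3L

theorem t1 {ξ : G → V3} (hX : XB M T V X π c u τ ξ) : τ 1 = 0 := by
  have := hX.add' 1 T.one_mem 1 T.one_mem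
  rw [mul_one] at this
  exact add_eq_left.1 this.symm

theorem c1 (h : NN M T S V π c) : c 1 = 0 := (h.crd.zero 1 V.one_mem).2 rfl

theorem cj (hn : M ≤ Ns T) {m t : G} (hm : m ∈ M) (ht : t ∈ T) : m * t * m⁻¹ ∈ T :=
  (mem_normalizer_iff.1 (hn hm) t).1 ht

theorem exR {ξ : G → V3} (h : NN M T S V π c) (hX : XB M T V X π c u τ ξ) :
    ∃ R : Subgroup G, (∀ t, t ∈ R ↔ t ∈ T ∧ τ t = 0) ∧ M ≤ Ns R ∧ R ≠ ⊥ ∧
      ∀ a ∈ X, ∀ t ∈ R, a * t = t * a := by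
  let R : Subgroup G :=
    { carrier := {t | t ∈ T ∧ τ t = 0}
      mul_mem' := fun {a b} ha hb => ⟨mul_mem ha.1 hb.1, by
        rw [hX.add' a ha.1 b hb.1, ha.2, hb.2, add_zero]⟩
      one_mem' := ⟨T.one_mem, t1 hX⟩
      inv_mem' := fun {a} ha => ⟨inv_mem ha.1, by
        have := hX.add' a ha.1 a⁻¹ (inv_mem ha.1)
        rw [mul_inv_cancel, t1 hX, ha.2, zero_add] at this
        exact this.symm⟩ }
  refine ⟨R, fun _ => Iff.rfl, fun m hm => mem_normalizer_fintype fun t ht => ?_, ?_, ?_⟩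
  · exact ⟨cj h.nT hm ht.1, by rw [hX.eqv' m hm t ht.1, ht.2, zero_vecMul]⟩
  · obtain ⟨v, hv, e⟩ := h.crd.sur e0
    have hR : v ∈ R := by
      refine ⟨h.leV hv, cx_inj _ fun b => ?_⟩
      obtain ⟨a, ha, rfl⟩ := hX.sur b
      rw [← (hX.cm a ha v (h.leV hv)).2,
        commutatorElement_eq_one_iff_mul_comm.2 (h.cV hv a (hX.leT ha)), c1 h]
    intro hb
    rw [hb, mem_bot] at hR
    rw [hR, c1 h] at e
    exact absurd e (by decide)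
  · intro a ha t ht
    obtain ⟨h1, h2⟩ := hX.cm a ha t ht.1
    rw [ht.2, cx_zero_l] at h2
    exact commutatorElement_eq_one_iff_mul_comm.1 ((h.crd.zero _ h1).1 h2)

theorem cx21 : ∀ x : ZMod 2, cx (x • e2) e1 = x • e0 := by decide

theorem z01 : ∀ x : ZMod 2, x = 0 ∨ x = 1 := by decide

theorem sm_inj : ∀ (x y : ZMod 2) (v : V3), v ≠ 0 → x • v = y • v → x = y := by decide

theorem fin3 : ∀ (x : ZMod 2) (v : V3), x = v ⬝ᵥ e0 → x = v ⬝ᵥ e1 → x = v ⬝ᵥ (e0 + e1) → x = 0 := by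
  decide

theorem e22 : ∀ x : ZMod 2, (x • e2) 2 = x := by decide

theorem e02 : ∀ x : ZMod 2, (x • e0) 2 = 0 := by decide

theorem pl_inv {A : L32} (hA : ph A = e2) : pl A⁻¹ := by
  have := ph_mul A⁻¹ A
  rw [inv_mul_cancel, ph_one, hA] at this
  exact (pl_iff _).2 this.symm

/-- the conjugate of an element of `R`. -/
theorem t0 {ξ : G → V3} (h : NN M T S V π c) (hG : GU M T S V π c g u) (hX : XB M T V X π c u τ ξ)
    {t : G} (ht : t ∈ T) (hu : u * t = t * u) :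
    g⁻¹ * t * g ∈ T ∧ τ (g⁻¹ * t * g) = τ (g⁻¹ * t * g) 2 • e2 := by
  have h1 : g⁻¹ * t * g ∈ T := by
    refine h.cV3 hG.u1.1 hG.u1.2 ?_ fun w hw h2 => ?_
    · calc g⁻¹ * t * g * (g⁻¹ * u * g) = g⁻¹ * (t * u) * g := by group
        _ = g⁻¹ * u * g * (g⁻¹ * t * g) := by rw [← hu]; group
    · have := h.cV (hG.gW w hw h2).1 t ht
      calc g⁻¹ * t * g * w = g⁻¹ * (t * (g * w * g⁻¹)) * g := by group
        _ = w * (g⁻¹ * t * g) := by rw [this]; group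
  refine ⟨h1, cx_e2 _ ?_⟩
  have h2 : u * (g⁻¹ * t * g) = g⁻¹ * t * g * u := by
    have := h.cV hG.u2.1 t ht
    calc u * (g⁻¹ * t * g) = g⁻¹ * (g * u * g⁻¹ * t) * g := by group
      _ = g⁻¹ * t * g * u := by rw [← this]; group
  rw [← hX.xu, ← (hX.cm u hX.uX _ h1).2, commutatorElement_eq_one_iff_mul_comm.2 h2, c1 h]

theorem ce {ξ : G → V3} (h : NN M T S V π c) (hG : GU M T S V π c g u) (hX : XB M T V X π c u τ ξ)
    {t a : G} (ht : t ∈ T) (hu : u * t = t * u) (ha : a ∈ X) (h1 : ξ a = e1) :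
    ⁅g * a * g⁻¹, t⁆ ∈ V ∧ c ⁅g * a * g⁻¹, t⁆ = τ (g⁻¹ * t * g) 2 • e0 := by
  obtain ⟨k1, k2⟩ := t0 h hG hX ht hu
  obtain ⟨k3, k4⟩ := hX.cm a ha _ k1
  rw [h1, k2, cx21] at k4
  have e : ⁅g * a * g⁻¹, t⁆ = g * ⁅a, g⁻¹ * t * g⁆ * g⁻¹ := by
    simp only [commutatorElement_def]; group
  have e' : g * ⁅a, g⁻¹ * t * g⁆ * g⁻¹ = ⁅a, g⁻¹ * t * g⁆ := by
    rcases z01 (τ (g⁻¹ * t * g) 2) with k | k
    · rw [k, zero_smul] at k4
      rw [(h.crd.zero _ k3).1 k4, mul_one, mul_inv_cancel]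
    · rw [k, one_smul] at k4
      exact hG.gz _ k3 k4
  rw [e, e']
  exact ⟨k3, k4⟩

end N3L

open N3L in
theorem NN.fin {ξ : G → V3} (h : NN M T S V π c) (hG : GU M T S V π c g u) (hX : XB M T V X π c u τ ξ)
    (hH : XG T S X ξ g) : False := by
  obtain ⟨R, hR, nR, neR, cR⟩ := exR h hX
  obtain ⟨a, ha, h1⟩ := hX.sur e1
  have leR : R ≤ T := fun t ht => ((hR t).1 ht).1
  have hce : ∀ t ∈ R, ⁅g * a * g⁻¹, t⁆ ∈ V ∧ c ⁅g * a * g⁻¹, t⁆ = τ (g⁻¹ * t * g) 2 • e0 :=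
    fun t ht => ce h hG hX (leR ht) (cR u hX.uX t ht) ha h1
  have pd : PD M T R V π c (g * a * g⁻¹) := by
    refine ⟨h.pj, h.nT, h.fp, leR, nR, h.leV, h.nV, h.crd.add, h.crd.eqv, hH.le a ha,
      fun t ht => (hce t ht).1, fun t ht => by rw [(hce t ht).2, e02], fun s hs hu t ht => ?_⟩
    have hx := inv_mem (hH.cS a ha (by rw [h1]; rfl) s ((h.memS s).2 ⟨hs, hu⟩))
    generalize g * a * g⁻¹ = e at hx hce
    obtain ⟨x, hx'⟩ : ∃ x, x = ⁅e, s⁆⁻¹ := ⟨_, rfl⟩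
    rw [← hx'] at hx
    have e1 : s * e * s⁻¹ = x * e := by rw [hx', commutatorElement_def]; group
    have e2 := cR x hx t ht
    have e3 := h.cV (hce t ht).1 x (hX.leT hx)
    have e4 : ⁅x * e, t⁆ = ⁅e, t⁆ := by
      calc ⁅x * e, t⁆ = x * ⁅e, t⁆ * x⁻¹ * (x * t) * x⁻¹ * t⁻¹ := by
            simp only [commutatorElement_def]; group
        _ = ⁅e, t⁆ := by rw [e2, e3]; group
    rw [e1, e4]
  have key : ∀ t ∈ R, g⁻¹ * t * g⁻¹⁻¹ ∈ R := by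
    intro t ht
    rw [inv_inv]
    obtain ⟨f, hf, hm⟩ := pd.cd ht
    obtain ⟨n, τ', hn, hA⟩ := eLem hf
    have cjR : ∀ m ∈ M, m⁻¹ * t * m ∈ R := fun m hm => by
      have := cj nR (inv_mem hm) ht
      rwa [inv_inv] at this
    have k1 : ∀ m ∈ M, f (π m) = τ (g⁻¹ * (m⁻¹ * t * m) * g) 2 • pt (π m) := by
      intro m hm'
      obtain ⟨l1, l2⟩ := hce _ (cjR m hm')
      have e : ⁅m * (g * a * g⁻¹) * m⁻¹, t⁆ = m * ⁅g * a * g⁻¹, m⁻¹ * t * m⁆ * m⁻¹ := by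
        simp only [commutatorElement_def]; group
      rw [← (hm m hm').2, e, h.crd.eqv m hm' _ l1, l2, mulVec_smul]
      rfl
    have k2 := eK0 hn (τ := τ') fun A => by
      obtain ⟨m, hm', rfl⟩ := h.pj.sur A
      exact ⟨_, by rw [← hA, k1 m hm']⟩
    obtain ⟨l1, l2⟩ := t0 h hG hX (leR ht) (cR u hX.uX t ht)
    have k3 : ∀ z : V3, z ≠ 0 → e2 ⬝ᵥ z = 0 → τ (g⁻¹ * t * g) 2 = τ' ⬝ᵥ z := by
      intro z hz hz'
      obtain ⟨A, rfl, hA'⟩ := ex_flag z e2 hz (by decide) hz'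
      obtain ⟨m, hm', rfl⟩ := h.pj.sur A
      have hp : pl (π m⁻¹) := by rw [PjInv h.pj hm']; exact pl_inv hA'
      obtain ⟨l3, l4⟩ := hG.ga m⁻¹ (inv_mem hm') hp
      have e : g⁻¹ * (m⁻¹ * t * m) * g = g⁻¹ * m⁻¹ * g * (g⁻¹ * t * g) * (g⁻¹ * m⁻¹ * g)⁻¹ := by
        group
      have l5 := k2 (π m)
      rw [← hA, k1 m hm', e, hX.eqv' _ l3 _ l1, l2, smul_vecMul] at l5
      have l6 : e2 ᵥ* ((π (g⁻¹ * m⁻¹ * g))⁻¹).1 = e2 := (pl_iff _).1 l4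
      rw [l6, e22] at l5
      exact sm_inj _ _ _ hz l5
    have k4 := fin3 _ τ' (k3 e0 (by decide) (by decide)) (k3 e1 (by decide) (by decide))
      (k3 (e0 + e1) (by decide) (by decide))
    rw [k4, zero_smul] at l2
    exact (hR _).2 ⟨l1, l2⟩
  have := h.mx R neR leR nR (mem_normalizer_fintype (x := g⁻¹) key)
  exact hG.gM (inv_mem_iff.1 this)

end Cfsg.Lib.K7.N3
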