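import Cfsg.Agent.K7.N3E
import Cfsg.Agent.K7.N3B

/-! Pushing up `L₃(2)`: the parameter vanishes, and the module of order `2 ^ 6`. -/

set_option autoImplicit false
set_option maxRecDepth 100000

namespace Cfsg.Lib.K7.N3

open Cfsg Subgroup Cfsg.Lib.Trans Cfsg.Lib.Gold Matrix
open Cfsg.Lib.P8 (L32 V3 O2 Om Jt Phi EA Pj Ty Mx Crd)
open scoped commutatorElement

universe u

namespace N3X

theorem ca : ∀ a b d : V3, cx a (b + d) = cx a d + cx a b := by unfold cx; decide +kernel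

theorem cz : ∀ a : V3, cx a 0 = 0 := by unfold cx; decide +kernel

theorem cz' : ∀ a : V3, cx 0 a = 0 := by unfold cx; decide +kernel

theorem ci : ∀ a : V3, (∀ b, b ≠ 0 → cx a b = 0) → a = 0 := by unfold cx; decide +kernel

theorem ci' : ∀ a b : V3, (∀ d, cx d a = cx d b) → a = b := by unfold cx; decide +kernel

theorem cs : ∀ z : V3, z 2 = 1 → ∃ a b : V3, a ≠ 0 ∧ b ≠ 0 ∧ a + b ≠ 0 ∧ cx b a = z := by
  unfold cx; decide +kernel

theorem aa : ∀ a b : V3, a + b + (a + b) = 0 := by decide +kernel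

theorem e2n : e2 ≠ 0 := by unfold e2; decide

theorem p1 : ph 1 = e2 := by rw [ph, inv_one]; exact vecMul_one _

theorem ep (φ : V3) (h : φ ≠ 0) : ∃ A : L32, ph A = φ := by
  obtain ⟨A, e⟩ := N3B.tr e2 φ e2n h
  exact ⟨A⁻¹, by rw [ph, inv_inv, e]⟩

theorem ce0 (B : Matrix (Fin 3) (Fin 3) (ZMod 2)) (a b : V3) :
    cx (a ᵥ* B) (b ᵥ* B) = adjugate B *ᵥ cx a b := by
  rw [adjugate_fin_three]
  ext i
  fin_cases i <;>
  · simp [cx, vecMul, mulVec, dotProduct, Fin.sum_univ_three]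
    rw [← sub_eq_zero]
    ring_nf
    reduce_mod_char

theorem ce (A : L32) (a b : V3) : cx (a ᵥ* (A⁻¹).1) (b ᵥ* (A⁻¹).1) = A.1 *ᵥ cx a b := by
  have e : adjugate (A⁻¹).1 = A.1 :=
    (Matrix.SpecialLinearGroup.coe_inv A⁻¹).symm.trans (congrArg Subtype.val (inv_inv A))
  rw [ce0, e]

variable {G : Type u} [Group G]

/-- `e` acts on `T` like the functional `φ`. -/
def Q (T V : Subgroup G) (c τ : G → V3) (e : G) (φ : V3) : Prop :=
  e ∈ T ∧ ∀ t ∈ T, ⁅e, t⁆ ∈ V ∧ c ⁅e, t⁆ = cx (τ t) φ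

theorem Q_eq_1' : type_of% @Q.eq_1.{u} := @Q.eq_1.{u}

variable {M T S V : Subgroup G} {π : G → L32} {c τ : G → V3} {u g a b : G} {ε : ZMod 2} {φ ψ : V3}

theorem qmul (h : NN M T S V π c) (ha : Q T V c τ a φ) (hb : Q T V c τ b ψ) :
    Q T V c τ (a * b) (φ + ψ) := by
  refine ⟨mul_mem ha.1 hb.1, fun t ht => ?_⟩
  obtain ⟨a1, a2⟩ := ha.2 t ht
  obtain ⟨b1, b2⟩ := hb.2 t ht
  have e : ⁅a * b, t⁆ = ⁅b, t⁆ * ⁅a, t⁆ := by
    have k := mem_Cs.1 (h.cV b1) a ha.1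
    calc ⁅a * b, t⁆ = a * ⁅b, t⁆ * a⁻¹ * ⁅a, t⁆ := by simp only [commutatorElement_def]; group
      _ = _ := by rw [k, mul_inv_cancel_right]
  rw [e]
  exact ⟨mul_mem b1 a1, by rw [h.crd.add _ b1 _ a1, a2, b2, ca]⟩

theorem c1 (h : NN M T S V π c) : c 1 = 0 := (h.crd.zero 1 (one_mem _)).2 rfl

theorem qcom (h : NN M T S V π c) (ha : Q T V c τ a φ) {t : G} (ht : t ∈ T) (e : cx (τ t) φ = 0) :
    a * t = t * a :=
  commutatorElement_eq_one_iff_mul_comm.1 ((h.crd.zero _ (ha.2 t ht).1).1 ((ha.2 t ht).2.trans e))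

theorem qV (h : NN M T S V π c) (ha : a ∈ V) : Q T V c τ a 0 := by
  refine ⟨h.leV ha, fun t ht => ?_⟩
  rw [commutatorElement_eq_one_iff_mul_comm.2 (mem_Cs.1 (h.cV ha) t ht).symm, c1 h, cz]
  exact ⟨one_mem _, rfl⟩

theorem qu (h : NN M T S V π c) (hu : u ∈ T) (hB : UB M T V π c u τ ε) {m : G} (hm : m ∈ M) :
    Q T V c τ (m * u * m⁻¹) (ph (π m)) :=
  ⟨(mem_normalizer_iff.1 (h.nT hm) u).1 hu, hB.cm m hm⟩

theorem em (h : NN M T S V π c) (h0 : φ ≠ 0) : ∃ m ∈ M, ph (π m) = φ := by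
  obtain ⟨A, rfl⟩ := ep φ h0
  obtain ⟨m, hm, rfl⟩ := h.pj.sur A
  exact ⟨m, hm, rfl⟩

theorem tz (h : NN M T S V π c) (hB : UB M T V π c u τ ε) {t : G} (ht : t ∈ T)
    (hc : ∀ m ∈ M, m * u * m⁻¹ * t = t * (m * u * m⁻¹)) : τ t = 0 := by
  refine ci _ fun φ h0 => ?_
  obtain ⟨m, hm, rfl⟩ := em h h0
  rw [← (hB.cm m hm t ht).2, commutatorElement_eq_one_iff_mul_comm.2 (hc m hm), c1 h]

theorem quq (hB : UB M T V π c u τ ε) (h1 : Q T V c τ a φ) (h2 : Q T V c τ a ψ) : φ = ψ := by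
  refine ci' _ _ fun d => ?_
  obtain ⟨t, ht, rfl⟩ := hB.sur d
  rw [← (h1.2 t ht).2, (h2.2 t ht).2]

theorem qcj (h : NN M T S V π c) (hB : UB M T V π c u τ ε) (ha : Q T V c τ a φ) {m : G} (hm : m ∈ M) :
    Q T V c τ (m * a * m⁻¹) (φ ᵥ* ((π m)⁻¹).1) := by
  refine ⟨(mem_normalizer_iff.1 (h.nT hm) a).1 ha.1, fun t ht => ?_⟩
  have ht' : m⁻¹ * t * m ∈ T := by
    have := (mem_normalizer_iff.1 (h.nT (inv_mem hm)) t).1 ht
    rwa [inv_inv] at this
  obtain ⟨a1, a2⟩ := ha.2 _ ht'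
  have e : ⁅m * a * m⁻¹, t⁆ = m * ⁅a, m⁻¹ * t * m⁆ * m⁻¹ := by simp only [commutatorElement_def]; group
  have e' : τ t = τ (m⁻¹ * t * m) ᵥ* ((π m)⁻¹).1 := by
    rw [← hB.eqv m hm _ ht']; congr 1; group
  rw [e]
  exact ⟨(mem_normalizer_iff.1 (h.nV hm) _).1 a1, by rw [h.crd.eqv m hm _ a1, a2, e', ce]⟩

theorem pi1 (h : NN M T S V π c) : π 1 = 1 := (h.pj.ker 1 (one_mem _)).2 (one_mem _)

theorem sqc (h : u * u = 1) (m : G) : m * u * m⁻¹ * (m * u * m⁻¹) = 1 := by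
  calc m * u * m⁻¹ * (m * u * m⁻¹) = m * (u * u) * m⁻¹ := by group
    _ = 1 := by rw [h]; group

end N3X

open N3X

variable {G : Type u} [Group G] [Finite G] {M T S V R X Y : Subgroup G} {π ρ : G → L32} {c κ τ : G → V3}
  {u g : G} {ε : ZMod 2}

theorem NN.eps (h : NN M T S V π c) (hG : GU M T S V π c g u) (hB : UB M T V π c u τ ε) : ε = 0 := by
  rcases N3E.two_cases ε with e | rfl
  · exact e
  exfalso
  have uT := hG.uu.uT
  obtain ⟨φ, ψ, h1, h2, h3, hz⟩ := cs _ hG.u2.2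
  obtain ⟨m, hm, e1⟩ := em h h1
  obtain ⟨n, hn, e2⟩ := em h h2
  obtain ⟨p, hp, e3⟩ := em h h3
  have qa := qu h uT hB hm
  have qb := qu h uT hB hn
  have qd := qu h uT hB hp
  have tb := hB.tu n hn
  have sa := sqc hG.uu.sq m
  have sb := sqc hG.uu.sq n
  have sd := sqc hG.uu.sq p
  rw [e1] at qa
  rw [e2] at qb
  rw [e3] at qd
  rw [e2, one_smul] at tb
  generalize m * u * m⁻¹ = a at *
  generalize n * u * n⁻¹ = b at *
  generalize p * u * p⁻¹ = d at *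
  have qk := qmul h (qmul h qa qb) qd
  rw [aa] at qk
  have ck : ∀ t ∈ T, a * b * d * t = t * (a * b * d) := fun t ht => qcom h qk ht (cz _)
  have k2 : a * b * d * (a * b * d) = g * u * g⁻¹ := by
    have x1 : a * b * d * (a * b * d) = ⁅a, b⁆ := by
      have y := ck d qd.1
      rw [mul_assoc (a * b), sd, mul_one] at y
      rw [commutatorElement_def, inv_eq_of_sq sa, inv_eq_of_sq sb, mul_assoc (a * b) d, ← y]
      group
    rw [x1]
    refine h.inj _ (qa.2 b qb.1).1 _ hG.u2.1 ?_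
    rw [(qa.2 b qb.1).2, tb, hz]
  generalize a * b * d = k at *
  have kT : g⁻¹ * k * g ∈ T := by
    refine h.cV3 hG.u1.1 hG.u1.2 ?_ fun w hw w2 => ?_
    · calc g⁻¹ * k * g * (g⁻¹ * u * g) = g⁻¹ * (k * u) * g := by group
        _ = _ := by rw [ck u uT]; group
    · have y := ck _ (h.leV (hG.gW w hw w2).1)
      calc g⁻¹ * k * g * w = g⁻¹ * (k * (g * w * g⁻¹)) * g := by group
        _ = _ := by rw [y]; group
  have k3 : g⁻¹ * k * g * (g⁻¹ * k * g) = u := by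
    calc g⁻¹ * k * g * (g⁻¹ * k * g) = g⁻¹ * (k * k) * g := by group
      _ = _ := by rw [k2]; group
  generalize g⁻¹ * k * g = j at *
  have t0 : τ u = 0 := by
    refine tz h hB uT fun x hx => ?_
    have r1 := (hB.cm x hx j kT).1
    generalize x * u * x⁻¹ = s at *
    have r2 := h.sq _ r1
    have r3 := mem_Cs.1 (h.cV r1) j kT
    have r4 : s * j = ⁅s, j⁆ * (j * s) := by rw [commutatorElement_def]; group
    generalize ⁅s, j⁆ = r at *
    rw [← k3]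
    calc s * (j * j) = s * j * j := by group
      _ = r * (j * s) * j := congrArg (· * j) r4
      _ = r * j * (s * j) := by group
      _ = r * j * (r * (j * s)) := congrArg (r * j * ·) r4
      _ = r * (j * r) * (j * s) := by group
      _ = r * r * (j * j * s) := by rw [r3]; group
      _ = _ := by rw [r2, one_mul]
  have t1 := hB.tu 1 (one_mem _)
  rw [one_mul, inv_one, mul_one, t0, pi1 h, p1, one_smul] at t1
  exact e2n t1.symm

theorem NN.xb (h : NN M T S V π c) (hu : UU T S V c u) (hB : UB M T V π c u τ 0) :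
    ∃ X ξ, XB M T V X π c u τ ξ := by
  classical
  have uT := hu.uT
  have tV : ∀ v ∈ V, τ v = 0 := fun v hv =>
    tz h hB (h.leV hv) fun m hm => mem_Cs.1 (h.cV hv) _ (qu h uT hB hm).1
  let X : Subgroup G :=
    { carrier := {e | e * e = 1 ∧ τ e = 0 ∧ ∃ φ, Q T V c τ e φ}
      one_mem' := ⟨one_mul _, tV 1 (one_mem _), 0, qV h (one_mem _)⟩
      mul_mem' := by
        rintro a b ⟨a1, a2, φ, a3⟩ ⟨b1, b2, ψ, b3⟩
        refine ⟨?_, by rw [hB.add a a3.1 b b3.1, a2, b2, add_zero], _, qmul h a3 b3⟩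
        have k := qcom h a3 b3.1 (by rw [b2, cz'])
        calc a * b * (a * b) = a * (b * a) * b := by group
          _ = a * a * (b * b) := by rw [← k]; group
          _ = 1 := by rw [a1, b1, one_mul]
      inv_mem' := by
        intro a ha
        have : a⁻¹ = a := inv_eq_of_sq ha.1
        rw [this]; exact ha }
  have mem : ∀ e, e ∈ X ↔ e * e = 1 ∧ τ e = 0 ∧ ∃ φ, Q T V c τ e φ := fun e => Iff.rfl
  let ξ : G → V3 := fun e => if k : ∃ φ, Q T V c τ e φ then k.choose else 0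
  have q1 : ∀ e ∈ X, Q T V c τ e (ξ e) := fun e he => by
    have k := ((mem e).1 he).2.2
    simp only [ξ, dif_pos k]
    exact k.choose_spec
  have q2 : ∀ e ∈ X, ∀ φ, Q T V c τ e φ → ξ e = φ := fun e he φ k => quq hB (q1 e he) k
  have lV : V ≤ X := fun v hv => (mem v).2 ⟨h.sq v hv, tV v hv, 0, qV h hv⟩
  have um : ∀ m ∈ M, m * u * m⁻¹ ∈ X := fun m hm =>
    (mem _).2 ⟨sqc hu.sq m, by rw [hB.tu m hm, zero_smul], _, qu h uT hB hm⟩
  have cjm : ∀ m ∈ M, ∀ a ∈ X, m * a * m⁻¹ ∈ X := fun m hm a ha =>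
    (mem _).2 ⟨sqc ((mem a).1 ha).1 m, by
      rw [hB.eqv m hm a (q1 a ha).1, ((mem a).1 ha).2.1, zero_vecMul], _, qcj h hB (q1 a ha) hm⟩
  have u1 : 1 * u * 1⁻¹ = u := by group
  have sq : ∀ a ∈ X, a * a = 1 := fun a ha => ((mem a).1 ha).1
  refine ⟨X, ξ, lV, fun a ha => (q1 a ha).1,
    ⟨isMulCommutative_of_sq sq, fun a ha => by rw [pow_two]; exact sq a ha⟩,
    fun m hm => mem_normalizer_of_cj_le (cj_le_iff.2 (cjm m hm)), u1 ▸ um 1 (one_mem _), ?_,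
    fun a ha b hb => q2 _ (mul_mem ha hb) _ (qmul h (q1 a ha) (q1 b hb)), fun a ha => ⟨fun k => ?_,
    fun k => q2 a ha _ (qV h k)⟩, fun φ => ?_,
    fun m hm a ha => q2 _ (cjm m hm a ha) _ (qcj h hB (q1 a ha) hm), hB.add, hB.eqv,
    fun a ha => (q1 a ha).2⟩
  · have k := q2 _ (um 1 (one_mem _)) _ (qu h uT hB (one_mem _))
    rwa [u1, pi1 h, p1] at k
  · refine h.om a (q1 a ha).1 (sq a ha) (mem_Cs.2 fun t ht => ?_)
    exact (qcom h (q1 a ha) ht (by rw [k, cz])).symm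
  · by_cases h0 : φ = 0
    · exact ⟨1, one_mem _, h0 ▸ q2 1 (one_mem _) _ (qV h (one_mem _))⟩
    · obtain ⟨m, hm, rfl⟩ := em h h0
      exact ⟨_, um m hm, q2 _ (um m hm) _ (qu h uT hB hm)⟩

end Cfsg.Lib.K7.N3
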