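import Cfsg.Agent.K7.LocB
import Cfsg.Agent.P8.BasJ
import Cfsg.Agent.P8.PjB
import Cfsg.Agent.Class.PSLSimple
import Cfsg.Agent.Class.HermSimple
import Cfsg.Agent.S0243
import Cfsg.Agent.S0280

/-!
# Simple groups of order `p * 3 ^ a * 2 ^ b`: the basic configuration
-/

set_option autoImplicit false

namespace Cfsg.Lib.K7

open Cfsg Subgroup Cfsg.Lib.Trans Cfsg.Lib.Gold
open Cfsg.Lib.P8 (L32 V3 O2 Om Jt Phi EA SR4 Ch E9 Pj Ty Sec SecOK Mx Crd)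
open Cfsg.Lib.K35 (PSL Alt A3 NC)
open scoped commutatorElement

universe u

namespace NSB0

theorem half {G : Type u} [Group G] {S D : Subgroup G} (n : ℕ) : ∀ x ∈ D, x ∉ S → x ^ 2 ^ n ∈ S →
    ∃ g ∈ D, g ∉ S ∧ g * g ∈ S := by
  induction n with
  | zero => exact fun x _ h k => absurd (by simpa using k) h
  | succ n ih =>
    intro x hx h k
    by_cases q : x * x ∈ S
    · exact ⟨x, hx, h, q⟩
    · exact ih _ (mul_mem hx hx) q (by rwa [← pow_two, ← pow_mul, ← pow_succ'])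

theorem le_of_norm {X : Type u} [Group X] {L N : Subgroup X} [L.Normal] [IsSimpleGroup L]
    (hC : Cs L = ⊥) (h0 : N ≠ ⊥) (hN : L ≤ Ns N) : L ≤ N := by
  rcases (normal_subgroupOf_of_le_normalizer hN).eq_bot_or_eq_top with e | e
  · refine absurd (le_bot_iff.1 (hC ▸ commutator_eq_bot_iff_le_centralizer.1 (le_bot_iff.1 ?_))) h0
    rw [← disjoint_iff.1 (subgroupOf_eq_bot.1 e)]
    exact Local.commutator_le_inf_of_le_normalizer le_normalizer_of_normal hN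
  · exact subgroupOf_eq_top.1 e

theorem soc {p : ℕ} {L : Type u} [Group L] (h : Soc p L) : IsSimpleGroup L ∧ p ∣ Nat.card L := by
  have l2 : ∀ q, (q = 7 ∨ q = 8 ∨ q = 17) → L2q q L → IsSimpleGroup L ∧
      (q = 7 → Nat.card L = 168) ∧ (q = 8 → Nat.card L = 504) ∧ (q = 17 → Nat.card L = 2448) := by
    rintro q hq ⟨F, _, _, cF, ⟨e⟩⟩
    have : IsSimpleGroup (PSL 2 F) := Matrix.ProjectiveSpecialLinearGroup.rank_two_simple
      (by rw [Nat.card_eq_fintype_card, cF]; omega)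
    have h1 := Agent.S0243.result (F := F) rfl 2 le_rfl
    rw [← Nat.card_congr e.toEquiv, cF] at h1
    refine ⟨e.isSimpleGroup, ?_, ?_, ?_⟩ <;> rintro rfl <;> simp [Fin.prod_univ_two] at h1 <;> omega
  rcases h with ⟨rfl, h | h | ⟨F, _, _, cF, ⟨e⟩⟩⟩ | ⟨rfl, F, _, _, cF, ⟨e⟩⟩ | ⟨rfl, h⟩
  · have k := l2 7 (by omega) h
    exact ⟨k.1, by rw [k.2.1 rfl]; decide⟩
  · have k := l2 8 (by omega) h
    exact ⟨k.1, by rw [k.2.2.1 rfl]; decide⟩
  · have := Class.Form.isSimpleGroup_PSU (F := F) (q := 3) cF 3 le_rfl (by omega)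
    have h1 := Agent.S0280.result (F := F) (q := 3) cF 3 (by norm_num)
    rw [← Nat.card_congr e.toEquiv] at h1
    simp [Finset.prod_range_succ] at h1
    exact ⟨e.isSimpleGroup, by omega⟩
  · have : IsSimpleGroup (PSL 3 F) := Class.PSL_isSimpleGroup (by simp)
    have h1 := Agent.S0243.result (F := F) cF 3 (by norm_num)
    rw [← Nat.card_congr e.toEquiv] at h1
    simp [Fin.prod_univ_three] at h1
    exact ⟨e.isSimpleGroup, by omega⟩
  · have k := l2 17 (by omega) h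
    exact ⟨k.1, by rw [k.2.2.2 rfl]; decide⟩

theorem nsCs {G : Type u} [Group G] {V : Subgroup G} {m k : G} (hm : m ∈ Ns V) (hk : k ∈ Cs V) :
    m * k * m⁻¹ ∈ Cs V := fun v hv => by
  have h1 := hk _ ((mem_normalizer_iff''.1 hm v).1 hv)
  calc v * (m * k * m⁻¹) = m * (m⁻¹ * v * m * k) * m⁻¹ := by group
    _ = m * k * m⁻¹ * v := by rw [h1]; group

end NSB0

theorem b0 : StB0.{u} := by
  intro G _ _ p gl M S₀ hM ns hS hNC n
  have := Fact.mk Nat.prime_two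
  have J := P8.pf_BasJ.{u}
  obtain ⟨-, -, o3, -, o5⟩ := J.o2 M
  have hMT : M ≤ Ns (O2 M) := le_normalizer.trans o3
  obtain ⟨S, s1, s2⟩ := exists_isSylowIn_ge hS.isPGroup (le_top : S₀ ≤ ⊤)
  obtain ⟨x, hx, x0⟩ := SetLike.exists_of_lt
    (lt_inf_normalizer s1.isPGroup (lt_of_le_of_ne s2 fun e => n (e ▸ s1)))
  obtain ⟨k, hk⟩ := s1.isPGroup ⟨x, hx.1⟩
  obtain ⟨g, hg, g0, sq⟩ := NSB0.half k x hx x0 (by
    rw [show x ^ 2 ^ k = 1 from congrArg Subtype.val hk]; exact one_mem _)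
  refine ⟨g, gl, hM, ns, hS, hNC, hg.2, sq, fun m => g0 (hS.eq_inf s1.isPGroup s2 ▸ ⟨hg.1, m⟩), fun h => ?_⟩
  have e := J.eq (o5 S₀ hS) h
  have hne : S₀ ≠ ⊥ := fun e => hM.ne (le_bot_iff.1 (e ▸ o5 S₀ hS))
  have := hNC (Jt S₀) (hS.2.1.to_le (J.leT S₀).1) (J.ne hS.2.1 hne).1 (J.leT S₀).2.1
  have l : M ≤ Ns (Jt S₀) := hMT.trans (e ▸ (J.leT (O2 M)).2.1)
  exact ns (Group.isSolvable_of_isSolvable_injective (f := inclusion l) (inclusion_injective l))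

theorem nO : StNO.{u} := by
  rintro G _ _ p M S₀ g nb ⟨X, _, _, π, L, ty, _, hC, soc⟩
  have J := P8.pf_BasJ.{u}
  have pp := nb.gl.pp
  have p7 := nb.gl.p7
  have := Fact.mk Nat.prime_two
  have := Fact.mk pp
  have pj := ty.toPj
  obtain ⟨o1, o2, o3, -, o5⟩ := J.o2 M
  have hMT : M ≤ Ns (O2 M) := le_normalizer.trans o3
  obtain ⟨-, -, t1, t2, t3, t4, t5⟩ := J.leT (O2 M)
  have mx : ∀ N : Subgroup G, IsPGroup 2 N → N ≠ ⊥ → M ≤ Ns N → Ns N = M := fun N a b c =>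
    nb.mx.mx.2 _ ⟨_, a, b, rfl⟩ c
  have neV := (J.ne o2 nb.mx.ne).2
  have nV := mx _ (o2.to_le t1) neV (hMT.trans t2)
  have fp : ∀ y : G, orderOf y = p → O2 M ⊓ C1 y = ⊥ := fun y hy => by
    rw [nb.gl.cp y hy]
    exact (IsPGroup.disjoint_of_ne 2 p (by omega) _ _ o2
      (IsPGroup.of_card (n := 1) (by rw [Nat.card_zpowers, hy, pow_one]))).eq_bot
  obtain ⟨sim, dv⟩ := NSB0.soc soc
  obtain ⟨⟨y, yL⟩, oy⟩ := exists_prime_orderOf_dvd_card' (G := L) p dv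
  rw [← Subgroup.orderOf_coe] at oy
  change orderOf y = p at oy
  have lift : ∀ a ∈ M, π a = y → ∃ b ∈ zpowers a, orderOf b = p := fun a ha e => by
    obtain ⟨b, hb, -, ob⟩ := P8.PjBH.odd pj a ha (by rw [e, oy]; exact pp.odd_of_ne_two (by omega))
    exact ⟨b, hb, by rw [ob, e, oy]⟩
  have leT := o5 S₀ nb.syl
  refine ⟨leT, mx _ o2 nb.mx.ne hMT, nV, le_antisymm ?_ t4, neV, t3, fun v => ⟨fun h => ⟨t1 h, ?_, ?_⟩,
    fun h => t5 v h.1 h.2.2 h.2.1⟩, fun y _ => fp y, ?_, fun N a b c => ?_, ?_⟩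
  · have KM : Cs (Om (O2 M)) ≤ M := (centralizer_le_normalizer _).trans nV.le
    obtain ⟨B, hB, -⟩ := P8.PjBH.im pj _ KM
    by_cases b : B = ⊥
    · exact fun k hk => (pj.ker k (KM hk)).1 (mem_bot.1 (b ▸ (hB _).2 ⟨k, hk, rfl⟩))
    · have cjB : ∀ x : X, ∀ z ∈ B, x * z * x⁻¹ ∈ B := fun x z hz => by
        obtain ⟨m, hm, rfl⟩ := pj.sur x
        obtain ⟨k, hk, rfl⟩ := (hB z).1 hz
        exact (hB _).2 ⟨_, NSB0.nsCs (nV.ge hm) hk, P8.PjBH.cj pj hm (KM hk)⟩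
      have : B.Normal := ⟨fun z hz x => cjB x z hz⟩
      obtain ⟨a, ha, e⟩ := (hB y).1 (NSB0.le_of_norm hC b le_normalizer_of_normal yL)
      obtain ⟨c, hc, oc⟩ := lift a (KM ha) e
      have cK : c ∈ Cs (Om (O2 M)) := zpowers_le.2 ha hc
      refine absurd (le_bot_iff.1 (fp c oc ▸ le_inf t1 fun v hv w hw => ?_)) neV
      rw [Set.mem_singleton_iff.1 hw]
      exact (cK v hv).symm
  · rw [← pow_two]; exact t3.2 v h
  · intro t ht w hw
    rw [Set.mem_singleton_iff.1 hw]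
    exact t4 ht v h
  · obtain ⟨a, ha, e⟩ := pj.sur y
    obtain ⟨c, hc, oc⟩ := lift a ha e
    exact ⟨c, zpowers_le.2 ha hc, oc⟩
  · by_contra n
    exact nb.out ((mx N a n b).le c)
  · obtain ⟨A, a1, a2, a3, a4⟩ := J.ex nb.nJ
    refine ⟨A, a1, a2, a3, le_trans ?_ (J.off a1 (t1.trans leT) a2 t3 (inf_le_right.trans t4) a4 t1)⟩
    rw [inf_relIndex_left]
    have := a2.1
    exact relIndex_le_of_le_left (le_centralizer A) FiniteIndex.index_ne_zero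

end Cfsg.Lib.K7
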