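import Cfsg.Agent.K7.LocB
import Cfsg.Agent.P8.PjB

/-!
# The conjugate of `Ω₁ Z(O₂(M))` lies in `O₂(M)`
-/

set_option autoImplicit false
set_option linter.unusedSectionVars false

namespace Cfsg.Lib.K7

open Cfsg Subgroup Cfsg.Lib.Trans Cfsg.Lib.Gold
open Cfsg.Lib.P8 (L32 V3 O2 Om Jt Phi EA SR4 Ch E9 Pj Ty Sec SecOK Mx Crd)
open Cfsg.Lib.K35 (PSL Alt A3 NC)
open scoped commutatorElement

universe u

namespace NSB1

def b1 : L32 := ⟨!![1, 0, 1; 0, 1, 0; 0, 0, 1], by decide⟩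
def b2 : L32 := ⟨!![1, 0, 0; 0, 1, 1; 0, 0, 1], by decide⟩
def b3 : L32 := ⟨!![1, 0, 1; 0, 1, 1; 0, 0, 1], by decide⟩
def xB : L32 := ⟨!![0, 1, 0; 1, 1, 0; 0, 0, 1], by decide⟩

theorem m_all (P : Matrix (Fin 3) (Fin 3) (ZMod 2) → Prop)
    (h : ∀ a b c d e f g i j : ZMod 2, P !![a, b, c; d, e, f; g, i, j]) :
    ∀ m, P m := fun m => by
  rw [Matrix.eta_fin_three m]; exact h _ _ _ _ _ _ _ _ _

set_option synthInstance.maxSize 2000 in
set_option synthInstance.maxHeartbeats 400000 in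
theorem inB_cases (m : L32) (h : inB m) : m = 1 ∨ m = b1 ∨ m = b2 ∨ m = b3 := by
  have hm := m.2
  rw [Matrix.det_fin_three] at hm
  have := m_all (fun m => m 0 0 * m 1 1 * m 2 2 - m 0 0 * m 1 2 * m 2 1 - m 0 1 * m 1 0 * m 2 2 +
    m 0 1 * m 1 2 * m 2 0 + m 0 2 * m 1 0 * m 2 1 - m 0 2 * m 1 1 * m 2 0 = 1 →
    m 1 0 = 0 ∧ m 2 0 = 0 ∧ m 2 1 = 0 ∧ m 0 1 = 0 → m = 1 ∨ m = !![1, 0, 1; 0, 1, 0; 0, 0, 1] ∨
      m = !![1, 0, 0; 0, 1, 1; 0, 0, 1] ∨ m = !![1, 0, 1; 0, 1, 1; 0, 0, 1]) (by decide +kernel) m.1 hm h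
  rcases this with h | h | h | h
  · exact Or.inl (Subtype.ext h)
  · exact Or.inr (Or.inl (Subtype.ext h))
  · exact Or.inr (Or.inr (Or.inl (Subtype.ext h)))
  · exact Or.inr (Or.inr (Or.inr (Subtype.ext h)))

theorem cen3 (y : L32) (h3 : y * y * y = 1) (h1 : y * b1 = b1 * y) (h2 : y * b2 = b2 * y) : y = 1 :=
  Subtype.ext (m_all (fun m => m * m * m = 1 → m * !![1, 0, 1; 0, 1, 0; 0, 0, 1] =
    !![1, 0, 1; 0, 1, 0; 0, 0, 1] * m → m * !![1, 0, 0; 0, 1, 1; 0, 0, 1] =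
    !![1, 0, 0; 0, 1, 1; 0, 0, 1] * m → m = 1) (by decide +kernel) y.1 (congrArg Subtype.val h3)
    (congrArg Subtype.val h1) (congrArg Subtype.val h2))

theorem oxB : orderOf xB = 3 := by
  have : Fact (Nat.Prime 3) := ⟨by norm_num⟩
  exact orderOf_eq_prime (by decide +kernel) (by decide +kernel)

theorem inB_cj (m : L32) (h : inB m) : inB (xB * m * xB⁻¹) := by
  rcases inB_cases m h with rfl | rfl | rfl | rfl <;> unfold inB <;> decide +kernel

theorem span3 {a b w : L32} (ha : inB a) (hb : inB b) (hw : inB w) (a1 : a ≠ 1) (b1' : b ≠ 1)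
    (ab : a * b ≠ 1) (w1 : w ≠ 1) : w = a ∨ w = b ∨ w = a * b := by
  rcases inB_cases a ha with rfl | rfl | rfl | rfl <;>
  rcases inB_cases b hb with rfl | rfl | rfl | rfl <;>
  rcases inB_cases w hw with rfl | rfl | rfl | rfl <;>
  revert a1 b1' ab w1 <;> decide +kernel

theorem inB1 : inB b1 := by unfold inB; decide +kernel
theorem inB2 : inB b2 := by unfold inB; decide +kernel
theorem b1ne : b1 ≠ 1 := by decide +kernel
theorem b2ne : b2 ≠ 1 := by decide +kernel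

variable {G : Type u} [Group G]

theorem idx2 {D T : Subgroup G} (h : ∀ u ∈ T, ∀ w ∈ T, u ∉ D → w ∉ D → u * w ∈ D) :
    D.relIndex T ≤ 2 := by
  by_cases e : T ≤ D
  · rw [relIndex_eq_one.2 e]; norm_num
  · obtain ⟨a, ha, hn⟩ := SetLike.not_le_iff_exists.1 e
    refine le_of_eq (relIndex_eq_two_iff_exists_notMem_and.2 ⟨a, ha, hn, fun b hb => ?_⟩)
    by_cases hb' : b ∈ D
    · exact Or.inr hb'
    · exact Or.inl (h b hb a ha hb' hn)

theorem ea_cj {A : Subgroup G} (h : EA A) (g : G) : EA (cj g A) := by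
  refine ⟨⟨⟨fun a b => Subtype.ext ?_⟩⟩, fun a ha => ?_⟩
  · have := congrArg Subtype.val (h.1.1.1 ⟨_, mem_cj.1 a.2⟩ ⟨_, mem_cj.1 b.2⟩)
    simp only [coe_mul] at this ⊢
    calc (a : G) * b = g * ((g⁻¹ * a * g) * (g⁻¹ * b * g)) * g⁻¹ := by group
      _ = g * ((g⁻¹ * b * g) * (g⁻¹ * a * g)) * g⁻¹ := by rw [this]
      _ = b * a := by group
  · have := h.2 _ (mem_cj.1 ha)
    calc a ^ 2 = g * (g⁻¹ * a * g) ^ 2 * g⁻¹ := by simp only [pow_two]; group
      _ = 1 := by rw [this]; group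

theorem sq {A : Subgroup G} (h : EA A) {a : G} (ha : a ∈ A) : a * a = 1 := by
  rw [← pow_two]; exact h.2 a ha

theorem card_inf [Finite G] (T A : Subgroup G) : T.relIndex A * Nat.card ↥(T ⊓ A) = Nat.card A := by
  have := (T.subgroupOf A).index_mul_card
  rw [← inf_subgroupOf_right, Nat.card_congr (subgroupOfEquivOfLe (inf_le_right : T ⊓ A ≤ A)).toEquiv,
    inf_subgroupOf_right] at this
  exact this

theorem com_inf {A B : Subgroup G} (h1 : A ≤ Ns B) (h2 : B ≤ Ns A) {a b : G} (ha : a ∈ A) (hb : b ∈ B) :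
    ⁅a, b⁆ ∈ A ⊓ B := by
  refine ⟨?_, ?_⟩
  · have := mem_normalizer_conj (h2 hb) (A.inv_mem ha)
    rw [commutatorElement_def]
    simpa [mul_assoc] using A.mul_mem ha this
  · rw [commutatorElement_def]
    exact B.mul_mem (mem_normalizer_conj (h1 ha) hb) (B.inv_mem hb)

section
variable [Finite G] {M S₀ : Subgroup G} {g : G}

theorem SM (nb : NB 7 M S₀ g) : S₀ ≤ M := nb.syl.1

theorem cjS (nb : NB 7 M S₀ g) : cj g S₀ = S₀ := cj_eq_of_mem_normalizer nb.nor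

theorem VT (no : NO 7 M S₀ g) : Om (O2 M) ≤ O2 M := fun v hv => ((no.memV v).1 hv).1

theorem V'S (nb : NB 7 M S₀ g) (no : NO 7 M S₀ g) : cj g (Om (O2 M)) ≤ S₀ := by
  rw [← cjS nb]; exact cj_mono g ((VT no).trans no.leT)

theorem SV' (nb : NB 7 M S₀ g) (no : NO 7 M S₀ g) : S₀ ≤ Ns (cj g (Om (O2 M))) := by
  rw [← cjS nb, Ns, ← cj_normalizer]
  exact cj_mono g ((SM nb).trans no.nV.ge)

theorem ggV (nb : NB 7 M S₀ g) (no : NO 7 M S₀ g) : cj g (cj g (Om (O2 M))) = Om (O2 M) := by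
  rw [cj_cj]; exact cj_eq_of_mem_normalizer (no.nV.ge (SM nb nb.sq))

theorem ggT (nb : NB 7 M S₀ g) (no : NO 7 M S₀ g) : cj g (cj g (O2 M)) = O2 M := by
  rw [cj_cj]; exact cj_eq_of_mem_normalizer (no.nT.ge (SM nb nb.sq))

theorem key (nb : NB 7 M S₀ g) (no : NO 7 M S₀ g) :
    (Om (O2 M) ⊓ Cs (cj g (Om (O2 M)))).relIndex (Om (O2 M)) = (O2 M).relIndex (cj g (Om (O2 M))) := by
  have e : Cs (cj g (Om (O2 M))) = cj g (O2 M) := by
    rw [Cs, ← cj_centralizer]; exact congrArg _ no.cV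
  rw [e, ← relIndex_cj g, cj_inf, ggT nb no, inf_relIndex_left]

theorem comT (nb : NB 7 M S₀ g) (no : NO 7 M S₀ g) {t a : G} (ht : t ∈ O2 M)
    (ha : a ∈ cj g (Om (O2 M))) : ⁅t, a⁆ ∈ O2 M ⊓ cj g (Om (O2 M)) :=
  com_inf (no.leT.trans (SV' nb no)) ((V'S nb no).trans ((SM nb).trans no.nT.ge)) ht ha

theorem fin {W : Subgroup G} {z : G} (nb : NB 7 M S₀ g) (no : NO 7 M S₀ g) (ns : NS M S₀ W z) {a : G}
    (ha : a ∈ cj g (Om (O2 M))) (hn : a ∉ O2 M) (h : O2 M ⊓ cj g (Om (O2 M)) ≤ Om (O2 M)) :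
    O2 M ≤ Om (O2 M) := by
  refine ns.qw _ _ (VT no) le_rfl no.nV.ge no.nT.ge a (SM nb (V'S nb no ha)) hn ?_
  refine commutator_le.2 fun t ht b hb => h (comT nb no ht ?_)
  exact (zpowers_le.2 ha) hb

end

end NSB1

open NSB1 in
theorem b16 : StB16.{u} := by
  intro G _ _ M S₀ W F g π c z nl ns v6
  have nb := nl.nb
  have no := nl.no
  have pj : Pj M (O2 M) π := nl.ty.toPj
  by_contra hc
  obtain ⟨a₀, ha₀, hn₀⟩ := SetLike.not_le_iff_exists.1 hc
  have V'M : cj g (Om (O2 M)) ≤ M := (V'S nb no).trans (SM nb)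
  have ea' := ea_cj no.ea g
  have k4 : (O2 M).relIndex (cj g (Om (O2 M))) = 4 := by
    refine le_antisymm (ns.rk _ V'M ea') ?_
    rw [← key nb no]
    refine (v6.inv a₀ (V'M ha₀) hn₀ (by rw [sq ea' ha₀]; exact one_mem _)).trans ?_
    refine relIndex_le_of_le_left (inf_le_inf_left _ ?_) index_ne_zero_of_finite
    exact centralizer_le (Set.singleton_subset_iff.2 ha₀)
  obtain ⟨hB, hF⟩ := v6.big _ (V'S nb no) k4 (by rw [key nb no, k4])
  have FV' : F ≤ O2 M ⊓ cj g (Om (O2 M)) := by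
    rw [← hF]; exact commutator_le.2 fun t ht b hb => comT nb no (VT no ht) hb
  have eF : F = O2 M ⊓ cj g (Om (O2 M)) := by
    refine eq_of_le_of_card_ge FV' ?_
    have := card_inf (O2 M) (cj g (Om (O2 M)))
    rw [k4, card_cj, v6.card] at this
    rw [v6.cF]; omega
  have TV : O2 M ≤ Om (O2 M) := fin nb no ns ha₀ hn₀ (eF ▸ v6.leF)
  obtain ⟨a, ha, b, hb, an, bn, abn⟩ : ∃ a ∈ cj g (Om (O2 M)), ∃ b ∈ cj g (Om (O2 M)),
      a ∉ O2 M ∧ b ∉ O2 M ∧ a * b ∉ O2 M := by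
    by_contra h
    push Not at h
    have := idx2 h
    omega
  have sur : ∀ w : L32, inB w → w ≠ 1 → ∃ e ∈ cj g (Om (O2 M)), e ∉ O2 M ∧ π e = w := by
    intro w hw w1
    have e := pj.mul a (V'M ha) b (V'M hb)
    rcases span3 (hB a ha) (hB b hb) hw (mt (pj.ker a (V'M ha)).1 an) (mt (pj.ker b (V'M hb)).1 bn)
      (by rw [← e]; exact mt (pj.ker _ (V'M (mul_mem ha hb))).1 abn) w1 with h | h | h
    · exact ⟨a, ha, an, h.symm⟩
    · exact ⟨b, hb, bn, h.symm⟩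
    · exact ⟨a * b, mul_mem ha hb, abn, by rw [e, h]⟩
  obtain ⟨x₀, x₀M, ex₀⟩ := pj.sur xB
  obtain ⟨x, hx, ex, ox⟩ := P8.PjBH.odd pj x₀ x₀M (by rw [ex₀, oxB]; decide)
  rw [ex₀] at ex ox
  rw [oxB] at ox
  have xM : x ∈ M := (zpowers_le.2 x₀M) hx
  have cjB : ∀ e ∈ cj g (Om (O2 M)), e ∉ O2 M →
      x * e * x⁻¹ ∈ M ∧ inB (π (x * e * x⁻¹)) ∧ x * e * x⁻¹ ∉ O2 M := by
    intro e he en
    refine ⟨mul_mem (mul_mem xM (V'M he)) (inv_mem xM), ?_, fun h => en ?_⟩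
    · rw [P8.PjBH.cj pj xM (V'M he), ex]; exact inB_cj _ (hB e he)
    · simpa [mul_assoc] using mem_normalizer_conj' (no.nT.ge xM) h
  have xF : x ∈ Ns F := by
    refine mem_normalizer_of_cj_le (cj_le_iff.2 fun f hf => ?_)
    obtain ⟨h1, h2, h3⟩ := cjB a ha an
    rw [← v6.fix _ h1 h2 h3]
    rw [← v6.fix a (V'M ha) (hB a ha) an] at hf
    refine ⟨mem_normalizer_conj (no.nV.ge xM) hf.1, mem_centralizer_singleton_iff.2 ?_⟩
    have := mem_centralizer_singleton_iff.1 hf.2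
    calc x * f * x⁻¹ * (x * a * x⁻¹) = x * (f * a) * x⁻¹ := by group
      _ = x * (a * f) * x⁻¹ := by rw [this]
      _ = _ := by group
  have xV' : x ∈ Ns (cj g (Om (O2 M))) := by
    refine mem_normalizer_of_cj_le (cj_le_iff.2 fun e he => ?_)
    by_cases en : e ∈ O2 M
    · exact (FV' (mem_normalizer_conj xF (eF ▸ ⟨en, he⟩))).2
    obtain ⟨h1, h2, h3⟩ := cjB e he en
    obtain ⟨e', he', en', ee⟩ := sur _ h2 (mt (pj.ker _ h1).1 h3)
    have hv := TV ((P8.PjBH.eq_iff pj (V'M he') h1).1 ee)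
    have s1 : x * e * x⁻¹ * (x * e * x⁻¹) = 1 := by
      calc _ = x * (e * e) * x⁻¹ := by group
        _ = 1 := by rw [sq ea' he]; group
    have s2 := sq ea' he'
    have s3 := sq no.ea hv
    generalize x * e * x⁻¹ = w at *
    have hf : e'⁻¹ * w ∈ F := by
      rw [← v6.fix e' (V'M he') (hB e' he') en']
      refine ⟨hv, mem_centralizer_singleton_iff.2 ?_⟩
      have i1 : e'⁻¹ = e' := inv_eq_of_mul_eq_one_right s2
      have i2 : w⁻¹ = w := inv_eq_of_mul_eq_one_right s1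
      rw [i1] at s3 ⊢
      have i3 : e' * w = w * e' := by
        rw [eq_inv_of_mul_eq_one_left s3, mul_inv_rev, i1, i2]
      rw [mul_assoc, ← i3]
    simpa using mul_mem he' (FV' hf).2
  have x'M : g * x * g⁻¹ ∈ M := by
    rw [← no.nV, ← ggV nb no, Ns, ← cj_normalizer]
    exact conj_mem_cj.2 xV'
  have cm : ∀ e ∈ cj g (Om (O2 M)), π (g * x * g⁻¹) * π e = π e * π (g * x * g⁻¹) := by
    intro e he
    have h1 := FV' (v6.tx x xM ox xF _ (mem_cj.1 he))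
    have h2 : ⁅e, g * x * g⁻¹⁆ ∈ O2 M := by
      have h3 := (conj_mem_cj (g := g)).2 h1.2
      rw [ggV nb no] at h3
      refine VT no ?_
      convert h3 using 1
      simp only [commutatorElement_def]; group
    have h4 : (g * x * g⁻¹ * e)⁻¹ * (e * (g * x * g⁻¹)) ∈ O2 M := by
      have := mem_normalizer_conj' (no.nT.ge (mul_mem x'M (V'M he))) h2
      convert this using 1
      simp only [commutatorElement_def]; group
    rw [← pj.mul _ x'M _ (V'M he), ← pj.mul _ (V'M he) _ x'M]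
    exact (P8.PjBH.eq_iff pj (mul_mem x'M (V'M he)) (mul_mem (V'M he) x'M)).2 h4
  obtain ⟨e1, he1, -, p1⟩ := sur _ inB1 b1ne
  obtain ⟨e2, he2, -, p2⟩ := sur _ inB2 b2ne
  have x3 : x ^ 3 = 1 := ox ▸ pow_orderOf_eq_one x
  have y3 : (g * x * g⁻¹) ^ 3 = 1 := by rw [conj_pow, x3]; group
  have y1 := cen3 (π (g * x * g⁻¹)) (by
    have := P8.PjBH.pow pj x'M 3
    rw [y3, P8.PjBH.one pj] at this
    rw [this, pow_succ, pow_two]) (p1 ▸ cm e1 he1) (p2 ▸ cm e2 he2)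
  obtain ⟨n, hn⟩ := pj.two ⟨_, (pj.ker _ x'M).1 y1⟩
  have hn' : (g * x * g⁻¹) ^ 2 ^ n = 1 := congrArg Subtype.val hn
  have d := orderOf_dvd_of_pow_eq_one hn'
  have o3 : orderOf (g * x * g⁻¹) = 3 := by
    rw [← ox]; exact (MulAut.conj g).orderOf_eq x
  rw [o3] at d
  have := Nat.Prime.dvd_of_dvd_pow (by norm_num : Nat.Prime 3) d
  omega

open NSB1 in
theorem b18 (hDp : StDp.{u}) : StB18.{u} := by
  intro G _ _ M S₀ V g π c z nl ns eV
  subst eV
  have nb := nl.nb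
  have no := nl.no
  have pj : Pj M (O2 M) π := nl.ty.toPj
  by_contra hc
  obtain ⟨a, ha, an⟩ := SetLike.not_le_iff_exists.1 hc
  have V'M : cj g (Om (O2 M)) ≤ M := (V'S nb no).trans (SM nb)
  have ea' := ea_cj no.ea g
  have z1 : z ≠ 1 := fun h => by have := ns.oz; rw [h, orderOf_one] at this; omega
  have zV' : z ∈ cj g (Om (O2 M)) := by
    have hS : S₀ ≤ C1 (g * z * g⁻¹) := by
      intro s hs
      have := mem_centralizer_singleton_iff.1 (ns.zS (mem_normalizer_conj' nb.nor hs))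
      refine mem_centralizer_singleton_iff.2 ?_
      calc s * (g * z * g⁻¹) = g * ((g⁻¹ * s * g) * z) * g⁻¹ := by group
        _ = g * (z * (g⁻¹ * s * g)) * g⁻¹ := by rw [this]
        _ = _ := by group
    have hV : g * z * g⁻¹ ∈ Om (O2 M) := by
      refine (no.memV _).2 ⟨?_, sq ea' (conj_mem_cj.2 nl.zW), no.leT.trans hS⟩
      rw [← no.cV]
      intro v hv
      exact mem_centralizer_singleton_iff.1 (hS (no.leT (VT no hv)))
    rcases ns.gz rfl _ hV hS with h | h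
    · exact absurd (by simpa using h) z1
    · rw [← h]; exact conj_mem_cj.2 nl.zW
  have c4 : Nat.card ↥(O2 M ⊓ cj g (Om (O2 M))) ≤ 4 := by
    have := card_inf (O2 M) (cj g (Om (O2 M)))
    rw [card_cj, ns.cW] at this
    have h1 : (O2 M).relIndex (cj g (Om (O2 M))) ≠ 1 := fun h => hc (relIndex_eq_one.1 h)
    have h0 : (O2 M).relIndex (cj g (Om (O2 M))) ≠ 0 := index_ne_zero_of_finite
    have h2 : 2 ≤ (O2 M).relIndex (cj g (Om (O2 M))) := by omega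
    nlinarith
  have two : ∀ u ∈ O2 M ⊓ cj g (Om (O2 M)), ∀ w ∈ O2 M ⊓ cj g (Om (O2 M)), u ∉ Om (O2 M) →
      w ∉ Om (O2 M) → u * w ∈ Om (O2 M) := by
    intro u hu w hw un wn
    have h := card_inf (Om (O2 M)) (O2 M ⊓ cj g (Om (O2 M)))
    have h2 : 2 ≤ Nat.card ↥(Om (O2 M) ⊓ (O2 M ⊓ cj g (Om (O2 M)))) := by
      rw [← ns.oz, ← Nat.card_zpowers]
      exact Subgroup.card_le_of_le (zpowers_le.2 ⟨nl.zW, VT no nl.zW, zV'⟩)
    have h1 : (Om (O2 M)).relIndex (O2 M ⊓ cj g (Om (O2 M))) ≠ 1 := fun h => un (relIndex_eq_one.1 h hu)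
    have h0 : (Om (O2 M)).relIndex (O2 M ⊓ cj g (Om (O2 M))) ≠ 0 := index_ne_zero_of_finite
    have h3 : (Om (O2 M)).relIndex (O2 M ⊓ cj g (Om (O2 M))) = 2 := by
      have : (Om (O2 M)).relIndex (O2 M ⊓ cj g (Om (O2 M))) ≤ 2 := by nlinarith
      omega
    exact (mul_mem_iff_of_index_two h3 (a := ⟨u, hu⟩) (b := ⟨w, hw⟩)).2 (iff_of_false un wn)
  have TN : O2 M ≤ Ns (Om (O2 M)) := pj.le.trans no.nV.ge
  let D : Subgroup G :=
    { carrier := {t | t ∈ O2 M ∧ ⁅t, a⁆ ∈ Om (O2 M)}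
      one_mem' := ⟨one_mem _, by simp⟩
      mul_mem' := fun {s t} hs ht => ⟨mul_mem hs.1 ht.1, by
        have := mul_mem (mem_normalizer_conj (TN hs.1) ht.2) hs.2
        convert this using 1
        simp only [commutatorElement_def]; group⟩
      inv_mem' := fun {s} hs => ⟨inv_mem hs.1, by
        have := inv_mem (mem_normalizer_conj' (TN hs.1) hs.2)
        convert this using 1
        simp only [commutatorElement_def]; group⟩ }
  have iD : D.relIndex (O2 M) ≤ 2 := by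
    refine idx2 fun s hs t ht sn tn => ⟨mul_mem hs ht, ?_⟩
    have h1 := comT nb no hs ha
    have h2 := comT nb no ht ha
    have h3 : s * ⁅t, a⁆ * s⁻¹ ∈ O2 M ⊓ cj g (Om (O2 M)) :=
      ⟨(O2 M).mul_mem ((O2 M).mul_mem hs h2.1) ((O2 M).inv_mem hs), mem_normalizer_conj (SV' nb no (no.leT hs)) h2.2⟩
    have := two _ h3 _ h1 (fun h => tn ⟨ht, by
      simpa [mul_assoc] using mem_normalizer_conj' (TN hs) h⟩) (fun h => sn ⟨hs, h⟩)
    convert this using 1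
    simp only [commutatorElement_def]; group
  obtain ⟨m₁, h₁, m₂, h₂, y, hy, oy⟩ := ns.tri a (V'M ha) an (by rw [sq ea' ha]; exact one_mem _)
  have yM : y ∈ M := by
    refine (closure_le M).2 ?_ hy
    rintro _ (rfl | rfl | rfl)
    · exact V'M ha
    · exact mul_mem (mul_mem h₁ (V'M ha)) (inv_mem h₁)
    · exact mul_mem (mul_mem h₂ (V'M ha)) (inv_mem h₂)
  have i8 := (hDp G M (Om (O2 M)) (O2 M) y 7 (by norm_num) (by norm_num) pj.two (VT no) pj.le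
    no.nV.ge no.nT.ge yM oy (no.fp y yM oy)).2.1 3 a ![1, m₁, m₂] (V'M ha)
    (fun i => by fin_cases i <;> simp [h₁, h₂, one_mem]) (closure_mono (by
      rintro _ (rfl | rfl | rfl)
      · exact ⟨0, by simp⟩
      · exact ⟨1, by simp⟩
      · exact ⟨2, by simp⟩) hy) D
    (fun v hv => ⟨VT no hv, by
      have := mul_mem hv (mem_normalizer_conj (no.nV.ge (V'M ha)) (inv_mem hv))
      simpa [commutatorElement_def, mul_assoc] using this⟩) (fun t ht => ht.1) (fun d hd => hd.2)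
  have i8' : (Om (O2 M)).relIndex (O2 M) ≤ 8 :=
    i8.trans ((Nat.pow_le_pow_left iD 3).trans (by norm_num))
  exact ns.neT (fin nb no ns ha an fun t ht => ns.s64 rfl i8' t ht.1 (sq ea' ht.2))

end Cfsg.Lib.K7
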