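import Cfsg.Agent.K7.LocB
import Cfsg.Agent.K35.D10

/-! Fixed-point-free elements of odd prime order on 2-sections. -/

set_option autoImplicit false
set_option linter.unusedSectionVars false

namespace Cfsg.Lib.K7

open Cfsg Subgroup Cfsg.Lib.Trans Cfsg.Lib.Gold
open scoped commutatorElement

universe u

namespace NSDp

variable {G : Type u} [Group G] [Finite G]

theorem nrm {U : Subgroup G} {j a : G} (hj : j ∈ Ns U) (jj : j * j ∈ Cs U)
    (ab : ∀ a ∈ U, ∀ b ∈ U, a * b = b * a) (ha : a ∈ U) : a * (j * a * j⁻¹) ∈ U ⊓ C1 j := by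
  have h1 := mem_normalizer_conj hj ha
  refine ⟨mul_mem ha h1, L72.Kit.mem_C1.2 ?_⟩
  have h2 := mem_Cs.1 jj a ha
  calc a * (j * a * j⁻¹) * j = a * (j * j) * j⁻¹ * a := by group
    _ = j * (j * a * j⁻¹ * a) := by rw [h2]; group
    _ = _ := by rw [ab _ h1 a ha]

theorem two {U : Subgroup G} {j k : G} (hj : j ∈ Ns U) (hk : k ∈ Ns U) (jj : j * j ∈ Cs U)
    (kk : k * k ∈ Cs U) (ab : ∀ a ∈ U, ∀ b ∈ U, a * b = b * a)
    (key : ∀ d ∈ U, j * d * j⁻¹ = k * d * k⁻¹ → d = 1) :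
    Nat.card ↥(U ⊓ C1 j) * Nat.card ↥(U ⊓ C1 k) = Nat.card U := by
  rw [← Nat.card_prod]
  refine le_antisymm (Nat.card_le_card_of_injective
    (fun x => (⟨x.1.1 * x.2.1, mul_mem x.1.2.1 x.2.2.1⟩ : U)) ?_) (Nat.card_le_card_of_injective
    (fun a => (⟨_, nrm hj jj ab a.2⟩, ⟨_, nrm hk kk ab a.2⟩)) ?_)
  · rintro ⟨a, b⟩ ⟨a', b'⟩ e
    have e' : a.1 * b.1 = a'.1 * b'.1 := congrArg Subtype.val e
    have e1 : a'.1⁻¹ * a.1 = b'.1 * b.1⁻¹ := by
      rw [inv_mul_eq_iff_eq_mul, ← mul_assoc, ← e', mul_inv_cancel_right]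
    have h1 := mul_mem (inv_mem a'.2) a.2
    have h2 := mul_mem b'.2 (inv_mem b.2)
    rw [← e1] at h2
    have h3 := key _ h1.1 (by
      rw [← L72.Kit.mem_C1.1 h1.2, ← L72.Kit.mem_C1.1 h2.2, mul_inv_cancel_right,
        mul_inv_cancel_right])
    have h4 : a = a' := Subtype.ext (inv_mul_eq_one.1 h3).symm
    subst h4
    rw [Subtype.ext (mul_left_cancel e' : b.1 = b'.1)]
  · intro a b e
    have e1 : a.1 * (j * a * j⁻¹) = b * (j * b * j⁻¹) := congrArg (fun x => x.1.1) e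
    have e2 : a.1 * (k * a * k⁻¹) = b * (k * b * k⁻¹) := congrArg (fun x => x.2.1) e
    have f : ∀ g : G, a.1 * (g * a * g⁻¹) = b * (g * b * g⁻¹) →
        g * (a * b.1⁻¹) * g⁻¹ = a.1⁻¹ * b := fun g h => by
      calc _ = a.1⁻¹ * (a.1 * (g * a * g⁻¹)) * (g * b * g⁻¹)⁻¹ := by group
        _ = _ := by rw [h]; group
    exact Subtype.ext (mul_inv_eq_one.1
      (key _ (mul_mem a.2 (inv_mem b.2)) ((f j e1).trans (f k e2).symm)))

theorem four {U : Subgroup G} {y j : G} {p : ℕ} (hp : Odd p) (o : y ^ p = 1) (hy : y ∈ Ns U)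
    (hj : j ∈ Ns U) (fp : U ⊓ C1 y = ⊥) (c : j * y * j⁻¹ * y ∈ Cs U) (jj : j * j ∈ Cs U)
    (ab : ∀ a ∈ U, ∀ b ∈ U, a * b = b * a) : Nat.card ↥(U ⊓ C1 j) ^ 2 = Nat.card U := by
  have n : Ns U ≤ Ns (Cs U) := le_Ns_Cs le_rfl
  have h1 : ∀ m : ℕ, j * y ^ m * j⁻¹ * y ^ m ∈ Cs U := fun m => by
    induction m with
    | zero => simp
    | succ m ih =>
      have := mul_mem (mem_normalizer_conj
        (n (mul_mem (mul_mem hj (pow_mem hy m)) (inv_mem hj))) c) ih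
      convert this using 1
      nth_rw 1 [pow_succ]
      rw [pow_succ']
      group
  obtain ⟨r, rfl⟩ := hp
  have e : y ^ (r + 1) * y ^ (r + 1) = y := by
    rw [← pow_add, show r + 1 + (r + 1) = 2 * r + 1 + 1 by ring, pow_succ, o, one_mul]
  have h2 := h1 (r + 1)
  have ht := pow_mem hy (r + 1)
  generalize y ^ (r + 1) = t at e h2 ht
  subst e
  have hk : t⁻¹ * j * t⁻¹⁻¹ ∈ Ns U := mul_mem (mul_mem (inv_mem ht) hj) (inv_mem (inv_mem ht))
  have h3 := two hj hk jj (by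
    rw [conj_mul]; exact mem_normalizer_conj (n (inv_mem ht)) jj) ab fun d hd h => by
      have h4 := mem_Cs.1 h2 _ (mem_normalizer_conj hk hd)
      refine mem_bot.1 (fp.le ⟨hd, L72.Kit.mem_C1.2 ?_⟩)
      calc d * (t * t) = j⁻¹ * (j * d * j⁻¹) * (j * t * j⁻¹ * t) * (t⁻¹ * j * t⁻¹⁻¹) := by group
        _ = j⁻¹ * (t⁻¹ * j * t⁻¹⁻¹ * d * (t⁻¹ * j * t⁻¹⁻¹)⁻¹ * (j * t * j⁻¹ * t)) *
          (t⁻¹ * j * t⁻¹⁻¹) := by rw [h]; group
        _ = _ := by rw [h4]; group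
  have h5 : U ⊓ C1 (t⁻¹ * j * t⁻¹⁻¹) = cj t⁻¹ (U ⊓ C1 j) := by
    ext a
    rw [mem_cj, mem_inf, mem_inf, L72.Kit.mem_C1, L72.Kit.mem_C1]
    refine and_congr ⟨fun h => mem_normalizer_conj' (inv_mem ht) h, fun h => ?_⟩
      ⟨fun h => ?_, fun h => ?_⟩
    · simpa [mul_assoc] using mem_normalizer_conj (inv_mem ht) h
    · calc _ = t * (a * (t⁻¹ * j * t⁻¹⁻¹)) * t⁻¹ := by group
        _ = _ := by rw [h]; group
    · calc _ = t⁻¹ * (t⁻¹⁻¹ * a * t⁻¹ * j) * t := by group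
        _ = _ := by rw [h]; group
  rw [pow_two, ← h3, h5, card_cj]

end NSDp

open K35.D10 in
theorem dp : StDp.{u} := by
  intro G _ _ M U₁ U₂ y p hp p2 h2 le hM n1 n2 hy o fp
  have : Fact p.Prime := ⟨hp⟩
  have od : Odd p := hp.odd_of_ne_two p2
  have yp : y ^ p = 1 := o ▸ pow_orderOf_eq_one y
  have low : ∀ d ∈ U₂, y ∈ St M U₁ n1 d → d ∈ U₁ := fun d hd h => by
    obtain ⟨b, hb, e1, e2⟩ := P8.Bas2H.lift h2 le (hM.trans n1) (n1 hy) (o ▸ od) hd h.2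
    rw [mem_bot.1 (fp.le ⟨hb, L72.Kit.mem_C1.2 e1⟩), mul_one] at e2
    exact inv_mem_iff.1 e2
  have rc : ∀ m ∈ M, ∀ D : Subgroup G, (cj m D).relIndex U₂ = D.relIndex U₂ := fun m hm D => by
    rw [← relIndex_cj m D U₂, cj_eq_of_mem_normalizer (n2 hm)]
  refine ⟨?_, fun n a m ha hm hc D l1 l2 hD => ?_, fun B D m hB hm hc l1 l2 hD => ?_,
    fun j hj c jj ab => NSDp.four od yp (n2 hy) (n2 hj) fp c jj fun a ha b hb =>
      congrArg Subtype.val (ab.is_comm.comm ⟨a, ha⟩ ⟨b, hb⟩)⟩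
  · have h3 := L72.Kit.modEq yp (n1 hy)
    have h4 := L72.Kit.modEq yp (n2 hy)
    rw [eq_bot_iff.2 ((inf_le_inf_right _ le).trans fp.le), card_bot] at h3
    rw [fp, card_bot, ← card_mul_relIndex le] at h4
    simpa using (h3.mul_right _).symm.trans h4
  · have h1 : (⨅ i, cj (m i) D) ⊓ U₂ ≤ U₁ := fun d hd => by
      refine low d hd.2 ((closure_le _).2 ?_ hc)
      rintro _ ⟨i, rfl⟩
      refine ⟨mul_mem (mul_mem (hm i) ha) (inv_mem (hm i)), ?_⟩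
      have := mem_normalizer_conj (n1 (hm i)) (hD _ (mem_cj.1 (mem_iInf.1 hd.1 i)))
      simpa [commutatorElement_def, mul_assoc] using this
    refine (relIndex_le_of_le_left h1 (FiniteIndex.index_ne_zero)).trans ?_
    rw [inf_relIndex_right]
    refine (relIndex_iInf_le _).trans (le_of_eq ?_)
    simp [fun i => rc (m i) (hm i) D]
  · have h1 : D ⊓ cj m D ≤ U₁ := fun d hd => by
      refine low d (l2 hd.1) ((sup_le (fun b hb => ⟨hB hb, hD (commutator_mem_commutator hd.1 hb)⟩)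
        (cj_le_iff.2 fun b hb => ⟨mul_mem (mul_mem hm (hB hb)) (inv_mem hm), ?_⟩) :
        B ⊔ cj m B ≤ St M U₁ n1 d) hc)
      have := mem_normalizer_conj (n1 hm) (hD (commutator_mem_commutator (mem_cj.1 hd.2) hb))
      simpa [commutatorElement_def, mul_assoc] using this
    refine (relIndex_le_of_le_left h1 (FiniteIndex.index_ne_zero)).trans ?_
    exact relIndex_inf_le.trans (by rw [rc m hm D, pow_two])

end Cfsg.Lib.K7
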