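import Cfsg.Agent.K7.LocB
import Cfsg.Agent.Gold.PrConn

/-!
# Simple groups of order `p * 3 ^ a * 2 ^ b`: the order of the 2-core for the type `G₂(2)`
-/

set_option autoImplicit false

namespace Cfsg.Lib.K7

open Cfsg Subgroup Cfsg.Lib.Trans Cfsg.Lib.Gold
open Cfsg.Lib.P8 (L32 V3 O2 Om Jt Phi EA SR4 Ch E9 Pj Ty Sec SecOK Mx Crd)
open Cfsg.Lib.K35 (PSL Alt A3 NC)
open scoped commutatorElement

universe u

namespace NSGB

variable {G : Type u} [Group G] {M T : Subgroup G} {π : G → Gm}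

theorem one (h : PG M T π) : π 1 = 1 := (h.ker 1 M.one_mem).2 T.one_mem

theorem inv (h : PG M T π) {a : G} (ha : a ∈ M) : π a⁻¹ = (π a)⁻¹ :=
  eq_inv_of_mul_eq_one_left (by rw [← h.mul _ (inv_mem ha) _ ha, inv_mul_cancel, one h])

theorem pow (h : PG M T π) {a : G} (ha : a ∈ M) (n : ℕ) : π (a ^ n) = π a ^ n := by
  induction n with
  | zero => rw [pow_zero, pow_zero, one h]
  | succ n ih => rw [pow_succ, pow_succ, h.mul _ (pow_mem ha n) _ ha, ih]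

theorem cnj (h : PG M T π) {a b : G} (ha : a ∈ M) (hb : b ∈ M) :
    π (a * b * a⁻¹) = π a * π b * (π a)⁻¹ := by
  rw [h.mul _ (mul_mem ha hb) _ (inv_mem ha), h.mul _ ha _ hb, inv h ha]

theorem im (h : PG M T π) (A : Subgroup G) (hA : A ≤ M) :
    ∃ B : Subgroup Gm, (∀ y, y ∈ B ↔ ∃ a ∈ A, π a = y) ∧ Nat.card B = T.relIndex A := by
  let f : M →* Gm := MonoidHom.mk' (fun a => π a) fun a b => h.mul _ a.2 _ b.2
  have k : f.ker = T.subgroupOf M := Subgroup.ext fun a => h.ker _ a.2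
  exact ⟨(A.subgroupOf M).map f, fun y => ⟨fun ⟨a, l, m⟩ => ⟨a, l, m⟩,
    fun ⟨a, l, m⟩ => ⟨⟨a, hA l⟩, l, m⟩⟩, by rw [← relIndex_ker, k, relIndex_subgroupOf hA]⟩

theorem odd (h : PG M T π) (a : G) (ha : a ∈ M) (o : Odd (orderOf (π a))) :
    ∃ b ∈ zpowers a, π b = π a ∧ orderOf b = orderOf (π a) := by
  obtain ⟨k, hk⟩ : ∃ k, (a ^ orderOf (π a)) ^ 2 ^ k = 1 :=
    (h.two ⟨_, (h.ker _ (pow_mem ha _)).1 (by rw [pow h ha, pow_orderOf_eq_one])⟩).imp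
      fun _ => congrArg Subtype.val
  obtain ⟨e, e1, e2⟩ := Nat.chineseRemainder (Nat.Coprime.pow_right k (Nat.coprime_two_right.2 o)) 1 0
  obtain ⟨d, rfl⟩ := (Nat.modEq_zero_iff_dvd).1 e2
  have p : π (a ^ (2 ^ k * d)) = π a := by rw [pow h ha, pow_eq_pow_iff_modEq.2 e1, pow_one]
  refine ⟨_, npow_mem_zpowers a _, p, Nat.dvd_antisymm (orderOf_dvd_of_pow_eq_one ?_)
    (p ▸ orderOf_dvd_of_pow_eq_one (by rw [← pow h (pow_mem ha _), pow_orderOf_eq_one, one h]))⟩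
  rw [← pow_mul, mul_comm, pow_mul, pow_mul, hk, one_pow]

theorem lf (h : PG M T π) {σ : Gm} (hσ : σ ∈ L0) (o : Odd (orderOf σ)) :
    ∃ b ∈ M, π b = σ ∧ orderOf b = orderOf σ := by
  obtain ⟨a, ha, rfl⟩ := h.alt σ hσ
  obtain ⟨b, hb, e⟩ := odd h a ha o
  exact ⟨b, zpowers_le.2 ha hb, e⟩

theorem six (k : ℕ) (h0 : k ≠ 0) (h : k < 12) (m : 2 ^ k % 7 = 1 ∧ 2 ^ k % 3 = 1) : k = 6 := by
  interval_cases k <;> omega

theorem last {T : Subgroup G} {a : G} (n : ℕ) (h : a ^ 2 ^ n ∈ T) (h0 : a ∉ T) :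
    ∃ i : ℕ, a ^ i ∉ T ∧ a ^ i * a ^ i ∈ T := by
  induction n with
  | zero => exact absurd (by simpa using h) h0
  | succ n ih =>
    by_cases k : a ^ 2 ^ n ∈ T
    · exact ih k
    · exact ⟨_, k, by rwa [← pow_add, ← two_mul, ← pow_succ']⟩

theorem cyc [Finite G] {u : G} (hT : IsPGroup 2 T) (ab : ∀ a ∈ T, ∀ b ∈ T, a * b = b * a)
    (hu : IsPGroup 2 (zpowers u)) (hn : u ∈ Ns T) (h : T ⊓ C1 (u * u) ≤ C1 u) : T ≤ C1 u := by
  have cT : ∀ t ∈ T, ⁅t, u⁆ ∈ T := fun t ht => by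
    rw [commutatorElement_def, mul_assoc, mul_assoc, ← mul_assoc u]
    exact mul_mem ht ((mem_normalizer_iff.1 hn _).1 (inv_mem ht))
  have cj' : ∀ t ∈ T, ∀ x ∈ T, t * x * t⁻¹ = x := fun t ht x hx => by
    rw [ab t ht x hx, mul_inv_cancel_right]
  let I : Subgroup G :=
    { carrier := {x | ∃ t ∈ T, ⁅t, u⁆ = x}
      one_mem' := ⟨1, one_mem T, commutatorElement_one_left u⟩
      mul_mem' := by
        rintro _ _ ⟨a, ha, rfl⟩ ⟨b, hb, rfl⟩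
        refine ⟨b * a, mul_mem hb ha, ?_⟩
        rw [← cj' b hb _ (cT a ha)]
        simp only [commutatorElement_def]; group
      inv_mem' := by
        rintro _ ⟨a, ha, rfl⟩
        refine ⟨a⁻¹, inv_mem ha, ?_⟩
        rw [← cj' a⁻¹ (inv_mem ha) _ (inv_mem (cT a ha))]
        simp only [commutatorElement_def]; group }
  have IT : I ≤ T := by
    rintro _ ⟨a, ha, rfl⟩
    exact cT a ha
  by_contra k
  have ne : I ≠ ⊥ := fun e => k fun t ht => mem_C1.2 (commutatorElement_eq_one_iff_mul_comm.1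
    (mem_bot.1 (e ▸ (⟨t, ht, rfl⟩ : ⁅t, u⁆ ∈ I))))
  obtain ⟨x, ⟨t, ht, rfl⟩, x2, x1, c, -⟩ := exists_central_invol hu (hT.to_le IT)
    (zpowers_le.2 (mem_normalizer_fintype (by
      rintro _ ⟨a, ha, rfl⟩
      exact ⟨u * a * u⁻¹, (mem_normalizer_iff.1 hn a).1 ha, by
        simp only [commutatorElement_def]; group⟩))) ne
  refine x1 (commutatorElement_eq_one_iff_mul_comm.2 (mem_C1.1 (h ⟨ht, mem_C1.2
    (commutatorElement_eq_one_iff_mul_comm.1 ?_)⟩)))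
  rw [show ⁅t, u * u⁆ = ⁅t, u⁆ * (u * ⁅t, u⁆ * u⁻¹) by simp only [commutatorElement_def]; group,
    mem_C1.1 (c (mem_zpowers u)), mul_inv_cancel_right, x2]

end NSGB

theorem gb (hDp : StDp.{u}) : StGB.{u} := fun G _ _ M S₀ g π uf nb no pg fa ab => by
  have := Fact.mk Nat.prime_two
  set T := O2 M with hT
  set V := Om T with hV
  have ab' : ∀ a ∈ T, ∀ b ∈ T, a * b = b * a := fun a ha b hb =>
    congrArg Subtype.val (ab.is_comm.comm (⟨a, ha⟩ : T) ⟨b, hb⟩)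
  have TC : T ≤ Cs T := fun a ha => mem_Cs.2 fun b hb => ab' b hb a ha
  have nb' : M ≤ Ns ⊥ := fun m _ => by simp [normalizer_eq_top]
  have VT : V ≤ T := fun v hv => ((no.memV v).1 hv).1
  have md : ∀ U : Subgroup G, U ≤ T → M ≤ Ns U → Nat.card U % 7 = 1 ∧ Nat.card U % 3 = 1 := by
    intro U hU nU
    obtain ⟨y, hy, oy⟩ := no.ex
    obtain ⟨r, hr, -, -, cr, -⟩ := uf.nab
    obtain ⟨b, hb, eb, ob⟩ := NSGB.lf pg hr (by rw [cr.1]; decide)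
    rw [cr.1] at ob
    have k1 := (hDp G M ⊥ U y 7 (by norm_num) (by decide) (pg.two.to_le hU) bot_le (hU.trans pg.le) nb' nU
      hy oy (le_bot_iff.1 ((inf_le_inf_right _ hU).trans (no.fp y hy oy).le))).1
    have k2 := (hDp G M ⊥ U b 3 (by norm_num) (by decide) (pg.two.to_le hU) bot_le (hU.trans pg.le) nb' nU
      hb ob (le_bot_iff.1 ((inf_le_inf_right _ hU).trans (fa b hb ob (eb ▸ cr)).le))).1
    rw [relIndex_bot_left] at k1 k2
    exact ⟨k1, k2⟩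
  obtain ⟨k, ck⟩ := IsPGroup.iff_card.1 pg.two
  obtain ⟨j, cj'⟩ := IsPGroup.iff_card.1 (pg.two.to_le VT)
  have mT := md T le_rfl no.nT.ge
  have mV := md V VT no.nV.ge
  have jk : j ≤ k := (Nat.pow_le_pow_iff_right Nat.one_lt_two).1 (by
    rw [← ck, ← cj']; exact Subgroup.card_le_of_le VT)
  have j0 : j ≠ 0 := fun e => no.neV (card_eq_one.1 (by rw [cj', e, pow_zero]))
  rw [ck] at mT
  rw [cj'] at mV
  suffices k6 : k < 12 by
    have e : k = 6 ∧ j = 6 := ⟨NSGB.six k (by omega) k6 mT, NSGB.six j j0 (by omega) mV⟩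
    have eV : V = T := eq_of_le_of_card_ge VT (by rw [ck, cj', e.1, e.2])
    exact ⟨eV ▸ no.ea, by rw [ck, e.1]; rfl⟩
  have T'S : cj g T ≤ S₀ := cj_le_iff.2 fun t ht => (mem_normalizer_iff.1 nb.nor t).1 (no.leT ht)
  have T'M : cj g T ≤ M := T'S.trans nb.syl.le
  have p' : IsPGroup 2 (cj g T) := isPGroup_cj pg.two g
  have ab2 : ∀ a ∈ cj g T, ∀ b ∈ cj g T, a * b = b * a := fun a ha b hb => by
    have := ab' _ (mem_cj.1 ha) _ (mem_cj.1 hb)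
    calc a * b = g * (g⁻¹ * a * g * (g⁻¹ * b * g)) * g⁻¹ := by group
      _ = _ := by rw [this]; group
  have q2 : ∀ a ∈ cj g T, ∃ n, a ^ 2 ^ n = 1 := fun a ha =>
    (p' ⟨a, ha⟩).imp fun _ => congrArg Subtype.val
  have nle : ¬ cj g T ≤ T := fun h => nb.out (no.nT ▸ mem_normalizer_of_cj_le h)
  obtain ⟨R, hR, cR⟩ := NSGB.im pg _ T'M
  have abR : IsMulCommutative R := ⟨⟨fun a b => Subtype.ext (by
    obtain ⟨x, hx, ex⟩ := (hR a).1 a.2
    obtain ⟨y, hy, ey⟩ := (hR b).1 b.2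
    change (a : Gm) * b = b * a
    rw [← ex, ← ey, ← pg.mul _ (T'M hx) _ (T'M hy), ab2 x hx y hy, pg.mul _ (T'M hy) _ (T'M hx)])⟩⟩
  have r16 : Nat.card R ≤ 16 := uf.ab R (fun a => by
    obtain ⟨x, hx, ex⟩ := (hR a).1 a.2
    obtain ⟨n, hn⟩ := q2 x hx
    exact ⟨n, Subtype.ext (by
      change (a : Gm) ^ 2 ^ n = 1
      rw [← ex, ← NSGB.pow pg (T'M hx), hn, NSGB.one pg])⟩) abR
  have cD := card_mul_relIndex (inf_le_right : T ⊓ cj g T ≤ cj g T)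
  rw [inf_relIndex_right, ← cR, card_cj, ck] at cD
  have DC : ∀ a ∈ cj g T, T ⊓ cj g T ≤ T ⊓ C1 a := fun a ha d hd =>
    ⟨hd.1, mem_C1.2 (ab2 d hd.2 a ha)⟩
  have o2 : ∀ a ∈ cj g T, a ∉ T → a * a ∈ T → orderOf (π a) = 2 := fun a ha aT a2 =>
    orderOf_eq_prime (by rw [pow_two, ← pg.mul _ (T'M ha) _ (T'M ha), (pg.ker _
      (mul_mem (T'M ha) (T'M ha))).2 a2]) fun e => aT ((pg.ker a (T'M ha)).1 e)
  by_cases out : ∃ a ∈ cj g T, a ∉ T ∧ a * a ∈ T ∧ π a ∉ L0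
  · obtain ⟨a, ha, aT, a2, aL⟩ := out
    obtain ⟨y0, hy0, oy0, e0⟩ := uf.out _ aL (o2 a ha aT a2)
    obtain ⟨y, hy, rfl, oy⟩ := NSGB.lf pg hy0 (by rw [oy0]; decide)
    rw [oy0] at oy
    have aM := T'M ha
    have m := mul_mem (mul_mem aM hy) (inv_mem aM)
    have k4 := (hDp G M ⊥ T y 7 (by norm_num) (by decide) pg.two bot_le pg.le nb' no.nT.ge hy oy
      (no.fp y hy oy)).2.2.2 a aM (TC ((pg.ker _ (mul_mem m hy)).1 (by
        rw [pg.mul _ m _ hy, NSGB.cnj pg aM hy, e0, inv_mul_cancel]))) (TC a2) ab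
    have l := Subgroup.card_le_of_le (DC a ha)
    have c0 : 0 < Nat.card ↥(T ⊓ C1 a) := Nat.card_pos
    rw [ck] at k4
    have l2 : Nat.card ↥(T ⊓ C1 a) ≤ 16 := by nlinarith
    have : 2 ^ k ≤ 2 ^ 8 := by nlinarith
    have := (Nat.pow_le_pow_iff_right Nat.one_lt_two).1 this
    omega
  push Not at out
  have inn : ∀ a ∈ cj g T, a ∉ T → a * a ∈ T → 2 ^ k ≤ (T ⊓ C1 a).relIndex T ^ 3 := fun a ha aT a2 => by
    have aM := T'M ha
    obtain ⟨b1, h1, b2, h2, y0, hy0, oy0⟩ := uf.inv3 _ (out a ha aT a2) (o2 a ha aT a2)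
    obtain ⟨m1, hm1, rfl⟩ := pg.alt b1 h1
    obtain ⟨m2, hm2, rfl⟩ := pg.alt b2 h2
    have mM : ∀ i, (![1, m1, m2] : Fin 3 → G) i ∈ M := fun i => by
      fin_cases i
      exacts [one_mem M, hm1, hm2]
    have HM : closure (Set.range fun i => (![1, m1, m2] : Fin 3 → G) i * a *
        ((![1, m1, m2] : Fin 3 → G) i)⁻¹) ≤ M := (closure_le _).2 (by
      rintro _ ⟨i, rfl⟩
      exact mul_mem (mul_mem (mM i) aM) (inv_mem (mM i)))
    obtain ⟨B, hB, -⟩ := NSGB.im pg _ HM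
    have yB : y0 ∈ B := (closure_le B).2 (by
      rintro _ (rfl | rfl | rfl)
      · exact (hB _).2 ⟨_, subset_closure ⟨0, rfl⟩, by simp⟩
      · exact (hB _).2 ⟨_, subset_closure ⟨1, rfl⟩, NSGB.cnj pg hm1 aM⟩
      · exact (hB _).2 ⟨_, subset_closure ⟨2, rfl⟩, NSGB.cnj pg hm2 aM⟩) hy0
    obtain ⟨x, hx, rfl⟩ := (hB y0).1 yB
    obtain ⟨y, hy, -, oy⟩ := NSGB.odd pg x (HM hx) (by rw [oy0]; decide)
    rw [oy0] at oy
    have yH := zpowers_le.2 hx hy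
    have k2 := (hDp G M ⊥ T y 7 (by norm_num) (by decide) pg.two bot_le pg.le nb' no.nT.ge (HM yH) oy
      (no.fp y (HM yH) oy)).2.1 3 a _ aM mM yH (T ⊓ C1 a) bot_le inf_le_left fun d hd =>
        mem_bot.2 (commutatorElement_eq_one_iff_mul_comm.2 (mem_C1.1 hd.2))
    rwa [relIndex_bot_left, ck] at k2
  by_contra k12
  have big : 16 ^ 3 ≤ 2 ^ k := (Nat.pow_le_pow_right (by decide) (not_lt.1 k12) : 2 ^ 12 ≤ 2 ^ k)
  have eqD : ∀ a ∈ cj g T, a ∉ T → a * a ∈ T → T ⊓ C1 a = T ⊓ cj g T ∧ Nat.card R = 16 :=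
    fun a ha aT a2 => by
    have i16 : 16 ≤ (T ⊓ C1 a).relIndex T :=
      (Nat.pow_le_pow_iff_left (by decide : 3 ≠ 0)).1 (big.trans (inn a ha aT a2))
    have c := card_mul_relIndex (inf_le_left : T ⊓ C1 a ≤ T)
    have l := Subgroup.card_le_of_le (DC a ha)
    have c0 : 0 < Nat.card ↥(T ⊓ cj g T) := Nat.card_pos
    rw [ck] at c
    exact ⟨(eq_of_le_of_card_ge (DC a ha) (by nlinarith)).symm, by nlinarith⟩
  have ex : ∃ u ∈ cj g T, u * u ∉ T := by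
    by_contra h
    push Not at h
    obtain ⟨a, ha, aT⟩ := SetLike.not_le_iff_exists.1 nle
    have := uf.ea R (fun y hy => by
      obtain ⟨x, hx, rfl⟩ := (hR y).1 hy
      by_cases xT : x ∈ T
      · rw [(pg.ker x (T'M hx)).2 xT]
        exact one_mem _
      · exact out x hx xT (h x hx)) ⟨abR, fun y hy => by
      obtain ⟨x, hx, rfl⟩ := (hR y).1 hy
      rw [pow_two, ← pg.mul _ (T'M hx) _ (T'M hx), (pg.ker _ (mul_mem (T'M hx) (T'M hx))).2 (h x hx)]⟩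
    have := (eqD a ha aT (h a ha)).2
    omega
  obtain ⟨w, hw, wT⟩ := ex
  obtain ⟨n, hn⟩ := q2 _ (mul_mem hw hw)
  obtain ⟨i, i1, i2⟩ := NSGB.last n (hn ▸ one_mem T) wT
  rw [(Commute.refl w).mul_pow] at i1 i2
  have hu := pow_mem hw i
  have e := (eqD _ (mul_mem hu hu) i1 i2).1
  have l := NSGB.cyc pg.two ab' (p'.to_le (zpowers_le.2 hu)) (no.nT.ge (T'M hu))
    (e ▸ (DC _ hu).trans inf_le_right)
  refine nle (eq_of_le_of_card_ge (fun t ht => ?_) (card_cj g T).le).ge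
  have : t ∈ T ⊓ C1 (w ^ i * w ^ i) := ⟨ht, mem_C1.2 (by
    rw [← mul_assoc, mem_C1.1 (l ht), mul_assoc, mem_C1.1 (l ht), mul_assoc])⟩
  exact (e ▸ this).2

end Cfsg.Lib.K7
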