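import Cfsg.Agent.K7.NSGCa
import Cfsg.Agent.K7.NSGB

/-!
# Simple groups of order `7 * 3 ^ a * 2 ^ b`: an element of order three for the type `G₂(2)`
-/

set_option autoImplicit false

namespace Cfsg.Lib.K7

open Cfsg Subgroup Cfsg.Lib.Trans Cfsg.Lib.Gold
open Cfsg.Lib.P8 (O2 Om EA)
open scoped commutatorElement
open NSV6 NSGCa

universe u

namespace NSGC

variable {G : Type u} [Group G] [Finite G] {M T : Subgroup G} {π : G → Gm}

theorem bd (uf : UF) {R : Subgroup Gm} (h : ∀ y ∈ R, y * y = 1) :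
    Nat.card ↥(R ⊓ L0) ≤ 4 ∧ Nat.card R ≤ 2 * Nat.card ↥(R ⊓ L0) := by
  refine ⟨uf.ea _ inf_le_right (eab fun y hy => h y hy.1), ?_⟩
  have h1 := crel _ _ (inf_le_left : R ⊓ L0 ≤ R)
  have h2 : L0.relIndex R ≤ 2 := Nat.le_of_dvd (by norm_num) (uf.idx ▸ relIndex_dvd_index_of_normal L0 R)
  rw [inf_relIndex_left] at h1
  nlinarith

theorem outF (hDp : StDp.{u}) (uf : UF) (pg : PG M T π) (nT : M ≤ Ns T) (ea : EA T) (c : Nat.card T = 64)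
    {a : G} (aM : a ∈ M) (aL : π a ∉ L0) (a2 : a * a ∈ T) : Nat.card ↥(T ⊓ C1 a) = 8 := by
  have := Fact.mk Nat.prime_two
  have TC : T ≤ Cs T := fun a ha => mem_Cs.2 fun b hb =>
    congrArg Subtype.val (ea.1.is_comm.comm (⟨b, hb⟩ : T) ⟨a, ha⟩)
  obtain ⟨y0, hy0, oy0, e0⟩ := uf.out _ aL (orderOf_eq_prime (by
    rw [pow_two, ← pg.mul _ aM _ aM, (pg.ker _ (mul_mem aM aM)).2 a2]) fun e => aL (e ▸ L0.one_mem))
  obtain ⟨y, hy, rfl, oy⟩ := NSGB.lf pg hy0 (by rw [oy0]; decide)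
  rw [oy0] at oy
  have m := mul_mem (mul_mem aM hy) (inv_mem aM)
  have k4 := (hDp G M ⊥ T y 7 (by norm_num) (by decide) pg.two bot_le pg.le
    (fun _ _ => le_normalizer_of_normal (mem_top _)) nT hy oy
    (pg.fp y hy oy)).2.2.2 a aM (TC ((pg.ker _ (mul_mem m hy)).1 (by
      rw [pg.mul _ m _ hy, NSGB.cnj pg aM hy, e0, inv_mul_cancel]))) (TC a2) ea.1
  rw [c] at k4
  exact Nat.pow_left_injective (by decide : 2 ≠ 0) k4

theorem innF (hDp : StDp.{u}) (uf : UF) (pg : PG M T π) (nT : M ≤ Ns T) (c : Nat.card T = 64)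
    {a : G} (aM : a ∈ M) (aL : π a ∈ L0) (aT : a ∉ T) (a2 : a * a ∈ T) :
    Nat.card ↥(T ⊓ C1 a) ≤ 16 := by
  have := Fact.mk Nat.prime_two
  obtain ⟨b1, h1, b2, h2, y0, hy0, oy0⟩ := uf.inv3 _ aL (orderOf_eq_prime (by
    rw [pow_two, ← pg.mul _ aM _ aM, (pg.ker _ (mul_mem aM aM)).2 a2]) fun e => aT ((pg.ker a aM).1 e))
  obtain ⟨m1, hm1, rfl⟩ := pg.alt b1 h1
  obtain ⟨m2, hm2, rfl⟩ := pg.alt b2 h2
  have mM : ∀ i, (![1, m1, m2] : Fin 3 → G) i ∈ M := fun i => by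
    fin_cases i
    exacts [one_mem M, hm1, hm2]
  have HM : closure (Set.range fun i => (![1, m1, m2] : Fin 3 → G) i * a *
      ((![1, m1, m2] : Fin 3 → G) i)⁻¹) ≤ M := (closure_le _).2 (by
    rintro _ ⟨i, rfl⟩
    exact mul_mem (mul_mem (mM i) aM) (inv_mem (mM i)))
  obtain ⟨B, hB, -⟩ := NSGB.im pg _ HM
  have yB : y0 ∈ B := (closure_le B).2 (by
    rintro _ (rfl | rfl | rfl)
    · exact (hB _).2 ⟨_, subset_closure ⟨0, rfl⟩, by simp⟩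
    · exact (hB _).2 ⟨_, subset_closure ⟨1, rfl⟩, NSGB.cnj pg hm1 aM⟩
    · exact (hB _).2 ⟨_, subset_closure ⟨2, rfl⟩, NSGB.cnj pg hm2 aM⟩) hy0
  obtain ⟨x, hx, rfl⟩ := (hB y0).1 yB
  obtain ⟨y, hy, -, oy⟩ := NSGB.odd pg x (HM hx) (by rw [oy0]; decide)
  rw [oy0] at oy
  have yH := zpowers_le.2 hx hy
  have k2 := (hDp G M ⊥ T y 7 (by norm_num) (by decide) pg.two bot_le pg.le
    (fun _ _ => le_normalizer_of_normal (mem_top _)) nT (HM yH) oy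
    (pg.fp y (HM yH) oy)).2.1 3 a _ aM mM yH (T ⊓ C1 a) bot_le inf_le_left fun d hd =>
      mem_bot.2 (commutatorElement_eq_one_iff_mul_comm.2 (mem_C1.1 hd.2))
  rw [relIndex_bot_left, c] at k2
  have i : 4 ≤ (T ⊓ C1 a).relIndex T := (Nat.pow_le_pow_iff_left (by decide : 3 ≠ 0)).1 k2
  have := crel _ _ (inf_le_left : T ⊓ C1 a ≤ T)
  nlinarith

theorem fourF (hDp : StDp.{u}) (uf : UF) (pg : PG M T π) (nT : M ≤ Ns T) (c : Nat.card T = 64)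
    {B : Subgroup G} (BM : B ≤ M) {E : Subgroup Gm} (hE : ∀ y, y ∈ E ↔ ∃ b ∈ B, π b = y) (EL : E ≤ L0)
    (ea : EA E) (c4 : Nat.card E = 4) : Nat.card ↥(T ⊓ Cs B) ≤ 8 := by
  obtain ⟨m0, hm0, y0, hy0, oy0⟩ := (uf.four E EL ea c4).1
  obtain ⟨m, hm, rfl⟩ := pg.alt m0 hm0
  have HM : B ⊔ cj m B ≤ M :=
    sup_le BM (cj_le_iff.2 fun b hb => mul_mem (mul_mem hm (BM hb)) (inv_mem hm))
  obtain ⟨R, hR, -⟩ := NSGB.im pg _ HM
  have yR : y0 ∈ R := (sup_le (fun e he => by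
      obtain ⟨b, hb, rfl⟩ := (hE e).1 he
      exact (hR _).2 ⟨b, mem_sup_left hb, rfl⟩) (cj_le_iff.2 fun e he => by
      obtain ⟨b, hb, rfl⟩ := (hE e).1 he
      exact (hR _).2 ⟨_, mem_sup_right (conj_mem_cj.2 hb), NSGB.cnj pg hm (BM hb)⟩) :
    E ⊔ cj (π m) E ≤ R) hy0
  obtain ⟨x, hx, rfl⟩ := (hR y0).1 yR
  obtain ⟨y, hy, -, oy⟩ := NSGB.odd pg x (HM hx) (by rw [oy0]; decide)
  rw [oy0] at oy
  have yH := zpowers_le.2 hx hy
  have k2 := (hDp G M ⊥ T y 7 (by norm_num) (by decide) pg.two bot_le pg.le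
    (fun _ _ => le_normalizer_of_normal (mem_top _)) nT (HM yH) oy
    (pg.fp y (HM yH) oy)).2.2.1 B (T ⊓ Cs B) m BM hm yH bot_le inf_le_left
      (commutator_le.2 fun d hd b hb =>
        mem_bot.2 (commutatorElement_eq_one_iff_mul_comm.2 (mem_Cs.1 hd.2 b hb).symm))
  rw [relIndex_bot_left, c] at k2
  have i : 8 ≤ (T ⊓ Cs B).relIndex T := (Nat.pow_le_pow_iff_left (by decide : 2 ≠ 0)).1 k2
  have := crel _ _ (inf_le_left : T ⊓ Cs B ≤ T)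
  nlinarith

theorem core (hDp : StDp.{u}) (uf : UF) (pg : PG M T π) (nT : M ≤ Ns T) (cT : Cs T = T) (ea : EA T)
    (c : Nat.card T = 64) {T' : Subgroup G} (T'M : T' ≤ M) (ea' : EA T') (c' : Nat.card T' = 64)
    (nle : ¬ T' ≤ T) (nT' : T ≤ Ns T') :
    ∃ x ∈ M, orderOf x = 3 ∧ x ∈ Ns T' ∧ Nat.card ↥(T ⊓ C1 x) = 4 ∧
      Nat.card ↥(T' ⊓ C1 x) = 4 ∧ ¬ T' ⊓ C1 x ≤ T := by
  have : Finite Gm := Nat.finite_of_card_ne_zero (by rw [Chev.card_GamU33]; decide)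
  have cm : ∀ a ∈ T, ∀ b ∈ T, a * b = b * a := fun a ha b hb =>
    congrArg Subtype.val (ea.1.is_comm.comm (⟨a, ha⟩ : T) ⟨b, hb⟩)
  have cm' : ∀ a ∈ T', ∀ b ∈ T', a * b = b * a := fun a ha b hb =>
    congrArg Subtype.val (ea'.1.is_comm.comm (⟨a, ha⟩ : T') ⟨b, hb⟩)
  have s2 : ∀ a ∈ T, a * a = 1 := fun a ha => by rw [← sq]; exact ea.2 a ha
  have s2' : ∀ a ∈ T', a * a = 1 := fun a ha => by rw [← sq]; exact ea'.2 a ha
  have s2T : ∀ a ∈ T', a * a ∈ T := fun a ha => by rw [s2' a ha]; exact T.one_mem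
  have dec : ∀ w ∈ M, ∀ b ∈ M, π b = π w → b⁻¹ * w ∈ T := fun w hw b hb e =>
    (pg.ker _ (mul_mem (inv_mem hb) hw)).1 (by
      rw [pg.mul _ (inv_mem hb) _ hw, NSGB.inv pg hb, e, inv_mul_cancel])
  have hc : ∀ v ∈ T, ∀ a ∈ T', ⁅v, a⁆ ∈ T ⊓ T' := fun v hv a ha => by
    have e : ⁅v, a⁆ = v * (a * v⁻¹ * a⁻¹) := by rw [commutatorElement_def]; group
    exact ⟨e ▸ mul_mem hv ((cjm (nT (T'M ha))).2 (inv_mem hv)),
      T'.mul_mem ((cjm (nT' hv)).2 ha) (T'.inv_mem ha)⟩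
  obtain ⟨A, hA, cA⟩ := NSGB.im pg T' T'M
  have cU := crel _ _ (inf_le_right : T ⊓ T' ≤ T')
  rw [inf_relIndex_right, ← cA, c'] at cU
  have memU : ∀ u, u ∈ T ⊓ T' ↔ u ∈ T ∧ u ∈ T' := fun u => Iff.rfl
  generalize T ⊓ T' = U at *
  have UT : U ≤ T := fun u hu => ((memU u).1 hu).1
  have UT' : U ≤ T' := fun u hu => ((memU u).1 hu).2
  have UC : ∀ a ∈ T', U ≤ T ⊓ C1 a := fun a ha u hu => ⟨UT hu, mem_C1.2 (cm' u (UT' hu) a ha)⟩
  have UB : ∀ B, B ≤ T' → U ≤ T ⊓ Cs B := fun B hB u hu =>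
    ⟨UT hu, mem_Cs.2 fun b hb => cm' b (hB hb) u (UT' hu)⟩
  have A2 : ∀ y ∈ A, y * y = 1 := fun y hy => by
    obtain ⟨a, ha, rfl⟩ := (hA y).1 hy
    rw [← pg.mul _ (T'M ha) _ (T'M ha), s2' a ha, NSGB.one pg]
  obtain ⟨b1, b2⟩ := bd uf A2
  obtain ⟨a0, ha0, o0⟩ : ∃ a ∈ T', π a ∉ L0 := by
    by_contra h
    push Not at h
    have AL : A ≤ L0 := fun y hy => by
      obtain ⟨a, ha, rfl⟩ := (hA y).1 hy
      exact h a ha
    rw [inf_eq_left.2 AL] at b1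
    obtain ⟨a, ha, aT⟩ := SetLike.not_le_iff_exists.1 nle
    have k1 := (Subgroup.card_le_of_le (UC a ha)).trans (innF hDp uf pg nT c (T'M ha) (h a ha) aT (s2T a ha))
    have k2 := (Subgroup.card_le_of_le (UB T' le_rfl)).trans
      (fourF hDp uf pg nT c T'M hA AL (eab A2) (by nlinarith))
    nlinarith
  have k0 := (Subgroup.card_le_of_le (UC a0 ha0)).trans (outF hDp uf pg nT ea c (T'M ha0) o0 (s2T a0 ha0)).le
  have c8 : Nat.card U = 8 := by nlinarith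
  have cA8 : Nat.card A = 8 := by rw [c8] at cU; omega
  have cE : Nat.card ↥(A ⊓ L0) = 4 := by omega
  have eqU : ∀ a ∈ T', π a ∉ L0 → T ⊓ C1 a = U := fun a ha o =>
    (eq_of_le_of_card_ge (UC a ha) (by rw [outF hDp uf pg nT ea c (T'M ha) o (s2T a ha), c8])).symm
  let B : Subgroup G :=
    { carrier := {b | b ∈ T' ∧ π b ∈ L0}
      one_mem' := ⟨T'.one_mem, NSGB.one pg ▸ L0.one_mem⟩
      mul_mem' := fun h1 h2 => ⟨mul_mem h1.1 h2.1, by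
        rw [pg.mul _ (T'M h1.1) _ (T'M h2.1)]; exact mul_mem h1.2 h2.2⟩
      inv_mem' := fun h => ⟨inv_mem h.1, by rw [NSGB.inv pg (T'M h.1)]; exact inv_mem h.2⟩ }
  have BT : B ≤ T' := fun b hb => hb.1
  have hB : ∀ y, y ∈ A ⊓ L0 ↔ ∃ b ∈ B, π b = y := fun y =>
    ⟨fun h => by
      obtain ⟨a, ha, rfl⟩ := (hA y).1 h.1
      exact ⟨a, ⟨ha, h.2⟩, rfl⟩, by
      rintro ⟨b, hb, rfl⟩
      exact ⟨(hA _).2 ⟨b, hb.1, rfl⟩, hb.2⟩⟩
  have eE : EA (A ⊓ L0) := eab fun y hy => A2 y hy.1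
  have eqB : U = T ⊓ Cs B := eq_of_le_of_card_ge (UB B BT)
    (c8 ▸ fourF hDp uf pg nT c (BT.trans T'M) hB inf_le_right eE cE)
  obtain ⟨x0, x0L, ox0, xE, xn⟩ := (uf.four _ inf_le_right eE cE).2
  obtain ⟨x, hx, rfl, ox⟩ := NSGB.lf pg x0L (by rw [ox0]; decide)
  rw [ox0] at ox
  have h3 : x ^ 3 = 1 := ox ▸ pow_orderOf_eq_one x
  have xU : x ∈ Ns U := by
    refine mem_normalizer_of_cj_le (cj_le_iff.2 fun u hu => ?_)
    rw [eqB]
    refine ⟨(cjm (nT hx)).2 (UT hu), mem_Cs.2 fun b hb => ?_⟩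
    have bM := T'M (BT hb)
    have m : x⁻¹ * b * x⁻¹⁻¹ ∈ M := mul_mem (mul_mem (inv_mem hx) bM) (inv_mem (inv_mem hx))
    obtain ⟨b', hb', e⟩ := (hB (π (x⁻¹ * b * x⁻¹⁻¹))).1 (by
      rw [NSGB.cnj pg (inv_mem hx) bM, NSGB.inv pg hx]
      exact (cjm (inv_mem xE)).2 ((hB _).2 ⟨b, hb, rfl⟩))
    have a1 := cm _ (dec _ m _ (T'M (BT hb')) e) u (UT hu)
    have a2 := cm' _ (BT hb') u (UT' hu)
    calc b * (x * u * x⁻¹) = x * (b' * (b'⁻¹ * (x⁻¹ * b * x⁻¹⁻¹) * u)) * x⁻¹ := by group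
      _ = x * (b' * u * (b'⁻¹ * (x⁻¹ * b * x⁻¹⁻¹))) * x⁻¹ := by rw [a1]; group
      _ = _ := by rw [a2]; group
  have wm : ∀ v a b : G, ⁅v, a * b⁆ = ⁅v, a⁆ * (a * ⁅v, b⁆ * a⁻¹) := fun v a b => by
    simp only [commutatorElement_def]; group
  let W : Subgroup G :=
    { carrier := {w | w ∈ M ∧ (∀ u ∈ U, w * u = u * w) ∧ ∀ v ∈ T, ⁅v, w⁆ ∈ U}
      one_mem' := ⟨M.one_mem, by simp, by simp⟩
      mul_mem' := fun h1 h2 => ⟨mul_mem h1.1 h2.1, fun u hu => by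
        rw [mul_assoc, h2.2.1 u hu, ← mul_assoc, h1.2.1 u hu, mul_assoc], fun v hv => by
        rw [wm, h1.2.1 _ (h2.2.2 v hv), mul_inv_cancel_right]
        exact mul_mem (h1.2.2 v hv) (h2.2.2 v hv)⟩
      inv_mem' := fun {w} h => ⟨inv_mem h.1, fun u hu => by
        rw [inv_mul_eq_iff_eq_mul, ← mul_assoc, h.2.1 u hu, mul_inv_cancel_right], fun v hv => by
        have : ⁅v, w⁻¹⁆ = w⁻¹ * (⁅v, w⁆⁻¹ * w) := by simp only [commutatorElement_def]; group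
        rw [this, ← h.2.1 _ (inv_mem (h.2.2 v hv)), inv_mul_cancel_left]
        exact inv_mem (h.2.2 v hv)⟩ }
  have WM : W ≤ M := fun w hw => hw.1
  obtain ⟨R, hR, -⟩ := NSGB.im pg W WM
  have R2 : ∀ y ∈ R, y * y = 1 := fun y hy => by
    obtain ⟨w, hw, rfl⟩ := (hR y).1 hy
    rw [← pg.mul _ hw.1 _ hw.1]
    refine (pg.ker _ (mul_mem hw.1 hw.1)).2 (cT.le (mem_Cs.2 fun v hv => ?_))
    rw [← commutatorElement_eq_one_iff_mul_comm, wm, hw.2.1 _ (hw.2.2 v hv), mul_inv_cancel_right]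
    exact s2 _ (UT (hw.2.2 v hv))
  have eR : A = R := eq_of_le_of_card_ge (fun y hy => by
    obtain ⟨a, ha, rfl⟩ := (hA y).1 hy
    exact (hR _).2 ⟨a, ⟨T'M ha, fun u hu => cm' a ha u (UT' hu), fun v hv => hc v hv a ha⟩, rfl⟩)
    (by have := bd uf R2; omega)
  have cjO : ∀ e ∈ M, π (x * e * x⁻¹) ∈ L0 ↔ π e ∈ L0 := fun e he => by
    rw [NSGB.cnj pg hx he]; exact cjm (le_normalizer x0L)
  have i2 : ∀ a ∈ M, ∀ b ∈ M, π (a * b) ∈ L0 ↔ (π a ∈ L0 ↔ π b ∈ L0) := fun a ha b hb => by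
    rw [pg.mul a ha b hb]; exact mul_mem_iff_of_index_two uf.idx
  have xo : ∀ e ∈ T', π e ∉ L0 → x * e * x⁻¹ ∈ T' := fun e he o => by
    have m : x * e * x⁻¹ ∈ M := mul_mem (mul_mem hx (T'M he)) (inv_mem hx)
    have iv : ∀ {K : Subgroup G} {u : G}, x ∈ Ns K → u ∈ K → x⁻¹ * u * x ∈ K := fun h hu => by
      simpa using (cjm (inv_mem h)).2 hu
    obtain ⟨a, ha, ea⟩ := (hA _).1 (eR ▸ (hR _).2 ⟨x * e * x⁻¹, ⟨m, fun u hu => by
      have := cm' e he _ (UT' (iv xU hu))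
      calc x * e * x⁻¹ * u = x * (e * (x⁻¹ * u * x)) * x⁻¹ := by group
        _ = _ := by rw [this]; group, fun v hv => by
      have : ⁅v, x * e * x⁻¹⁆ = x * ⁅x⁻¹ * v * x, e⁆ * x⁻¹ := by simp only [commutatorElement_def]; group
      rw [this]
      exact (cjm xU).2 (hc _ (iv (nT hx) hv) e he)⟩, rfl⟩ : π (x * e * x⁻¹) ∈ A)
    have hv := dec _ m a (T'M ha) ea
    have e2 : x * e * x⁻¹ * (x * e * x⁻¹) = 1 := by
      calc _ = x * (e * e) * x⁻¹ := by group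
        _ = 1 := by rw [s2' e he]; group
    have oa : π a ∉ L0 := fun h => o ((cjO e (T'M he)).1 (ea ▸ h))
    generalize x * e * x⁻¹ = w at hv e2
    have : a⁻¹ * w ∈ T ⊓ C1 a := ⟨hv, mem_C1.2 (by
      have i1 := inv_eq_of_mul_eq_one_right (s2 _ hv)
      rw [mul_inv_rev, inv_inv, inv_eq_of_mul_eq_one_right e2] at i1
      rw [mul_inv_cancel_left, ← i1, mul_assoc, s2' a ha, mul_one])⟩
    rw [eqU a ha oa] at this
    simpa using mul_mem ha (UT' this)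
  have xT' : x ∈ Ns T' := by
    refine mem_normalizer_of_cj_le (cj_le_iff.2 fun e he => ?_)
    by_cases o : π e ∈ L0
    · have := mul_mem (xo _ (mul_mem he ha0) fun h => o0 (((i2 e (T'M he) a0 (T'M ha0)).1 h).1 o))
        (inv_mem (xo a0 ha0 o0))
      convert this using 1
      group
    · exact xo e he o
  obtain ⟨tT, tx⟩ := nm_c cm' h3 xT' ha0
  have ot : π (nm x a0) ∉ L0 := by
    have h1 := (cjm xT').2 ha0
    have h2 := (cjm xT').2 h1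
    rw [nm, i2 _ (T'M (mul_mem ha0 h1)) _ (T'M h2), i2 _ (T'M ha0) _ (T'M h1), cjO _ (T'M h1),
      cjO _ (T'M ha0)]
    tauto
  generalize nm x a0 = t at tT tx ot
  have inT : ∀ b ∈ T, π b ∈ L0 := fun b hb => by rw [(pg.ker b (pg.le hb)).2 hb]; exact L0.one_mem
  obtain ⟨k1, k2⟩ := cnt hDp ea c c8 ox (nT hx) xU (nT (T'M tT)) tx (eqU t tT ot) (fun v hv => hc v hv t tT)
    fun h => by
      have := orderOf_dvd_of_pow_eq_one (ea.2 x (cT.le (mem_Cs.2 fun v hv => mem_C1.1 (h hv))))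
      rw [ox] at this
      exact absurd this (by decide)
  refine ⟨x, hx, ox, xT', k1, ?_, fun h => ot (inT t (h ⟨tT, tx⟩))⟩
  have key : ∀ b ∈ T' ⊓ C1 x, (b ∈ U ⊓ C1 x ↔ π b ∈ L0) := fun b hb => by
    refine ⟨fun h => inT b (UT h.1), fun h => ⟨(memU b).2 ⟨?_, hb.1⟩, hb.2⟩⟩
    by_contra hn
    have bM := T'M hb.1
    refine xn (mem_Cs.2 fun f hf => commutatorElement_eq_one_iff_mul_comm.1 (mem_bot.1
      (four eE bot_le (by rw [relIndex_bot_left, cE]) (orderOf_dvd_iff_pow_eq_one.1 ox0.dvd)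
        (le_normalizer_of_normal (mem_top _)) xE ((hB _).2 ⟨b, ⟨hb.1, h⟩, rfl⟩)
        (fun e => hn ((pg.ker b bM).1 (mem_bot.1 e))) (mem_bot.2
          (commutatorElement_eq_one_iff_mul_comm.2 ?_)) f hf)))
    rw [← pg.mul _ bM _ hx, mem_C1.1 hb.2, pg.mul _ hx _ bM]
  have i : (U ⊓ C1 x).relIndex (T' ⊓ C1 x) = 2 := relIndex_eq_two_iff.2 ⟨t, ⟨tT, tx⟩, fun b hb => by
    rw [key _ (mul_mem hb ⟨tT, tx⟩), key b hb, i2 _ (T'M hb.1) _ (T'M tT)]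
    by_cases h : π b ∈ L0
    · exact Or.inr ⟨h, fun h' => ot (h'.1 h)⟩
    · exact Or.inl ⟨⟨fun h' => absurd h' h, fun h' => absurd h' ot⟩, h⟩⟩
  have := crel _ _ (inf_le_inf_right (C1 x) UT')
  rw [i, k2] at this
  exact this.symm

end NSGC

open NSGC in
theorem gc (hDp : StDp.{u}) : StGC.{u} := by
  intro G _ _ M S₀ g π uf nb no pg ea c
  have cm : ∀ a ∈ O2 M, ∀ b ∈ O2 M, a * b = b * a := fun a ha b hb =>
    congrArg Subtype.val (ea.1.is_comm.comm (⟨a, ha⟩ : O2 M) ⟨b, hb⟩)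
  have eV : Om (O2 M) = O2 M := le_antisymm (fun v hv => ((no.memV v).1 hv).1) fun v hv =>
    (no.memV v).2 ⟨hv, by rw [← sq]; exact ea.2 v hv, fun t ht => mem_C1.2 (cm t ht v hv)⟩
  have cV := no.cV
  rw [eV] at cV
  refine core hDp uf pg no.nT.ge cV ea c ((cj_le_iff.2 fun t ht =>
    (cjm nb.nor).2 (no.leT ht)).trans nb.syl.le) (eab fun a ha => ?_) ((card_cj _ _).trans c)
    (fun h => nb.out (no.nT ▸ mem_normalizer_of_cj_le h)) fun v hv => ?_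
  · have := ea.2 _ (mem_cj.1 ha)
    calc a * a = g * (g⁻¹ * a * g) ^ 2 * g⁻¹ := by rw [sq]; group
      _ = 1 := by rw [this]; group
  · have h : g⁻¹ * v * g⁻¹⁻¹ ∈ Ns (O2 M) := no.nT.ge (nb.syl.le ((cjm (inv_mem nb.nor)).2 (no.leT hv)))
    refine mem_normalizer_of_cj_le (cj_le_iff.2 fun a ha => mem_cj.2 ?_)
    have := (cjm h).2 (mem_cj.1 ha)
    convert this using 1
    group

end Cfsg.Lib.K7
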