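import Cfsg.Agent.K7.Defs
import Cfsg.Agent.K35.Typ
import Cfsg.Agent.P8.Bas2
import Cfsg.Agent.P8.E73
import Cfsg.Agent.Class.PGL2Borel

/-!
# Simple groups of order `7 * 3 ^ a * 2 ^ b`: no subgroup of type `L₂(8)` over a Sylow 2-subgroup
-/

set_option autoImplicit false

namespace Cfsg.Lib.K7

open Cfsg Subgroup Cfsg.Lib.Trans Cfsg.Lib.Gold
open Cfsg.Lib.P8 (L32 O2 Ch Pj Ty)
open scoped commutatorElement

universe u

namespace L8

theorem bor {X : Type u} [Group X] [Finite X] (h : L2q 8 X) : Nat.card X = 504 ∧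
    ∀ P : Sylow 2 X, ∃ v : X, orderOf v = 7 ∧ ∀ y ∈ (P : Subgroup X), v * y * v⁻¹ ∈ (P : Subgroup X) := by
  obtain ⟨F, _, _, cF, ⟨e⟩⟩ := h
  have := Fact.mk Nat.prime_two
  have h7 : Fact (Nat.Prime 7) := ⟨by norm_num⟩
  have cN : Nat.card F = 8 := by rw [Nat.card_eq_fintype_card, cF]
  have ch : CharP F 2 := by
    obtain ⟨p, hp⟩ := CharP.exists F
    obtain ⟨n, pp, hn⟩ := FiniteField.card F p
    have : p = 2 := (Nat.prime_dvd_prime_iff_eq pp Nat.prime_two).1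
      (pp.dvd_of_dvd_pow (n := 3) (by rw [show 2 ^ 3 = 8 from rfl, ← cF, hn]; exact dvd_pow_self p n.ne_zero))
    exact this ▸ hp
  have cP : Nat.card (K35.PSL 2 F) = 504 := by
    have k := Class.gcd_mul_card_PSL2 (F := F)
    rw [cN] at k
    simpa using k
  refine ⟨(Nat.card_congr e.toEquiv).trans cP, fun P => ?_⟩
  obtain ⟨w, ow⟩ := exists_prime_orderOf_dvd_card' (G := K35.PSL 2 F) 7 (by rw [cP]; decide)
  have p7 : IsPGroup 7 (zpowers (Class.pslι w)) := .of_card (n := 1) (by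
    rw [Nat.card_zpowers, orderOf_injective _ Class.pslι_injective, ow, pow_one])
  obtain ⟨x, hx⟩ := p7.nonempty_fixed_point_of_prime_not_dvd_card (Class.P1 F) (by
    rw [Class.P1.card_eq, cN]; decide)
  have fx : Class.pslι w • x = x := hx ⟨_, mem_zpowers _⟩
  obtain ⟨g, hg⟩ := MulAction.exists_smul_eq (K35.PSL 2 F) (Class.pslSylow 2 x)
    (P.mapSurjective (f := e.toMonoidHom) e.surjective)
  have m : ∀ y : X, y ∈ (P : Subgroup X) ↔ g⁻¹ * e y * g ∈ (Class.pslSylow 2 x : Subgroup _) := fun y => by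
    have k : e y ∈ ((g • Class.pslSylow 2 x : Sylow 2 _) : Subgroup _) ↔ y ∈ (P : Subgroup X) := by
      rw [hg]
      exact mem_map_iff_mem (f := e.toMonoidHom) e.injective
    rw [← k, Sylow.coe_subgroup_smul, mem_pointwise_smul_iff_inv_smul_mem]
    simp
  refine ⟨e.symm (g * w * g⁻¹), ?_, fun y hy => (m _).2 ?_⟩
  · rw [MulEquiv.orderOf_eq, ← ow]
    exact (MulAut.conj g).orderOf_eq w
  · have k := (Class.conj_mem_unip_iff 2 (Class.pslι w) _).2 ((Class.mem_pslSylow 2).1 ((m y).1 hy))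
    rw [fx, ← map_inv, ← map_mul, ← map_mul] at k
    convert (Class.mem_pslSylow 2).2 k using 1
    simp only [map_mul, map_inv, MulEquiv.apply_symm_apply]
    group

/-- No element of order seven normalizes a Sylow 2-subgroup of `L₃(2)`. -/
theorem no32 (P : Sylow 2 L32) {v : L32} (o : orderOf v = 7)
    (h : ∀ y ∈ (P : Subgroup L32), v * y * v⁻¹ ∈ (P : Subgroup L32)) : False := by
  have := Fact.mk Nat.prime_two
  have := P8.E73H.simple32
  have c := P8.E73H.card32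
  have cP : Nat.card P = 8 := by
    rw [P.card_eq_multiplicity, c, show 168 = 2 ^ 3 * 21 from rfl,
      Nat.factorization_mul (by decide) (by decide), Finsupp.add_apply, Nat.Prime.factorization_pow
        Nat.prime_two, Nat.factorization_eq_zero_of_not_dvd (by decide)]
    simp
  set W := Ns (P : Subgroup L32)
  have d7 : 7 ∣ Nat.card W := o ▸ orderOf_dvd_natCard W (mem_normalizer_fintype h)
  have d8 : 8 ∣ Nat.card W := cP ▸ card_dvd_of_le le_normalizer
  obtain ⟨k, hk⟩ := Nat.Coprime.mul_dvd_of_dvd_of_dvd (by decide) d7 d8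
  have i := W.card_mul_index
  rw [c, hk] at i
  have i3 : W.index ≤ 3 := by
    rcases k with _ | k
    · omega
    · nlinarith
  have k1 : W.normalCore.index ≤ 6 := by
    rw [normalCore_eq_ker, index_ker]
    refine (Nat.card_le_card_of_injective _ Subtype.val_injective).trans ?_
    rw [Nat.card_perm]
    exact Nat.factorial_le i3
  rcases (normalCore_normal W).eq_bot_or_eq_top with e | e
  · rw [e, index_bot, c] at k1
    omega
  · have : (P : Subgroup L32).Normal := normalizer_eq_top_iff.1 (top_le_iff.1 (e ▸ normalCore_le W))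
    rcases this.eq_bot_or_eq_top with e | e
    · rw [e, card_bot] at cP
      omega
    · rw [e, card_top, c] at cP
      omega

variable {G : Type u} [Group G] [Finite G] {u : G}

omit [Finite G] in
theorem syl (gl : Gl G 7) (o : orderOf u = 7) {Y : Subgroup G} (hu : u ∈ Y) :
    IsSylowIn 7 (zpowers u) Y := by
  have c : Nat.card (zpowers u) = 7 := by rw [Nat.card_zpowers, o]
  refine ⟨zpowers_le.2 hu, .of_card (n := 1) (by rw [c, pow_one]), fun k => ?_⟩
  obtain ⟨a, b, cG⟩ := gl.ord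
  have d := card_subgroup_dvd_card Y
  rw [← card_mul_relIndex (zpowers_le.2 hu), c, cG, mul_assoc] at d
  have h7 : Nat.Prime 7 := by norm_num
  rcases (Nat.Prime.dvd_mul h7).1 (k.trans (Nat.dvd_of_mul_dvd_mul_left (by decide) d)) with e | e <;>
    exact absurd (h7.dvd_of_dvd_pow e) (by decide)

theorem cnt (gl : Gl G 7) (o : orderOf u = 7) {Y : Subgroup G} (hu : u ∈ Y) :
    ∃ e n : ℕ, e ≤ 7 ∧ n % 7 = 1 ∧ Nat.card ↥(Y ⊓ Ns (zpowers u)) = 7 * e ∧ Nat.card Y = 7 * e * n := by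
  have h7 : Fact (Nat.Prime 7) := ⟨by norm_num⟩
  have c : Nat.card (zpowers u) = 7 := by rw [Nat.card_zpowers, o]
  have s := syl gl o hu
  have k := card_sylow_modEq_one 7 Y
  rw [s.toSylow.card_eq_index_normalizer] at k
  change (normalizer (((zpowers u).subgroupOf Y : Subgroup Y) : Set Y)).index ≡ 1 [MOD 7] at k
  rw [← subgroupOf_normalizer_eq (zpowers_le.2 hu)] at k
  have l : zpowers u ≤ Y ⊓ Ns (zpowers u) := le_inf (zpowers_le.2 hu) le_normalizer
  have c1 := card_mul_relIndex l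
  rw [c] at c1
  refine ⟨_, _, ?_, k, c1.symm, ?_⟩
  · rw [← c]
    nth_rw 1 [← gl.cp u o]
    refine P8.Bas1H.cidx fun d hd => ?_
    rw [commutatorElement_def]
    exact mul_mem ((mem_normalizer_iff.1 hd.2 u).1 (mem_zpowers u)) (inv_mem (mem_zpowers u))
  · rw [c1, ← card_mul_relIndex (inf_le_left : Y ⊓ Ns (zpowers u) ≤ Y), inf_comm, inf_relIndex_right]
    rfl

omit [Finite G] in
theorem one (gl : Gl G 7) (o : orderOf u = 7) {g : G} {n : ℕ} (hn : n.Coprime 7) (h : g ^ n = 1)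
    (e : g * u = u * g) : g = 1 :=
  orderOf_eq_one_iff.1 (Nat.eq_one_of_dvd_coprimes hn (orderOf_dvd_of_pow_eq_one h)
    (o ▸ orderOf_dvd_of_mem_zpowers (gl.cp u o ▸ mem_C1.2 e)))

theorem md (gl : Gl G 7) (o : orderOf u = 7) {Q : Subgroup G} (hQ : IsPGroup 2 Q) (hn : u ∈ Ns Q) :
    Nat.card Q % 7 = 1 := by
  have h7 : Fact (Nat.Prime 7) := ⟨by norm_num⟩
  exact Solv.card_modEq_one_of_inf_centralizer_eq_bot (q := 7) (Q := zpowers u) (L := Q)
    (.of_card (n := 1) (by rw [Nat.card_zpowers, o, pow_one])) (zpowers_le.2 hn)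
    (eq_bot_iff.2 fun g hg => by
      obtain ⟨k, hk⟩ := hQ ⟨g, hg.1⟩
      exact one gl o (Nat.Coprime.pow_left k (by decide)) (congrArg Subtype.val hk)
        (hg.2 u (mem_zpowers u)).symm)

theorem inv_n {d : G} (e : d * u * d⁻¹ = u⁻¹) : d ∈ Ns (zpowers u) :=
  mem_normalizer_fintype fun y hy => by
    obtain ⟨i, rfl⟩ := mem_zpowers_iff.1 hy
    rw [← conj_zpow, e]
    exact zpow_mem (inv_mem (mem_zpowers u)) i

theorem gen (gl : Gl G 7) (o : orderOf u = 7) {H S : Subgroup G} (ty : TyL 8 H) (le : S ≤ H)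
    (hS : IsSylowIn 2 S ⊤) (hu : u ∈ H) : (∃ d ∈ H, d * u * d⁻¹ = u⁻¹) ∧
      ∀ Z : Subgroup G, S ≤ Z → u ∈ Z → ∀ d ∈ Z, d * u * d⁻¹ = u⁻¹ → H ≤ Z := by
  have := Fact.mk Nat.prime_two
  have := P8.pf_Bas1.{u}
  have := P8.pf_PjB.{u, u}
  obtain ⟨X, _, _, π, ty, l⟩ := ty
  have cH := card_mul_relIndex ty.le
  rw [(P8.PjB.card ty.toPj).2.1, (bor l).1] at cH
  have mQ := md gl o ty.two (P8.PjBH.nor ty.toPj hu)
  obtain ⟨e, n, e7, n1, cN, cY⟩ := cnt gl o hu
  have e2 : e = 2 := by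
    have k : e * n = Nat.card (O2 H) * 72 := by nlinarith
    have k' : e * n % 7 = 2 := by rw [k, Nat.mul_mod, mQ]
    rw [Nat.mul_mod, n1, mul_one, Nat.mod_mod] at k'
    omega
  subst e2
  have u1 : u ≠ 1 := fun k => by rw [k, orderOf_one] at o; omega
  have u7 : u ^ 7 = 1 := o ▸ pow_orderOf_eq_one u
  have ex : ∃ d ∈ H, d * u * d⁻¹ = u⁻¹ := by
    obtain ⟨d, hd, od⟩ := P8.Bas1H.exists_ord (N := H ⊓ Ns (zpowers u)) Nat.prime_two (by rw [cN]; decide)
    have d2 : d ^ 2 = 1 := od ▸ pow_orderOf_eq_one d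
    have hv := (mem_normalizer_iff.1 hd.2 u).1 (mem_zpowers u)
    have cm : Commute (d * u * d⁻¹) u := by
      obtain ⟨i, hi⟩ := mem_zpowers_iff.1 hv
      rw [← hi]
      exact (Commute.refl u).zpow_left i
    have dd : d⁻¹ = d := inv_eq_of_mul_eq_one_right (by rw [← pow_two, d2])
    refine ⟨d, hd.1, eq_inv_of_mul_eq_one_left ?_⟩
    by_contra k
    have hw : d * u * d⁻¹ * u ∈ zpowers u := mul_mem hv (mem_zpowers u)
    have c7 : Nat.card (zpowers u) = 7 := by rw [Nat.card_zpowers, o]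
    have h7 : Fact (Nat.Prime (Nat.card (zpowers u))) := ⟨by rw [c7]; norm_num⟩
    have cw : d * (d * u * d⁻¹ * u) = d * u * d⁻¹ * u * d := by
      have cm' := cm.eq
      rw [dd] at cm' ⊢
      have d2' : d * d = 1 := by rw [← pow_two, d2]
      calc d * (d * u * d * u) = d * d * u * d * u := by group
        _ = u * d * u * (d * d) := by rw [d2', one_mul, mul_one]
        _ = u * (d * u * d) * d := by group
        _ = _ := by rw [cm']
    have ow : orderOf (d * u * d⁻¹ * u) = 7 := by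
      have := (Nat.dvd_prime (by norm_num : Nat.Prime 7)).1 (o ▸ orderOf_dvd_of_mem_zpowers hw)
      exact this.resolve_left fun k' => k (orderOf_eq_one_iff.1 k')
    have := one gl ow (by decide : Nat.Coprime 2 7) d2 cw
    rw [this, orderOf_one] at od
    omega
  refine ⟨ex, fun Z sZ uZ d hd e => ?_⟩
  obtain ⟨d₀, h₀, e₀⟩ := ex
  have dH : d ∈ H := by
    have k : d₀⁻¹ * d ∈ zpowers u := gl.cp u o ▸ mem_C1.2 (by
      rw [← e₀] at e
      calc d₀⁻¹ * d * u = d₀⁻¹ * (d * u * d⁻¹) * d := by group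
        _ = u * (d₀⁻¹ * d) := by rw [e]; group)
    simpa using mul_mem h₀ (zpowers_le.2 hu k)
  obtain ⟨e', n', -, n1', cN', cY'⟩ := cnt gl o (Y := Z ⊓ H) ⟨uZ, hu⟩
  have dv : 7 * e' ∣ 7 * 2 := by
    rw [← cN, ← cN']
    exact card_dvd_of_le (inf_le_inf_right _ inf_le_right)
  have e2 : e' = 2 := by
    refine ((Nat.dvd_prime Nat.prime_two).1 (Nat.dvd_of_mul_dvd_mul_left (by decide) dv)).resolve_left ?_
    rintro rfl
    have l : zpowers u ≤ Z ⊓ H ⊓ Ns (zpowers u) :=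
      le_inf (zpowers_le.2 ⟨uZ, hu⟩) le_normalizer
    have k := eq_of_le_of_card_ge l (by rw [cN', Nat.card_zpowers, o])
    have k' : d ∈ C1 u := by rw [gl.cp u o, k]; exact ⟨⟨hd, dH⟩, inv_n e⟩
    rw [mem_C1.1 k', mul_inv_cancel_right] at e
    exact u1 (orderOf_eq_one_iff.1 (Nat.eq_one_of_dvd_coprimes (by decide : Nat.Coprime 2 7)
      (orderOf_dvd_of_pow_eq_one (by rw [pow_two]; nth_rw 1 [e]; exact inv_mul_cancel u)) o.dvd))
  subst e2
  have c := card_mul_relIndex (inf_le_right : Z ⊓ H ≤ H)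
  set m := (Z ⊓ H).relIndex H
  have m1 : m % 7 = 1 := by
    have k : n' * m = n := by rw [cY', cY] at c; nlinarith
    rwa [← k, Nat.mul_mod, n1', one_mul, Nat.mod_mod] at n1
  have m2 : ¬ 2 ∣ m := fun k => (hS.mono le le_top).not_dvd
    (k.trans (relIndex_dvd_of_le_left H (le_inf sZ le)))
  have sQ : O2 H ≤ S := (hS.mono le le_top).le_of_normal ty.two ty.le (P8.PjBH.nor ty.toPj)
  have m3 : m ∣ 504 := by
    rw [← (bor l).1, ← (P8.PjB.card ty.toPj).2.1]
    exact relIndex_dvd_of_le_left H (sQ.trans (le_inf sZ le))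
  have m4 : m ∣ 9 := by
    have k : Nat.Coprime m 56 := by
      rw [show 56 = 2 ^ 3 * 7 from rfl]
      exact Nat.Coprime.mul_right (Nat.Coprime.pow_right 3
        ((Nat.prime_two.coprime_iff_not_dvd.2 m2).symm))
        ((Nat.Prime.coprime_iff_not_dvd (by norm_num)).2 (by omega)).symm
    exact k.dvd_of_dvd_mul_left m3
  have m5 : m = 1 := by
    have := Nat.le_of_dvd (by decide) m4
    interval_cases m <;> omega
  exact (relIndex_eq_one.1 m5).trans inf_le_left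

theorem sol (gl : Gl G 7) (o : orderOf u = 7) {K S : Subgroup G} (ch : Ch K) (sK : Group.IsSolvable K)
    (le : S ≤ K) (hS : IsSylowIn 2 S ⊤) (hu : u ∈ K) (un : u ∈ Ns S) {g : G} (hg : g ∈ K) :
    ∃ k ∈ S ⊔ zpowers u, ∃ n ∈ Ns S ⊓ Ns (zpowers u), g = k * n := by
  have := Fact.mk Nat.prime_two
  have p7 : Nat.Prime 7 := by norm_num
  have h7 := Fact.mk p7
  have := P8.pf_Bas1.{u}
  have := P8.pf_PjB.{u, u}
  obtain ⟨X, _, _, π, pj, o2⟩ := P8.BrgH.quo K
  obtain ⟨-, cX, -, sX, -⟩ := P8.PjB.card pj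
  have := sX sK
  have u7 : u ^ 7 = 1 := o ▸ pow_orderOf_eq_one u
  have u1 : u ≠ 1 := fun k => by rw [k, orderOf_one] at o; omega
  have q2 : ∀ q ∈ O2 K, ∃ i, q ^ 2 ^ i = 1 := fun q hq =>
    (pj.two ⟨q, hq⟩).imp fun i e => congrArg Subtype.val e
  have nt : (⊤ : Subgroup X) ≠ ⊥ := fun k => by
    obtain ⟨i, hi⟩ := q2 u ((pj.ker u hu).1 (mem_bot.1 (k ▸ mem_top _)))
    exact u1 (one gl o (Nat.Coprime.pow_left i (by decide)) hi rfl)
  obtain ⟨p, N, hp, h1, -, -, he, hN⟩ := Solv.exists_isMinNormal_elementary_le (⊤ : Subgroup X) nt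
  have hn := h1.normal
  have := Fact.mk hp
  obtain ⟨A, hA, lA, cA, -⟩ := P8.PjB.pre pj N
  have AK : A ≤ K := fun a ha => ((hA a).1 ha).1
  have cjA : ∀ y ∈ K, ∀ a ∈ A, y * a * y⁻¹ ∈ A := fun y hy a ha =>
    (hA _).2 ⟨mul_mem (mul_mem hy (AK ha)) (inv_mem hy), by
      rw [P8.PjBH.cj pj hy (AK ha)]; exact hn.conj_mem _ ((hA a).1 ha).2 _⟩
  have nA : K ≤ Ns A := fun y hy => mem_normalizer_fintype (cjA y hy)
  obtain ⟨c, hc, c1⟩ := N.bot_or_exists_ne_one.resolve_left h1.ne_bot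
  have oc : orderOf c = p := orderOf_eq_prime (he c hc) c1
  have p2 : p ≠ 2 := by
    rintro rfl
    exact h1.ne_bot (le_bot_iff.1
      (o2 ▸ le_sSup (s := {N : Subgroup X | N.Normal ∧ IsPGroup 2 N}) ⟨hn, hN⟩ : N ≤ ⊥))
  obtain ⟨c', hc', rfl⟩ := pj.sur c
  obtain ⟨b, hb, eb, ob⟩ := P8.PjBH.odd pj c' hc' (oc ▸ hp.odd_of_ne_two p2)
  have bK : b ∈ K := zpowers_le.2 hc' hb
  have bA : b ∈ A := (hA b).2 ⟨bK, eb ▸ hc⟩
  have e7 : p = 7 := by
    by_contra k
    have cp : Nat.Coprime p 7 := (Nat.coprime_primes hp p7).2 k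
    have nil := K35.Typ.nil p7 u7 A (cjA u hu) fun a ha e => by
      obtain ⟨i, hi⟩ := P8.PjBH.pw pj (AK ha)
      rw [← pow_mul] at hi
      exact one gl o (Nat.Coprime.mul_left (Nat.Coprime.coprime_dvd_left
        (orderOf_dvd_of_pow_eq_one (he _ ((hA a).1 ha).2)) cp) (Nat.Coprime.pow_left i (by decide))) hi e
    refine c1 (eb ▸ (pj.ker b bK).2 (ch ⟨bK, mem_Cs.2 fun q hq => ?_⟩))
    obtain ⟨j, hj⟩ := q2 q hq
    exact (Solv.commute_of_mem_of_coprime_of_isNilpotent nil (lA hq) bA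
      (Nat.Coprime.coprime_dvd_left (orderOf_dvd_of_pow_eq_one hj) (by
        rw [ob, oc]
        exact Nat.Coprime.pow_left j ((Nat.coprime_primes Nat.prime_two hp).2 p2.symm)))).eq
  subst e7
  have s1 := (syl gl o hu).inf_normal_of_le nA AK
  have uA : u ∈ A := by
    have k : zpowers u ⊓ A ≠ ⊥ := fun k => s1.eq_bot_iff.1 k
      ((ob.trans oc) ▸ orderOf_dvd_natCard A bA)
    have d := card_dvd_of_le (inf_le_left : zpowers u ⊓ A ≤ zpowers u)
    rw [Nat.card_zpowers, o] at d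
    have k' := eq_of_le_of_card_ge (inf_le_left : zpowers u ⊓ A ≤ zpowers u) (by
      rw [Nat.card_zpowers, o, ((Nat.dvd_prime p7).1 d).resolve_left fun k' => k (card_eq_one.1 k')])
    exact (k'.ge (mem_zpowers u)).2
  have s2 := syl gl o uA
  have sK := hS.mono le le_top
  have sQ : O2 K ≤ S := sK.le_of_normal pj.two pj.le (P8.PjBH.nor pj)
  have SQ : S ≤ O2 K := fun s hs => by
    have m1 : ⁅s, u⁆ ∈ S := by
      rw [commutatorElement_def, mul_assoc, mul_assoc, ← mul_assoc u]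
      exact mul_mem hs ((mem_normalizer_iff.1 un _).1 (inv_mem hs))
    have m2 : ⁅s, u⁆ ∈ A := by
      rw [commutatorElement_def]
      exact mul_mem (cjA s (le hs) u uA) (inv_mem uA)
    obtain ⟨i, hi⟩ := hS.isPGroup ⟨_, m1⟩
    have m3 : π ⁅s, u⁆ = 1 := orderOf_eq_one_iff.1 (Nat.eq_one_of_dvd_coprimes
      (Nat.Coprime.pow_left i (by decide : Nat.Coprime 2 7)) (orderOf_dvd_of_pow_eq_one (by
        rw [← P8.PjBH.pow pj (AK m2), show ⁅s, u⁆ ^ 2 ^ i = 1 from congrArg Subtype.val hi,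
          P8.PjBH.one pj])) (orderOf_dvd_of_pow_eq_one (he _ ((hA _).1 m2).2)))
    obtain ⟨y, hy, ey, my⟩ := P8.Bas2H.lift hS.isPGroup sQ (le.trans (P8.PjBH.nor pj))
      (P8.PjBH.nor pj hu) (by rw [o]; decide) hs ((pj.ker _ (AK m2)).1 m3)
    obtain ⟨j, hj⟩ := hS.isPGroup ⟨y, hy⟩
    rw [one (g := y) gl o (Nat.Coprime.pow_left j (by decide)) (congrArg Subtype.val hj) ey, mul_one] at my
    exact inv_mem_iff.1 my
  have KS : K ≤ Ns S := le_antisymm SQ sQ ▸ P8.PjBH.nor pj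
  have AS : A ≤ S ⊔ zpowers u := by
    obtain ⟨j, hj⟩ := IsPGroup.iff_card.1 hN
    have d1 := relIndex_dvd_of_le_left A (sQ.trans (le_sup_left : S ≤ S ⊔ zpowers u))
    have d2 := relIndex_dvd_of_le_left A (le_sup_right : zpowers u ≤ S ⊔ zpowers u)
    rw [cA, hj] at d1
    exact relIndex_eq_one.1 (Nat.eq_one_of_dvd_coprimes (Nat.Coprime.pow_left j
      (p7.coprime_iff_not_dvd.2 s2.not_dvd)) d1 d2)
  obtain ⟨k, hk, n, hn', rfl⟩ := s2.frattini (nA hg)
  exact ⟨k, AS hk, n, ⟨KS (by simpa using mul_mem (inv_mem (AK hk)) hg), hn'⟩, rfl⟩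

end L8

theorem l8 (hTyp : StTyp.{u}) (hTS : StTS.{u}) : StL8.{u} := fun G _ _ gl H S ty le hS => by
  have := Fact.mk Nat.prime_two
  have := P8.pf_Bas1.{u}
  have := P8.pf_PjB.{u, u}
  have := P8.pf_PjB.{u, 0}
  have := gl.sim
  obtain ⟨X, _, _, π, ty', l⟩ := id ty
  obtain ⟨sQ, P, hP⟩ := P8.PjB.syl ty'.toPj S (hS.mono le le_top)
  obtain ⟨v, ov, hv⟩ := (L8.bor l).2 P
  obtain ⟨c, hc, rfl⟩ := ty'.sur v
  obtain ⟨w, hw, ew, o⟩ := P8.PjBH.odd ty'.toPj c hc (by rw [ov]; decide)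
  rw [ov] at o
  have wH : w ∈ H := zpowers_le.2 hc hw
  have wS : w ∈ Ns S := mem_normalizer_fintype fun s hs => by
    obtain ⟨t, ht, et⟩ := (hP _).1 (hv _ ((hP _).2 ⟨s, hs, rfl⟩))
    rw [← ew, ← P8.PjBH.cj ty'.toPj wH (le hs), P8.PjBH.eq_iff ty'.toPj (le ht)
      (mul_mem (mul_mem wH (le hs)) (inv_mem wH))] at et
    simpa using mul_mem ht (sQ et)
  obtain ⟨⟨d, hd, ed⟩, gH⟩ := L8.gen gl o ty le hS wH
  have nt : Ns (O2 H) ≠ ⊤ := fun k => by
    have k' := (normalizer_eq_top_iff.1 k).eq_bot_or_eq_top.resolve_left ty'.ne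
    obtain ⟨i, hi⟩ := ty'.two ⟨w, k' ▸ mem_top w⟩
    have := L8.one (g := w) gl o (Nat.Coprime.pow_left i (by decide)) (congrArg Subtype.val hi) rfl
    rw [this, orderOf_one] at o
    omega
  obtain ⟨C, cS, c0, nC, nK⟩ := gl.gct S _ hS nt
  obtain ⟨ch, ne⟩ := P8.Bas2H.chl gl.c2 ⟨C, hS.isPGroup.to_le cS, c0, rfl⟩
  have sK : S ≤ Ns C := le_normalizer.trans nC
  have HM : H ≤ Ns (O2 H) := P8.PjBH.nor ty'.toPj
  refine nK ?_
  by_cases so : Group.IsSolvable (Ns C)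
  · intro g hg
    obtain ⟨k, hk, n, hn, rfl⟩ := L8.sol gl o ch so sK hS (nC wS) wS hg
    refine mul_mem (HM (sup_le le (zpowers_le.2 wH) hk)) (Local.normalizer_le_normalizer_pCoreOf H
      (mem_normalizer_fintype fun y hy => ?_))
    have k1 := (mem_normalizer_iff.1 hn.2 w).1 (mem_zpowers w)
    refine gH (H.comap (MulAut.conj n).toMonoidHom) (fun s hs => le ((mem_normalizer_iff.1 hn.1 s).1 hs))
      (zpowers_le.2 wH k1) (n⁻¹ * d * n) (by simpa [mul_assoc] using hd) ?_ hy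
    obtain ⟨i, hi⟩ := mem_zpowers_iff.1 k1
    calc n⁻¹ * d * n * w * (n⁻¹ * d * n)⁻¹ = n⁻¹ * (d * (n * w * n⁻¹) * d⁻¹) * n := by group
      _ = w⁻¹ := by rw [← hi, ← conj_zpow, ed, inv_zpow, hi]; group
  · rcases hTS G 7 gl _ S (hTyp G 7 gl _ ch ne so) sK hS with ⟨-, ⟨ρ, t7⟩ | t8⟩ | ⟨k, -⟩
    · exfalso
      obtain ⟨-, T, hT⟩ := P8.PjB.syl t7.toPj S (hS.mono sK le_top)
      refine L8.no32 T (v := ρ w) ?_ fun y hy => ?_
      · refine ((Nat.dvd_prime (by norm_num)).1 (o ▸ P8.PjBH.dvd t7.toPj (nC wS))).resolve_left fun k => ?_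
        obtain ⟨i, hi⟩ := t7.two ⟨w, (t7.ker w (nC wS)).1 (orderOf_eq_one_iff.1 k)⟩
        have := L8.one (g := w) gl o (Nat.Coprime.pow_left i (by decide)) (congrArg Subtype.val hi) rfl
        rw [this, orderOf_one] at o
        omega
      · obtain ⟨t, ht, rfl⟩ := (hT y).1 hy
        exact (hT _).2 ⟨_, (mem_normalizer_iff.1 wS t).1 ht, P8.PjBH.cj t7.toPj (nC wS) (sK ht)⟩
    · exact ((L8.gen gl o t8 sK hS (nC wS)).2 H le wH d hd ed).trans HM
    · omega

end Cfsg.Lib.K7
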