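import Cfsg.Agent.K7.Loc2
import Cfsg.Agent.K7.A3c
import Cfsg.Agent.K7.L8
import Cfsg.Agent.P8.WS8b
import Cfsg.Agent.P8.Bas1
import Cfsg.Agent.P8.Bas2
import Cfsg.Agent.P8.BasJ
import Cfsg.Agent.P8.PjB
import Cfsg.Agent.P8.E73

/-!
# Simple groups of order `7 * 3 ^ a * 2 ^ b`: first consequences of the type `L₃(2)`
-/

set_option autoImplicit false
set_option maxRecDepth 100000

namespace Cfsg.Lib.K7

open Cfsg Subgroup Cfsg.Lib.Trans Cfsg.Lib.Gold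
open Cfsg.Lib.P8 (L32 V3 O2 Om Jt Phi EA SR4 Ch E9 Pj Ty Sec SecOK Mx Crd)
open Cfsg.Lib.K35 (PSL Alt A3 NC)
open scoped commutatorElement

universe u

namespace SBh

open P8.WS8bH

/-- Upper triangular matrices. -/
abbrev UT (g : L32) : Prop := g.1 1 0 = 0 ∧ g.1 2 0 = 0 ∧ g.1 2 1 = 0

/-- Transvections with centre the first basis vector. -/
abbrev TV (g : L32) : Prop :=
  ac g ![1, 0, 0] = ![1, 0, 0] ∧ ∀ v, ac g v = v ∨ ac g v = v + ![1, 0, 0]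

theorem m1 : ∀ g : L32, (UT g → ac g ![1, 0, 0] = ![1, 0, 0]) ∧ (TV g → UT g) ∧
    ((∀ v, v + ac g v = 0 ∨ v + ac g v = ![1, 0, 0]) → TV g) := by decide +kernel

theorem m2 : UT 1 ∧ UT g0 ∧ ¬ UT (x0 * g0 * x0⁻¹) := by decide +kernel

theorem m3 : ∀ v : V3, ∃ u : V3, v = u + ac x0 u ∨ v = u + ac x0 u + ![1, 0, 0] := by decide +kernel

theorem m4 : Nat.card {g : L32 // UT g} = 8 := by
  rw [Nat.card_eq_fintype_card]
  decide +kernel

set_option synthInstance.maxSize 2000 in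
theorem m5 : ∀ a : L32, TV a → a ≠ 1 → ∀ b : L32, TV b →
    b = 1 ∨ b = a ∨ b = x0 * a * x0⁻¹ ∨ b = x0⁻¹ * a * x0⁻¹⁻¹ := by decide +kernel

theorem m6 : ∀ g : L32, UT g → ¬ TV g →
    (∃ q : L32, TV q ∧ g * q * g⁻¹ * q⁻¹ ≠ 1) ∧ TV (g * x0 * g⁻¹ * x0) := by decide +kernel

theorem m7 : ∀ v : V3, v ≠ 0 → v ≠ ![1, 0, 0] → ∃ q : L32, TV q ∧ ac q v = v + ![1, 0, 0] := by
  decide +kernel

theorem m8 : ∀ a : V3, a + a = 0 ∧ a + (a + ![1, 0, 0]) = ![1, 0, 0] := by decide +kernel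

theorem m9 : (![1, 0, 0] : V3) ≠ 0 := by decide +kernel

variable {G : Type u} [Group G] [Finite G]

omit [Finite G] in
theorem zp {u x : G} (hu : u * u = 1) (hx : x ∈ zpowers u) : x = 1 ∨ x = u := by
  obtain ⟨k, rfl⟩ := mem_zpowers_iff.mp hx
  have h2 : u ^ (2 : ℤ) = 1 := by rw [zpow_two]; exact hu
  rcases Int.even_or_odd' k with ⟨m, rfl | rfl⟩
  · left; rw [zpow_mul, h2, one_zpow]
  · right; rw [zpow_add, zpow_mul, h2, one_zpow, one_mul, zpow_one]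

theorem nc {p : ℕ} (gl : Gl G p) {M : Subgroup G} (a3 : A3 M) {w : G} (hw : w ∈ M) (o : orderOf w = 3)
    {H : Subgroup G} (ne : O2 H ≠ ⊥) (wH : w ∈ H) : Nc H w := by
  intro a aH b bH a3' b3 aw bw e
  have := Fact.mk Nat.prime_three
  have := Fact.mk Nat.prime_two
  have nH : H ≤ Ns (O2 H) := Local.le_normalizer_pCoreOf H
  have w1 : w ≠ 1 := fun k => by rw [k, orderOf_one] at o; omega
  have ab : a * b ≠ b * a := fun k => w1 (by rw [← e, commutatorElement_eq_one_iff_mul_comm, k])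
  have a1 : a ≠ 1 := fun k => ab (by rw [k, one_mul, mul_one])
  have b1 : b ≠ 1 := fun k => ab (by rw [k, one_mul, mul_one])
  have oa := orderOf_eq_prime a3' a1
  have ob := orderOf_eq_prime b3 b1
  have e9 : E9 w a := ⟨o, oa, aw.symm, fun k =>
    ab (mem_C1.1 (zpowers_le.2 (show w ∈ C1 b from mem_C1.2 bw.symm) k))⟩
  have rk := A3c.rk gl a3 (Local.isPGroup_pCoreOf H) ne (nH wH) (nH aH) e9
  have k : ∀ c : G, orderOf c = 3 → IsPGroup 3 (zpowers c) := fun c hc =>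
    IsPGroup.of_card (n := 1) (by rw [Nat.card_zpowers, hc, pow_one])
  have p2 : IsPGroup 3 ↥(zpowers w ⊔ zpowers a) := by
    refine (k w o).to_sup_of_normal_right' (k a oa) (zpowers_le.2 (Cs_le_Ns ?_))
    rw [Cs_zpowers]
    exact mem_C1.2 aw.symm
  have p3 : IsPGroup 3 ↥(zpowers b ⊔ (zpowers w ⊔ zpowers a)) := by
    refine (k b ob).to_sup_of_normal_right' p2 (zpowers_le.2 (mem_normalizer_of_cj_le ?_))
    rw [cj_sup, cj_zpowers, cj_zpowers]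
    refine sup_le (zpowers_le.2 ?_) (zpowers_le.2 ?_)
    · rw [bw, mul_inv_cancel_right]
      exact mem_sup_left (mem_zpowers w)
    · rw [show b * a * b⁻¹ = w⁻¹ * a by rw [← e, commutatorElement_def]; group]
      exact mul_mem_sup (inv_mem (mem_zpowers w)) (mem_zpowers a)
  obtain ⟨R, hR, l⟩ := exists_isSylowIn_ge p3 le_top
  have bR : b ∈ R := l (mem_sup_left (mem_zpowers b))
  have wR : w ∈ R := l (mem_sup_right (mem_sup_left (mem_zpowers w)))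
  have aR : a ∈ R := l (mem_sup_right (mem_sup_right (mem_zpowers a)))
  obtain ⟨r, -, hr, or⟩ := exists_orderOf_eq_mem_centralizer hR.isPGroup hR.isPGroup le_normalizer
    fun k => b1 (mem_bot.1 (k ▸ bR))
  have cr : ∀ s ∈ R, s * r = r * s := mem_centralizer_iff.1 hr
  by_cases rw' : r ∈ zpowers w
  · exact a3.nc r (zpowers_le.2 hw rw') or R hR fun s hs => mem_C1.2 (cr s hs)
  · have m := K35.A0.mem9 rk (⟨o, or, cr w wR, rw'⟩ : E9 w r) oa aw (cr a aR)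
    refine ab (mem_C1.1 ((closure_le (C1 b)).2 ?_ m))
    rintro _ (rfl | rfl)
    exacts [mem_C1.2 bw.symm, mem_C1.2 (cr b bR).symm]

theorem sv (gl : Gl G 7) {M S : Subgroup G} (a3 : A3 M) (syl : IsSylowIn 2 S ⊤) {H : Subgroup G}
    (le : S ≤ H) (ne : O2 H ≠ ⊥) (n7 : ¬ 7 ∣ Nat.card H) : Sv H := by
  have := Fact.mk Nat.prime_three
  have := Fact.mk Nat.prime_two
  have nH : H ≤ Ns (O2 H) := Local.le_normalizer_pCoreOf H
  have pr : ∀ p : ℕ, p.Prime → p ∣ Nat.card H → p = 2 ∨ p = 3 := fun p pp hp => by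
    obtain ⟨a, b, e⟩ := gl.ord
    have h3 := e ▸ hp.trans (card_subgroup_dvd_card H)
    rcases (Nat.Prime.dvd_mul pp).1 h3 with h | h
    · rcases (Nat.Prime.dvd_mul pp).1 h with h | h
      · obtain rfl := (Nat.prime_dvd_prime_iff_eq pp gl.pp).1 h
        exact absurd hp n7
      · exact .inr ((Nat.prime_dvd_prime_iff_eq pp Nat.prime_three).1 (pp.dvd_of_dvd_pow h))
    · exact .inl ((Nat.prime_dvd_prime_iff_eq pp Nat.prime_two).1 (pp.dvd_of_dvd_pow h))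
  have sol : Group.IsSolvable H := by
    have n0 : Nat.card H ≠ 0 := Nat.card_pos.ne'
    refine Cfsg.Agent.S0144.result 2 3 ((Nat.card H).factorization 2) ((Nat.card H).factorization 3)
      Nat.prime_two Nat.prime_three ?_
    have sub : (Nat.card H).factorization.support ⊆ {2, 3} := fun p hp => by
      rw [Nat.support_factorization, Nat.mem_primeFactors] at hp
      rcases pr p hp.1 hp.2.1 with rfl | rfl <;> decide
    conv_lhs => rw [← Nat.prod_factorization_pow_eq_self n0]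
    rw [Finsupp.prod_of_support_subset _ sub _ (by simp), Finset.prod_pair (by norm_num)]
  refine ⟨sol, pr, P8.pf_Bas2.ch gl.c2 ⟨O2 H, Local.isPGroup_pCoreOf H, ne, rfl⟩ syl le nH, ne,
    fun A cA eA => ?_⟩
  have c : Nat.card A = Nat.card (A.map H.subtype) := (card_map_of_injective H.subtype_injective).symm
  have lH : A.map H.subtype ≤ H := map_subtype_le A
  have e3 : ∀ a ∈ A.map H.subtype, a ^ 3 = 1 := by
    rintro _ ⟨a, ha, rfl⟩
    rw [← map_pow, eA a ha, map_one]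
  have cm : ∀ a ∈ A.map H.subtype, ∀ b ∈ A.map H.subtype, a * b = b * a := by
    rintro _ ⟨a, ha, rfl⟩ _ ⟨b, hb, rfl⟩
    rw [← map_mul, ← map_mul, show a * b = b * a from
      congrArg Subtype.val (cA.is_comm.comm (⟨a, ha⟩ : A) ⟨b, hb⟩)]
  rw [c]
  generalize A.map H.subtype = B at lH e3 cm
  by_cases k : ∃ a ∈ B, ∃ b ∈ B, E9 a b
  · obtain ⟨a, ha, b, hb, e9⟩ := k
    exact A3c.rk gl a3 (Local.isPGroup_pCoreOf H) ne (nH (lH ha)) (nH (lH hb)) e9 B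
      ⟨⟨fun x y => Subtype.ext (cm _ x.2 _ y.2)⟩⟩ e3
  · by_cases k1 : B = ⊥
    · rw [k1, card_bot]; decide
    obtain ⟨⟨a, ha⟩, a1⟩ := ne_bot_iff_exists_ne_one.1 k1
    have a1 : a ≠ 1 := fun e => a1 (Subtype.ext e)
    have oa := orderOf_eq_prime (e3 a ha) a1
    have : B ≤ zpowers a := fun b hb => by_contra fun n => k ⟨a, ha, b, hb, oa,
      orderOf_eq_prime (e3 b hb) (fun e => n (e ▸ one_mem _)), cm a ha b hb, n⟩
    have := Subgroup.card_le_of_le this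
    rw [Nat.card_zpowers, oa] at this
    omega

theorem fix7 (gl : Gl G 7) {σ : G} (o : orderOf σ = 7) {U₁ U₂ : Subgroup G} (two : IsPGroup 2 U₂)
    (le : U₁ ≤ U₂) (n : U₂ ≤ Ns U₁) (n1 : σ ∈ Ns U₁) (n2 : σ ∈ Ns U₂) {a : G} (ha : a ∈ U₂)
    (c : ⁅a, σ⁆ ∈ U₁) : a ∈ U₁ := by
  obtain ⟨b, hb, e, m⟩ := P8.pf_Bas2.lift two le n n1 n2 (by rw [o]; decide) ha c
  obtain ⟨k, hk⟩ := two ⟨b, hb⟩
  rw [show b = 1 from L8.one gl o (Nat.Coprime.pow_left k (by decide)) (congrArg Subtype.val hk) e,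
    mul_one] at m
  exact (inv_mem_iff).1 m

theorem qw (gl : Gl G 7) {M T : Subgroup G} {π : G → L32} (pj : Pj M T π) {U₁ U₂ : Subgroup G}
    (le : U₁ ≤ U₂) (leT : U₂ ≤ T) (n1 : M ≤ Ns U₁) (n2 : M ≤ Ns U₂) {j : G} (hj : j ∈ M) (jT : j ∉ T)
    (cj : ⁅U₂, zpowers j⁆ ≤ U₁) : U₂ ≤ U₁ := by
  have := P8.pf_Bas1.{u}
  have P := P8.pf_PjB.{u, 0}
  obtain ⟨sim, c168, σ0, -, hσ0, -⟩ := P8.pf_E73.{u}.l32
  let K : Subgroup G :=
    { carrier := {g | g ∈ M ∧ ∀ a ∈ U₂, a⁻¹ * (g * a * g⁻¹) ∈ U₁}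
      one_mem' := ⟨one_mem _, fun a _ => by simp⟩
      mul_mem' := fun {x y} hx hy => ⟨mul_mem hx.1 hy.1, fun a ha => by
        simpa [mul_assoc] using mul_mem (hx.2 a ha) (mem_normalizer_conj (n1 hx.1) (hy.2 a ha))⟩
      inv_mem' := fun {x} hx => ⟨inv_mem hx.1, fun a ha => by
        simpa [mul_assoc] using mem_normalizer_conj (n1 (inv_mem hx.1)) (inv_mem (hx.2 a ha))⟩ }
  have mK : ∀ g, g ∈ K ↔ g ∈ M ∧ ∀ a ∈ U₂, a⁻¹ * (g * a * g⁻¹) ∈ U₁ := fun _ => Iff.rfl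
  clear_value K
  obtain ⟨B, hB, -⟩ := P.im pj K fun g hg => ((mK g).1 hg).1
  have nB : B.Normal := ⟨fun b hb g => by
    obtain ⟨d, hd, rfl⟩ := (hB b).1 hb
    obtain ⟨m, hm, rfl⟩ := pj.sur g
    rw [mK] at hd
    refine (hB _).2 ⟨_, (mK _).2 ⟨mul_mem (mul_mem hm hd.1) (inv_mem hm), fun a ha => ?_⟩,
      P8.PjBH.cj pj hm hd.1⟩
    simpa [mul_assoc] using mem_normalizer_conj (n1 hm)
      (hd.2 _ (mem_normalizer_conj (n2 (inv_mem hm)) ha))⟩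
  have jK : j ∈ K := (mK j).2 ⟨hj, fun a ha => by
    simpa [commutatorElement_def, mul_assoc] using
      cj (commutator_mem_commutator (inv_mem ha) (mem_zpowers j))⟩
  have top := nB.eq_bot_or_eq_top.resolve_left fun e =>
    jT ((pj.ker j hj).1 (mem_bot.1 (e.le ((hB _).2 ⟨j, jK, rfl⟩))))
  obtain ⟨d, hd, e⟩ := (hB σ0).1 (top.ge (mem_top _))
  obtain ⟨b, hb, -, ob⟩ := P.odd pj d ((mK d).1 hd).1 (by rw [e, hσ0]; decide)
  rw [e, hσ0] at ob
  have bK := (mK b).1 (zpowers_le.2 hd hb)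
  refine fun a ha => fix7 gl ob (pj.two.to_le leT) le ((leT.trans pj.le).trans n1) (n1 bK.1) (n2 bK.1)
    ha ?_
  simpa [commutatorElement_def, mul_assoc] using bK.2 _ (inv_mem ha)

theorem rk {M T : Subgroup G} {π : G → L32} (pj : Pj M T π) {A : Subgroup G} (hA : A ≤ M) (eA : EA A) :
    T.relIndex A ≤ 4 := by
  have := Fact.mk Nat.prime_two
  have := P8.pf_Bas1.{u}
  have P := P8.pf_PjB.{u, 0}
  obtain ⟨h1, -, h3, -⟩ := P.one pj
  obtain ⟨B, mB, cB⟩ := P.im pj A hA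
  have sq : ∀ b ∈ B, b * b = 1 := fun b hb => by
    obtain ⟨a, ha, rfl⟩ := (mB b).1 hb
    rw [← pow_two, ← h3 a (hA ha), eA.2 a ha, h1]
  obtain ⟨P, hle⟩ := (isPGroup_of_sq sq).exists_le_sylow
  obtain ⟨c8, s, hs, s2⟩ := P8.WSc.syl (m := 21) P8.pf_E73.{u}.l32.2.1 (by decide) (g := g0)
    (by decide +kernel) (by decide +kernel) P
  have h1 := card_dvd_of_le hle
  have h2 : Nat.card B ≠ 8 := fun e =>
    s2 (sq s ((eq_of_le_of_card_ge hle (by rw [c8, e])).ge hs))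
  rw [c8] at h1
  rw [← cB]
  have h3 := Nat.le_of_dvd (by norm_num) h1
  generalize Nat.card B = n at h1 h2 h3
  interval_cases n <;> omega

end SBh

set_option maxHeartbeats 800000 in
open SBh P8.WS8bH in
theorem sb (hA3 : StA3'.{u}) : StSB.{u} := by
  intro G _ _ M S V π c z h
  have := Fact.mk Nat.prime_two
  have := P8.pf_Bas1.{u}
  have B2 := P8.pf_Bas2.{u}
  have J := P8.pf_BasJ.{u}
  have P := P8.pf_PjB.{u, 0}
  have gl := h.gl
  have k := h.crd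
  have nor := h.nor
  have pj := h.ty.toPj
  obtain ⟨h1, h2, h3, nT, h5⟩ := P.one pj
  obtain ⟨-, -, o1, -, ea, o4, -⟩ := J.leT (O2 M)
  have ea2 : ∀ a ∈ V, a * a = 1 := fun a ha => by rw [← pow_two, ea.2 a (h.leV ha)]
  have eaV : EA V := ⟨isMulCommutative_of_sq ea2, fun a ha => ea.2 a (h.leV ha)⟩
  have inj : ∀ a ∈ V, ∀ b ∈ V, c a = c b → a = b := fun a ha b hb e => by
    have := (k.zero _ (mul_mem ha hb)).1 (by rw [k.add a ha b hb, e, (m8 _).1])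
    rw [eq_inv_of_mul_eq_one_left this, inv_eq_of_sq (ea2 b hb)]
  have cm : ∀ g ∈ M, ∀ a ∈ V, g * a = a * g ↔ ac (π g) (c a) = c a := fun g hg a ha => by
    rw [ac, ← k.eqv g hg a ha, ← mul_inv_eq_iff_eq_mul]
    exact ⟨fun e => by rw [e], inj _ (mem_normalizer_conj (nor hg) ha) _ ha⟩
  have c8 : Nat.card V = 8 := by
    rw [Nat.card_congr (Equiv.ofBijective (fun a : V => c a)
      ⟨fun a b e => Subtype.ext (inj _ a.2 _ b.2 e), fun v =>
        let ⟨a, ha, e⟩ := k.sur v; ⟨⟨a, ha⟩, e⟩⟩), Nat.card_eq_fintype_card]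
    rfl
  have hz := h.zV
  have ez := h.cz
  have z1 : z ≠ 1 := fun e => m9 (ez.symm.trans ((k.zero z hz).2 e))
  have sM : S ≤ M := fun g hg => ((h.memS g).1 hg).1
  have mS : ∀ {g}, g ∈ M → (g ∈ S ↔ UT (π g)) := fun {g} hg =>
    (h.memS g).trans ⟨fun k => k.2, fun k => ⟨hg, k⟩⟩
  have TS : O2 M ≤ S := fun t ht => (mS (pj.le ht)).2 ((pj.ker t (pj.le ht)).2 ht ▸ m2.1)
  have VT : V ≤ O2 M := h.leV.trans o1
  have neV : V ≠ ⊥ := fun e => z1 (mem_bot.1 (e ▸ hz))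
  have nV : Ns V = M := B2.nor h.mx.mx (pj.two.to_le VT) neV nor
  have cV : Cs V = O2 M := by
    refine le_antisymm (fun g hg => ?_) fun t ht => mem_Cs.2 fun v hv => mem_Cs.1 (o4 ht) v (h.leV hv)
    have gM : g ∈ M := nV ▸ Cs_le_Ns hg
    refine (pj.ker g gM).1 (Subtype.ext (Matrix.ext_iff_mulVec.2 fun v => ?_))
    obtain ⟨a, ha, rfl⟩ := k.sur v
    rw [show (π g).1.mulVec (c a) = c a from (cm g gM a ha).1 (mem_Cs.1 hg a ha).symm]
    simp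
  have hS : ∀ g ∈ M, g * z = z * g ↔ π g ∈ SS := fun g hg => by rw [cm g hg z hz, ez]; rfl
  have fx : ∀ a ∈ V, (∀ g ∈ M, π g ∈ VV → g * a = a * g) → a = 1 ∨ a = z := fun a ha hf => by
    refine (fix (c a) fun g hg => ?_).imp (k.zero a ha).1 fun e => inj a ha z hz (e.trans ez.symm)
    obtain ⟨m, hm, rfl⟩ := pj.sur g
    exact (cm m hm a ha).1 (hf m hm hg)
  obtain ⟨R, x, mR, s⟩ := P8.WSc.stb (W := V) h.ty hS sd fx
  obtain rfl : R = Q1 M z := s.eq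
  have mQ : ∀ {g}, g ∈ M → (g ∈ Q1 M z ↔ TV (π g)) := fun {g} hg =>
    (mR g).trans ⟨fun k => k.2, fun k => ⟨hg, k⟩⟩
  have QM : Q1 M z ≤ M := fun g hg => ((mR g).1 hg).1
  have QS : Q1 M z ≤ S := fun g hg => (mS (QM hg)).2 ((m1 _).2.1 ((mQ (QM hg)).1 hg))
  have zS : S ≤ C1 z := fun g hg => mem_C1.2 ((hS g (sM hg)).2 ((m1 _).1 ((mS (sM hg)).1 hg)))
  have idx : (O2 M).relIndex S = 8 := by
    obtain ⟨B, hB, e⟩ := P.im pj S sM
    rw [← e, ← m4]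
    refine Nat.card_congr (Equiv.subtypeEquivRight fun y => (hB y).trans
      ⟨fun ⟨a, ha, e⟩ => e ▸ (mS (sM ha)).1 ha, fun hy => ?_⟩)
    obtain ⟨m, hm, rfl⟩ := pj.sur y
    exact ⟨m, (mS hm).2 hy, rfl⟩
  have i2 : (Q1 M z).relIndex S = 2 := by
    have := relIndex_mul_relIndex _ _ _ s.le QS
    rw [s.idx, idx] at this
    omega
  obtain ⟨a0, ha0, ea0⟩ := pj.sur x0
  obtain ⟨y, hy, ey, oy⟩ := P.odd pj a0 ha0 (by rw [ea0, sd.ox]; decide)
  have yM : y ∈ M := zpowers_le.2 ha0 hy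
  rw [ea0] at ey oy
  rw [sd.ox] at oy
  obtain ⟨sim, c168, σ0, -, hσ0, -⟩ := P8.pf_E73.{u}.l32
  have sev : ∀ a ∈ M, π a = σ0 → ∃ b ∈ zpowers a, orderOf b = 7 := fun a ha e => by
    obtain ⟨b, hb, -, ob⟩ := P.odd pj a ha (by rw [e, hσ0]; decide)
    exact ⟨b, hb, by rw [ob, e, hσ0]⟩
  obtain ⟨σ, σM, oσ⟩ : ∃ σ ∈ M, orderOf σ = 7 := by
    obtain ⟨a, ha, e⟩ := pj.sur σ0
    obtain ⟨b, hb, ob⟩ := sev a ha e
    exact ⟨b, zpowers_le.2 ha hb, ob⟩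
  obtain ⟨a3, -, -⟩ := hA3 G 7 gl M S h.ty.ne sM h.syl (oσ ▸ orderOf_dvd_natCard M σM)
  have cmv : ∀ v ∈ V, ∀ g ∈ M, ⁅v, g⁆ = v * (g * v * g⁻¹) := fun v hv g _ => by
    rw [commutatorElement_def, inv_eq_of_sq (ea2 v hv), mul_assoc, mul_assoc, ← mul_assoc g]
  have cmc : ∀ v ∈ V, ∀ g ∈ M, ⁅v, g⁆ ∈ V ∧ c ⁅v, g⁆ = c v + ac (π g) (c v) := fun v hv g hg => by
    have h1 := mem_normalizer_conj (nor hg) hv
    rw [cmv v hv g hg]
    exact ⟨mul_mem hv h1, by rw [k.add _ hv _ h1, k.eqv g hg v hv]⟩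
  refine ⟨y, sM, cV, nV, eaV, c8, fun l => ?_, orderOf_eq_prime (by rw [pow_two, ea2 z hz]) z1, zS,
    fun v hv l => fx v hv fun g hg m => mem_C1.1 (l (QS ((mR g).2 ⟨hg, m⟩))), fun v hv v1 => ?_, yM,
    mem_C1.2 ((hS y yM).2 (ey ▸ sd.xS)), oy, fun n => ?_, fun v hv => ?_, ?_, ?_, s.le, QS, s.idx, i2,
    s.sq, fun g => ⟨fun hg => ⟨QM hg, fun v hv => ?_⟩, fun ⟨hg, l⟩ => ?_⟩, fun Y k1 k2 k3 => ?_,
    fun g hg ng => ?_, fun v hv v1 vz => ?_, fun U₁ U₂ le leT n1 n2 j hj jT cj => qw gl pj le leT n1 n2 hj jT cj,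
    fun τ hτ o w hw cw => fix7 gl o pj.two VT (pj.le.trans nor) (nor hτ) (nT hτ) hw cw,
    fun A hA eA => rk pj hA eA, fun w hw o H ne wH => nc gl a3 hw o ne wH,
    fun H le ne n7 => sv gl a3 h.syl le ne n7⟩
  · exact gl.n4 (B2.sr h.syl (B2.sr8 h.syl.isPGroup (VT.trans TS) eaV c8
      (inf_le_right.trans (cV.le.trans l))))
  · obtain ⟨g, e⟩ := tr (c v) fun e => v1 ((k.zero v hv).1 e)
    obtain ⟨m, hm, rfl⟩ := pj.sur g
    exact ⟨m, hm, inj _ (mem_normalizer_conj (nor hm) hz) _ hv (by rw [k.eqv m hm z hz, ez, ← e])⟩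
  · obtain ⟨m, hm, e⟩ := pj.sur g0
    have := mem_normalizer_conj n ((mS hm).2 (e ▸ m2.2.1))
    rw [mS (sM this), P8.PjBH.cj pj yM hm, ey, e] at this
    exact m2.2.2 this
  · obtain ⟨u, e⟩ := m3 (c v)
    obtain ⟨a, ha, rfl⟩ := k.sur u
    obtain ⟨q1, q2⟩ := cmc a ha y yM
    rw [ey] at q2
    have m := commutator_mem_commutator ha (mem_zpowers y)
    rcases e with e | e
    · rw [inj v hv _ q1 (e.trans q2.symm)]
      exact mem_sup_left m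
    · rw [inj v hv _ (mul_mem q1 hz) (by rw [k.add _ q1 _ hz, q2, ez, ← e])]
      exact mul_mem_sup m (mem_zpowers z)
  · have := relIndex_mul_relIndex _ _ _ QS (le_inf sM zS)
    rw [s.idx6, i2] at this
    omega
  · have := card_mul_relIndex TS
    have := L8.md gl oσ pj.two (nT σM)
    rw [idx] at *
    omega
  · obtain ⟨q1, q2⟩ := cmc v hv g (QM hg)
    have e2 := m8
    rcases ((mQ (QM hg)).1 hg).2 (c v) with e | e <;> rw [e] at q2
    · rw [(k.zero _ q1).1 (q2.trans (e2 _).1)]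
      exact one_mem _
    · rw [inj _ q1 z hz (q2.trans ((e2 _).2.trans ez.symm))]
      exact mem_zpowers z
  · refine (mQ hg).2 ((m1 _).2.2 fun u => ?_)
    obtain ⟨a, ha, rfl⟩ := k.sur u
    obtain ⟨q1, q2⟩ := cmc a ha g hg
    rw [← q2]
    rcases zp (ea2 z hz) (l a ha) with e | e
    · exact .inl ((k.zero _ q1).2 e)
    · exact .inr (by rw [e, ez])
  · by_cases n : Y ≤ O2 M
    · exact .inl (le_antisymm n k1)
    obtain ⟨a, ha, n⟩ := SetLike.not_le_iff_exists.1 n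
    have aM := QM (k2 ha)
    refine .inr (le_antisymm k2 fun q hq => ?_)
    have k' : ∀ y' ∈ Y, π q = π y' → q ∈ Y := fun y' hy' e => by
      simpa using mul_mem hy' (k1 ((h5 y' (QM (k2 hy')) q (QM hq)).1 e.symm))
    rcases m5 _ ((mQ aM).1 (k2 ha)) (fun e => n ((pj.ker a aM).1 e)) _ ((mQ (QM hq)).1 hq)
      with r | r | r | r
    · exact k' 1 (one_mem _) (r.trans h1.symm)
    · exact k' a ha r
    · exact k' _ (mem_normalizer_conj k3 ha) (by rw [P8.PjBH.cj pj yM aM, ey, r])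
    · exact k' _ (mem_normalizer_conj (inv_mem k3) ha)
        (by rw [P8.PjBH.cj pj (inv_mem yM) aM, h2 _ yM, ey, r])
  · have gM := sM hg
    obtain ⟨⟨q, r1, r2⟩, r3⟩ := m6 _ ((mS gM).1 hg) fun e => ng ((mQ gM).2 e)
    obtain ⟨m, hm, rfl⟩ := pj.sur q
    have c1 := mul_mem (mul_mem gM hm) (inv_mem gM)
    have c2 := mul_mem (mul_mem gM yM) (inv_mem gM)
    refine ⟨⟨m, (mQ hm).2 r1, fun e => r2 ?_⟩, (mQ (mul_mem c2 yM)).2 ?_⟩
    · rw [← P8.PjBH.cj pj gM hm, ← h2 m hm, ← pj.mul _ c1 _ (inv_mem hm)]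
      exact (pj.ker _ (mul_mem c1 (inv_mem hm))).2 e
    · rwa [pj.mul _ c2 _ yM, P8.PjBH.cj pj gM yM, ey]
  · obtain ⟨q, r1, r2⟩ := m7 (c v) (fun e => v1 ((k.zero v hv).1 e))
      fun e => vz (inj v hv z hz (e.trans ez.symm))
    obtain ⟨m, hm, rfl⟩ := pj.sur q
    exact ⟨m, (mQ hm).2 r1, inj _ (mem_normalizer_conj (nor hm) hv) _ (mul_mem hv hz)
      (by rw [k.eqv m hm v hv, k.add v hv z hz, ez]; exact r2)⟩

end Cfsg.Lib.K7
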