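import Cfsg.Agent.K7.Loc
import Cfsg.Agent.K7.Typ
import Cfsg.Agent.P8.E73
import Cfsg.Agent.Solv.CardModEq
import Cfsg.Agent.Known.SylowCount
import Mathlib.LinearAlgebra.Matrix.CharP

/-!
# Simple groups of order `p * 3 ^ a * 2 ^ b`: the types containing a Sylow 2-subgroup
-/

set_option autoImplicit false

namespace Cfsg.Lib.K7

open Cfsg Subgroup Cfsg.Lib.Trans Cfsg.Lib.Gold
open Cfsg.Lib.P8 (L32 O2 E9 Pj Ty)
open Cfsg.Lib.K35 (PSL)

universe u

namespace TS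

/-- An elementary abelian group of order 9 lifts through a normal 2-subgroup. -/
theorem lift9 {G X : Type u} [Group G] [Finite G] [Group X] {H Q : Subgroup G} {π : G → X}
    (pj : Pj H Q π) (n9 : ∀ a ∈ H, ∀ b ∈ H, ¬ E9 a b) (x y : X) : ¬ E9 x y := by
  rintro ⟨ox, oy, c, n⟩
  have := P8.pf_Bas1.{u}
  have := P8.pf_PjB.{u, u}
  obtain ⟨g, hg, rfl⟩ := pj.sur x
  obtain ⟨a, ha, e, oa⟩ := P8.PjBH.odd pj g hg (by rw [ox]; decide)
  have aH : a ∈ H := zpowers_le.2 hg ha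
  obtain ⟨d, hd, e1, rfl⟩ := P8.PjB.cen pj a aH (by rw [oa, ox]; decide) y (by rw [e]; exact c.symm)
  obtain ⟨b, hb, e2, ob⟩ := P8.PjBH.odd pj d hd (by rw [oy]; decide)
  have bH : b ∈ H := zpowers_le.2 hd hb
  refine n9 a aH b bH ⟨oa.trans ox, ob.trans oy, ?_, fun k => n ?_⟩
  · obtain ⟨i, rfl⟩ := mem_zpowers_iff.1 hb
    exact ((Commute.symm e1).zpow_right i).eq
  · obtain ⟨i, rfl⟩ := (mem_powers_iff_mem_zpowers.2 k)
    rw [← e2, ← e]
    exact mem_zpowers_iff.2 ⟨(i : ℤ), by rw [zpow_natCast]; exact (P8.PjBH.pow pj aH i).symm⟩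

theorem ex9 {L : Type*} [Group L] [Finite L] (h : 3 ^ 2 ∣ Nat.card L) (n : ∀ g : L, orderOf g ≠ 9) :
    ∃ a b : L, orderOf a = 3 ∧ orderOf b = 3 ∧ a * b = b * a ∧ b ∉ zpowers a := by
  have := Fact.mk Nat.prime_three
  obtain ⟨K, hK⟩ := Sylow.exists_subgroup_card_pow_prime 3 h
  have cm := IsPGroup.isMulCommutative_of_card_eq_prime_sq (p := 3) hK
  have o3 : ∀ a ∈ K, a ≠ 1 → orderOf a = 3 := fun a ha a1 => by
    obtain ⟨i, hi, e⟩ := (Nat.dvd_prime_pow Nat.prime_three).1 (hK ▸ K.orderOf_dvd_natCard ha)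
    interval_cases i
    · exact absurd (orderOf_eq_one_iff.1 e) a1
    · exact e
    · exact absurd e (n a)
  obtain ⟨a, ha, a1⟩ := K.bot_or_exists_ne_one.resolve_left fun k => by simp [k] at hK
  have : ¬ K ≤ zpowers a := fun k => by
    have := Subgroup.card_le_of_le k
    rw [hK, Nat.card_zpowers, o3 a ha a1] at this
    omega
  obtain ⟨b, hb, nb⟩ := SetLike.not_le_iff_exists.1 this
  exact ⟨a, b, o3 a ha a1, o3 b hb fun k => nb (k ▸ one_mem _),
    congrArg Subtype.val (cm.is_comm.comm ⟨a, ha⟩ ⟨b, hb⟩), nb⟩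

theorem cube {F : Type*} [Field F] [CharP F 3] (M : Matrix (Fin 3) (Fin 3) F) {m : ℕ}
    (h : M ^ 3 ^ m = 1) : M ^ 3 = 1 := by
  have := Fact.mk Nat.prime_three
  have c : Commute M 1 := Commute.one_right M
  have nil : IsNilpotent (M - 1) := ⟨3 ^ m, by rw [sub_pow_char_pow_of_commute 3 m c, h, one_pow, sub_self]⟩
  have e := sub_eq_zero.1 (Matrix.isNilpotent_charpoly_sub_pow_of_isNilpotent nil).eq_zero
  have k := Matrix.aeval_self_charpoly (M - 1)
  rw [e, map_pow, Polynomial.aeval_X, Fintype.card_fin, sub_pow_char_of_commute 3 c, one_pow] at k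
  exact sub_eq_zero.1 k

theorem no9 {F : Type*} [Field F] [CharP F 3] {Y L : Type*} [Group Y] [Finite Y] [Group L]
    (i : Y →* Matrix.SpecialLinearGroup (Fin 3) F) (hi : Function.Injective i) (f : Y →* L)
    (hf : Function.Surjective f) (g : L) : orderOf g ≠ 9 := fun o => by
  obtain ⟨y, rfl⟩ := hf g
  obtain ⟨m, r, hr, e⟩ := Nat.exists_eq_pow_mul_and_not_dvd (orderOf_pos y).ne' 3 (by decide)
  have k : (y ^ r) ^ 3 = 1 := hi (Subtype.ext (by
    rw [map_pow, map_one, Matrix.SpecialLinearGroup.coe_pow, Matrix.SpecialLinearGroup.coe_one]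
    refine cube _ (m := m) ?_
    rw [← Matrix.SpecialLinearGroup.coe_pow, ← map_pow, ← pow_mul, mul_comm, ← e, pow_orderOf_eq_one,
      map_one, Matrix.SpecialLinearGroup.coe_one]))
  have d : orderOf (f y) ∣ r * 3 := orderOf_dvd_of_pow_eq_one (by rw [← map_pow, pow_mul, k, map_one])
  rw [o] at d
  omega

theorem cardU {L : Type*} [Group L] (h : U33 L) : Nat.card L = 6048 := by
  obtain ⟨F, _, _, cF, ⟨e⟩⟩ := h
  have h1 := Agent.S0280.result (F := F) (q := 3) cF 3 (by norm_num)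
  rw [← Nat.card_congr e.toEquiv] at h1
  simp [Finset.prod_range_succ] at h1
  omega

theorem card3 {L : Type*} [Group L] (h : L33 L) : Nat.card L = 5616 := by
  obtain ⟨F, _, _, cF, ⟨e⟩⟩ := h
  have h1 := Agent.S0243.result (F := F) cF 3 (by norm_num)
  rw [← Nat.card_congr e.toEquiv] at h1
  simp [Fin.prod_univ_three] at h1
  omega

theorem e9u {L : Type*} [Group L] [Finite L] (h : U33 L ∨ L33 L) :
    ∃ a b : L, orderOf a = 3 ∧ orderOf b = 3 ∧ a * b = b * a ∧ b ∉ zpowers a := by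
  have := Fact.mk Nat.prime_three
  refine ex9 (h.elim (fun k => by rw [cardU k]; decide) fun k => by rw [card3 k]; decide) ?_
  rcases h with ⟨F, _, _, cF, ⟨e⟩⟩ | ⟨F, _, _, cF, ⟨e⟩⟩
  · have := charP_of_card_eq_prime_pow (p := 3) (f := 2) cF
    exact no9 (SU 3 F 3).subtype (subtype_injective _) (e.symm.toMonoidHom.comp (QuotientGroup.mk' _))
      (e.symm.surjective.comp (QuotientGroup.mk'_surjective _))
  · have := charP_of_card_eq_prime (p := 3) cF
    exact no9 (MonoidHom.id _) Function.injective_id (e.symm.toMonoidHom.comp (QuotientGroup.mk' _))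
      (e.symm.surjective.comp (QuotientGroup.mk'_surjective _))

theorem cardL {L : Type*} [Group L] {q : ℕ} (h : L2q q L) :
    (q = 7 → Nat.card L = 168) ∧ (q = 8 → Nat.card L = 504) ∧ (q = 17 → Nat.card L = 2448) := by
  obtain ⟨F, _, _, cF, ⟨e⟩⟩ := h
  have h1 := Agent.S0243.result (F := F) rfl 2 le_rfl
  rw [← Nat.card_congr e.toEquiv, cF] at h1
  refine ⟨?_, ?_, ?_⟩ <;> rintro rfl <;> simp [Fin.prod_univ_two] at h1 <;> omega

theorem two {j m c d r : ℕ} (h : 2 ^ j * r = 2 ^ m * (2 ^ c * d)) (hr : ¬ 2 ∣ r) (hd : ¬ 2 ∣ d) :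
    2 ^ j = 2 ^ m * 2 ^ c := by
  rw [← mul_assoc, ← pow_add] at h
  rw [← pow_add]
  exact Nat.dvd_antisymm
    ((((Nat.prime_two.coprime_iff_not_dvd).2 hd).pow_left j).dvd_of_dvd_mul_right (h ▸ Dvd.intro _ rfl))
    ((((Nat.prime_two.coprime_iff_not_dvd).2 hr).pow_left _).dvd_of_dvd_mul_right (h ▸ Dvd.intro _ rfl))

section
variable {G : Type u} [Group G] [Finite G] {p : ℕ}

theorem cnt (gl : Gl G p) {u : G} (o : orderOf u = p) {K : Subgroup G} (hK : u ∈ K) :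
    IsSylowIn p (zpowers u) K ∧ ∃ n, n ≡ 1 [MOD p] ∧
      Nat.card K = p * ((zpowers u).relIndex (Ns (zpowers u) ⊓ K) * n) := by
  have := Fact.mk gl.pp
  have cP : Nat.card (zpowers u) = p := by rw [Nat.card_zpowers, o]
  have le := zpowers_le.2 hK
  obtain ⟨a, b, cG⟩ := gl.ord
  have syl : IsSylowIn p (zpowers u) K := ⟨le, IsPGroup.of_card (n := 1) (by rw [cP, pow_one]),
    fun d => TypH.nsq gl.pp gl.p7 (cG ▸ card_subgroup_dvd_card K) (by
      rw [← card_mul_relIndex le, cP, pow_two]; exact Nat.mul_dvd_mul_left p d)⟩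
  refine ⟨syl, (Ns (zpowers u) ⊓ K).relIndex K, ?_, ?_⟩
  · have k := card_sylow_modEq_one p K
    rw [syl.toSylow.card_eq_index_normalizer] at k
    rw [inf_relIndex_right, relIndex, subgroupOf_normalizer_eq le]
    exact k
  · rw [relIndex_mul_relIndex _ _ _ (le_inf le_normalizer le) inf_le_right, ← card_mul_relIndex le, cP]

theorem nine {H A : Subgroup G} (n9 : ∀ a ∈ H, ∀ b ∈ H, ¬ E9 a b) (le : A ≤ H) (nor : H ≤ Ns A)
    (d : 3 ∣ Nat.card A) {x : G} (hx : x ∈ H) (o : orderOf x = 3) : x ∈ A := by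
  have := Fact.mk Nat.prime_three
  obtain ⟨R, hR, xR⟩ := exists_isSylowIn_ge (p := 3) (Q := zpowers x)
    (IsPGroup.of_card (n := 1) (by rw [Nat.card_zpowers, o, pow_one])) (zpowers_le.2 hx)
  have s := hR.inf_normal_of_le nor le
  obtain ⟨a, ha, oa⟩ := Solv.PG.exists_orderOf_eq_prime (s.isPGroup.to_inf_left)
    (Solv.PG.inf_centralizer_ne_bot hR.isPGroup s.isPGroup
      (le_Ns_inf le_normalizer (hR.le.trans nor)) fun k => s.eq_bot_iff.1 k d)
  by_contra k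
  exact n9 a (le ha.1.2) x hx ⟨oa, o, (ha.2 x (xR (mem_zpowers x))).symm,
    fun m => k (zpowers_le.2 ha.1.2 m)⟩

theorem num (gl : Gl G p) {X : Type u} [Group X] [Finite X] {H Q : Subgroup G} {π : G → X}
    (pj : Pj H Q π) (n9 : ∀ a ∈ H, ∀ b ∈ H, ¬ E9 a b) (L : Subgroup X) [L.Normal] {t : ℕ}
    (d : Nat.card L = p * t) :
    ∃ (u : G) (e : ℕ), orderOf u = p ∧ t ≡ e [MOD p] ∧ e * L.index ∣ ee u ∧ ee u ∣ p - 1 ∧
      Nat.card H = Nat.card Q * (p * t * L.index) ∧ Nat.card Q ≡ 1 [MOD p] ∧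
      (3 ∣ t → 3 ∣ e * L.index → 3 ∣ e) := by
  have pp := gl.pp
  have p7 := gl.p7
  have := Fact.mk pp
  have := Fact.mk Nat.prime_three
  have := P8.pf_Bas1.{u}
  have := P8.pf_PjB.{u, u}
  obtain ⟨A, hA, QA, cA, -⟩ := P8.PjB.pre pj L
  have AH : A ≤ H := fun a ha => ((hA a).1 ha).1
  have cA' : Nat.card A = Nat.card Q * (p * t) := by rw [← card_mul_relIndex QA, cA, d]
  obtain ⟨f, ef, fs, -⟩ := P8.PjBH.hom pj
  have kr : ((QuotientGroup.mk' L).comp f).ker = A.subgroupOf H := Subgroup.ext fun a => by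
    rw [MonoidHom.mem_ker, mem_subgroupOf, hA, MonoidHom.comp_apply, QuotientGroup.mk'_apply,
      QuotientGroup.eq_one_iff, ef]
    exact (and_iff_right a.2).symm
  have : (A.subgroupOf H).Normal := kr ▸ inferInstance
  have nor : H ≤ Ns A := le_normalizer_of_normal_subgroupOf AH
  obtain ⟨⟨u, uA⟩, o⟩ := exists_prime_orderOf_dvd_card' (G := A) p
    (cA' ▸ (Dvd.intro _ rfl : p ∣ p * t).mul_left _)
  rw [← Subgroup.orderOf_coe] at o
  change orderOf u = p at o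
  have cP : Nat.card (zpowers u) = p := by rw [Nat.card_zpowers, o]
  have pP : IsPGroup p (zpowers u) := IsPGroup.of_card (n := 1) (by rw [cP, pow_one])
  have cs : Cs (zpowers u) = zpowers u := (Known.SC.centralizer_zpowers u).trans (gl.cp u o)
  have cQ : Nat.card Q ≡ 1 [MOD p] := Solv.card_modEq_one_of_inf_centralizer_eq_bot pP
    ((zpowers_le.2 (AH uA)).trans (P8.PjBH.nor pj)) (by
      change Q ⊓ Cs (zpowers u) = ⊥
      rw [cs]
      exact IsPGroup.disjoint_of_ne 2 p (by omega) _ _ pj.two pP |>.eq_bot)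
  obtain ⟨syl, n, hn, cn⟩ := cnt gl o uA
  have ix : A.relIndex (Ns (zpowers u) ⊓ H) = L.index := by
    suffices k : ((Ns (zpowers u) ⊓ H).subgroupOf H).map ((QuotientGroup.mk' L).comp f) = ⊤ by
      rw [← relIndex_subgroupOf (inf_le_right : _ ≤ H), ← kr, relIndex_ker, k, Subgroup.card_top, index]
    refine eq_top_iff.2 fun y _ => ?_
    obtain ⟨y, rfl⟩ := QuotientGroup.mk'_surjective L y
    obtain ⟨⟨g, hg⟩, rfl⟩ := fs y
    obtain ⟨m, hm, k, hk, rfl⟩ := syl.frattini' (nor hg)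
    have mH : m ∈ H := (mul_mem_cancel_right (AH hk)).1 hg
    refine ⟨⟨m, mH⟩, ⟨hm, mH⟩, ?_⟩
    have k1 : (⟨k, AH hk⟩ : H) ∈ ((QuotientGroup.mk' L).comp f).ker := kr ▸ hk
    rw [show (⟨m * k, hg⟩ : H) = ⟨m, mH⟩ * ⟨k, AH hk⟩ from rfl]
    change _ = ((QuotientGroup.mk' L).comp f) _
    rw [map_mul, MonoidHom.mem_ker.1 k1, mul_one]
  have l1 : zpowers u ≤ Ns (zpowers u) ⊓ A := le_inf le_normalizer syl.le
  have l2 : Ns (zpowers u) ⊓ A ≤ Ns (zpowers u) ⊓ H := inf_le_inf_left _ AH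
  have ek : (zpowers u).relIndex (Ns (zpowers u) ⊓ A) * L.index =
      (zpowers u).relIndex (Ns (zpowers u) ⊓ H) := by
    rw [← relIndex_mul_relIndex _ _ _ l1 l2, ← ix, ← inf_relIndex_left (Ns (zpowers u) ⊓ H) A,
      inf_assoc, inf_of_le_right AH]
  refine ⟨u, _, o, ?_, ek ▸ Dvd.intro _ (relIndex_mul_relIndex _ _ _ (l1.trans l2) inf_le_left), ?_, ?_,
    cQ, fun h1 h2 => ?_⟩
  · rw [cA', mul_left_comm] at cn
    have k := Nat.eq_of_mul_eq_mul_left pp.pos cn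
    simpa using (((cQ.mul_right t).symm.trans (k ▸ Nat.ModEq.refl _)).trans (hn.mul_left _))
  · have k := Known.SC.relIndex_centralizer_dvd_sub_one pp _ cP
    change (Cs (zpowers u)).relIndex _ ∣ _ at k
    rwa [cs] at k
  · rw [← d, L.card_mul_index, ← (P8.PjB.card pj).2.1, card_mul_relIndex pj.le]
  · rw [ek] at h2
    obtain ⟨⟨x, hx⟩, ox⟩ := exists_prime_orderOf_dvd_card' (G := ↥(Ns (zpowers u) ⊓ H)) 3
      (h2.trans (relIndex_dvd_card _ _))
    rw [← Subgroup.orderOf_coe] at ox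
    change orderOf x = 3 at ox
    have xA := nine n9 AH nor (cA' ▸ (h1.mul_left p).mul_left _) hx.2 ox
    have k := (Ns (zpowers u) ⊓ A).orderOf_dvd_natCard (x := x) ⟨hx.1, xA⟩
    rw [ox, ← card_mul_relIndex l1, cP] at k
    exact ((Nat.coprime_primes Nat.prime_three pp).2 (by omega)).dvd_of_dvd_mul_left k

theorem core (gl : Gl G p) {H S : Subgroup G} (ty : Typ p H) (le : S ≤ H) (hS : IsSylowIn 2 S ⊤)
    (n9 : p ∣ Nat.card H → O2 H ≠ ⊥ → ∀ a ∈ H, ∀ b ∈ H, ¬ E9 a b) :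
    (p = 7 ∧ (Ty7 H ∨ TyL 8 H)) ∨ (p = 17 ∧ TyL 17 H) := by
  obtain ⟨X, _, _, π, L, ty, _, -, soc⟩ := ty
  have := Fact.mk Nat.prime_two
  have := P8.pf_Bas1.{u}
  have := P8.pf_PjB.{u, u}
  have pj := ty.toPj
  have n9' : ∀ t, Nat.card L = p * t → ∀ a ∈ H, ∀ b ∈ H, ¬ E9 a b := fun t d => by
    have d1 : Nat.card X ∣ Nat.card H := (P8.PjB.card pj).2.1 ▸ relIndex_dvd_card (O2 H) H
    exact n9 (((Dvd.intro _ d.symm).trans (card_subgroup_dvd_card L)).trans d1) ty.ne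
  have no : ∀ t, Nat.card L = p * t → ¬ (U33 L ∨ L33 L) := fun t d h => by
    obtain ⟨a, b, oa, ob, c, n⟩ := e9u h
    refine lift9 pj (n9' t d) a b ⟨(Subgroup.orderOf_coe a).trans oa, (Subgroup.orderOf_coe b).trans ob,
      congrArg Subtype.val c, fun k => n ?_⟩
    obtain ⟨i, k⟩ := mem_zpowers_iff.1 k
    exact mem_zpowers_iff.2 ⟨i, Subtype.ext k⟩
  have top : ∀ q, L.index = 1 → L2q q L → L2q q X := fun q k ⟨F, _, _, cF, ⟨e⟩⟩ => by
    obtain rfl := index_eq_one.1 k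
    exact ⟨F, _, _, cF, ⟨topEquiv.symm.trans e⟩⟩
  obtain ⟨m, hm⟩ := pj.two.exists_card_eq
  obtain ⟨j, hj⟩ := hS.isPGroup.exists_card_eq
  have sH := hS.mono le le_top
  have cS := card_mul_relIndex le
  rw [hj] at cS
  rcases soc with ⟨rfl, h | h | h⟩ | ⟨rfl, h⟩ | ⟨rfl, h⟩
  · have cL := (cardL h).1 rfl
    obtain ⟨y, e, o, h1, h2, h3, h4, h5, -⟩ := num gl pj (n9' 24 cL) L (t := 24) cL
    have e6 := Nat.le_of_dvd (by decide) ((Dvd.intro _ rfl).trans (h2.trans h3))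
    obtain rfl : e = 3 := by unfold Nat.ModEq at h1; omega
    have k6 := Nat.le_of_dvd (by decide) (h2.trans h3)
    have k0 : L.index ≠ 0 := FiniteIndex.index_ne_zero
    obtain k | k : L.index = 1 ∨ L.index = 2 := by omega
    · obtain ⟨F, _, _, cF, ⟨e⟩⟩ := top 7 k h
      have : IsSimpleGroup (PSL 2 F) := Matrix.ProjectiveSpecialLinearGroup.rank_two_simple
        (by rw [Nat.card_eq_fintype_card, cF]; decide)
      have := e.isSimpleGroup
      obtain ⟨e'⟩ := P8.pf_E73.iso (X := X) ((cardL ⟨F, _, _, cF, ⟨e⟩⟩).1 rfl)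
      exact .inl ⟨rfl, .inl ⟨_, (P8.PjB.equiv e').2 ty⟩⟩
    · rw [k] at h2 h4
      have e6 : ee y = 6 := Nat.dvd_antisymm h3 h2
      have k2 := two (c := 4) (d := 21) (cS.trans (hm ▸ h4)) sH.not_dvd (by decide)
      have k3 := gl.dg S y hS o
      rw [e6, hj, k2, ← hm] at k3
      unfold Nat.ModEq at h5
      unfold Int.ModEq at k3
      omega
  · have cL := (cardL h).2.1 rfl
    obtain ⟨y, e, o, h1, h2, h3, -, -, h6⟩ := num gl pj (n9' 72 cL) L (t := 72) cL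
    have e6 := Nat.le_of_dvd (by decide) ((Dvd.intro _ rfl).trans (h2.trans h3))
    obtain rfl : e = 2 := by unfold Nat.ModEq at h1; omega
    have k6 := h2.trans h3
    have k7 := Nat.le_of_dvd (by decide) k6
    have k0 : L.index ≠ 0 := FiniteIndex.index_ne_zero
    have k8 := mt (h6 (by decide)) (by decide)
    obtain k | k | k : L.index = 1 ∨ L.index = 2 ∨ L.index = 3 := by omega
    · exact .inl ⟨rfl, .inr ⟨X, _, ‹_›, π, ty, top 8 k h⟩⟩
    · exact absurd (k ▸ k6) (by decide)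
    · exact absurd (k ▸ k8) (by decide)
  · exact absurd (.inl h) (no 864 (cardU h))
  · exact absurd (.inr h) (no 432 (card3 h))
  · have cL := (cardL h).2.2 rfl
    obtain ⟨y, e, o, h1, h2, h3, h4, h5, -⟩ := num gl pj (n9' 144 cL) L (t := 144) cL
    have e6 := Nat.le_of_dvd (by decide) ((Dvd.intro _ rfl).trans (h2.trans h3))
    obtain rfl : e = 8 := by unfold Nat.ModEq at h1; omega
    have k6 := Nat.le_of_dvd (by decide) (h2.trans h3)
    have k0 : L.index ≠ 0 := FiniteIndex.index_ne_zero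
    obtain k | k : L.index = 1 ∨ L.index = 2 := by omega
    · exact .inr ⟨rfl, X, _, ‹_›, π, ty, top 17 k h⟩
    · rw [k] at h2 h4
      have e6 : ee y = 16 := Nat.dvd_antisymm h3 h2
      have k2 := two (c := 5) (d := 153) (cS.trans (hm ▸ h4)) sH.not_dvd (by decide)
      have k3 := gl.dg S y hS o
      rw [e6, hj, k2, ← hm] at k3
      unfold Nat.ModEq at h5
      unfold Int.ModEq at k3
      omega

end

end TS

theorem ts (hA3 : StA3'.{u}) : StTS.{u} := fun G _ _ p gl H S ty le hS =>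
  TS.core gl ty le hS fun d ne => (hA3 G p gl H S ne le hS d).2.2

end Cfsg.Lib.K7
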