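import Cfsg.Agent.K7.LocB
import Cfsg.Agent.K7.SB

/-!
# Simple groups of order `7 * 3 ^ a * 2 ^ b`: consequences of the coordinates of type `L₃(2)`
-/

set_option autoImplicit false
set_option maxRecDepth 100000

namespace Cfsg.Lib.K7

open Cfsg Subgroup Cfsg.Lib.Trans Cfsg.Lib.Gold
open Cfsg.Lib.P8 (L32 V3 O2 Om Jt Phi EA SR4 Ch E9 Pj Ty Sec SecOK Mx Crd)
open Cfsg.Lib.K35 (PSL Alt A3 NC)
open scoped commutatorElement

universe u

namespace NSNS

open P8.WS8bH SBh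

/-- The long element. -/
def t0 : L32 := ⟨!![0, 0, 1; 0, 1, 0; 1, 0, 0], by decide⟩

/-- A transvection. -/
def t1 : L32 := ⟨!![1, 0, 0; 0, 1, 1; 0, 0, 1], by decide⟩

/-- A transvection. -/
def t2 : L32 := ⟨!![1, 1, 0; 0, 1, 0; 0, 0, 1], by decide⟩

/-- A transvection. -/
def t3 : L32 := ⟨!![1, 0, 1; 0, 1, 0; 0, 0, 1], by decide⟩

theorem cnj : ∀ a : L32, a * a = 1 → a ≠ 1 → ∃ m : L32, m * t0 = a * m := by decide +kernel

theorem f1 : (t1 * t1 = 1 ∧ t1 ≠ 1) ∧ (t2 * t2 = 1 ∧ t2 ≠ 1) ∧ UT t1 ∧ UT t2 ∧ UT t3 := by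
  decide +kernel

theorem o7 : orderOf (t0 * t1 * t2) = 7 := by
  have : Fact (Nat.Prime 7) := ⟨by norm_num⟩
  exact orderOf_eq_prime (by decide +kernel) (by decide +kernel)

theorem o3 : orderOf (t0 * t3) = 3 := orderOf_eq_prime (by decide +kernel) (by decide +kernel)

theorem o4 : orderOf (t1 * t2) = 4 :=
  orderOf_eq_prime_pow (p := 2) (n := 1) (by decide +kernel) (by decide +kernel)

theorem tri0 (a : L32) (h : a * a = 1) (n : a ≠ 1) :
    ∃ n₁ n₂ : L32, orderOf (a * (n₁ * a * n₁⁻¹) * (n₂ * a * n₂⁻¹)) = 7 := by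
  obtain ⟨m, e⟩ := cnj a h n
  obtain ⟨p, ep⟩ := cnj t1 f1.1.1 f1.1.2
  obtain ⟨q, eq⟩ := cnj t2 f1.2.1.1 f1.2.1.2
  have ea : a = m * t0 * m⁻¹ := by rw [e, mul_inv_cancel_right]
  have e1 : t1 = p * t0 * p⁻¹ := by rw [ep, mul_inv_cancel_right]
  have e2 : t2 = q * t0 * q⁻¹ := by rw [eq, mul_inv_cancel_right]
  refine ⟨m * p * m⁻¹, m * q * m⁻¹, ?_⟩
  rw [← o7]
  refine (SemiconjBy.orderOf_eq m ?_).symm
  rw [SemiconjBy, ea]
  conv_lhs => rw [e1, e2]
  group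

theorem gen0 (B : Subgroup L32) (hU : ∀ u, UT u → u ∈ B) (h0 : t0 ∈ B) : B = ⊤ := by
  obtain ⟨sim, c168, -⟩ := P8.pf_E73.{0}.l32
  obtain ⟨-, -, u1, u2, u3⟩ := f1
  have d7 := o7 ▸ orderOf_dvd_natCard B (mul_mem (mul_mem h0 (hU _ u1)) (hU _ u2))
  have d3 := o3 ▸ orderOf_dvd_natCard B (mul_mem h0 (hU _ u3))
  have d4 := o4 ▸ orderOf_dvd_natCard B (mul_mem (hU _ u1) (hU _ u2))
  have e := B.card_mul_index
  rw [c168] at e
  have hi : B.index = 1 ∨ B.index = 2 := by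
    have h84 : 84 ∣ Nat.card B := by omega
    obtain ⟨k, hk⟩ := h84
    rw [hk] at e
    have : k * B.index = 2 := by nlinarith
    have := Dvd.intro_left _ this
    exact (Nat.dvd_prime Nat.prime_two).1 this
  rcases hi with hi | hi
  · exact index_eq_one.1 hi
  · refine (normal_of_index_eq_two hi).eq_bot_or_eq_top.resolve_left fun k => ?_
    rw [k, card_bot] at d7
    omega

variable {G : Type u} [Group G] [Finite G]

theorem exp2 (gl : Gl G 7) {T W : Subgroup G} {y t : G} (two : IsPGroup 2 T) (le : W ≤ T)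
    (oy : orderOf y = 7) (nT : y ∈ Ns T) (nW : y ∈ Ns W) (TW : T ≤ Ns W) (cW : T ≤ Cs W)
    (sq : ∀ w ∈ W, w * w = 1) (idx : W.relIndex T ≤ 8) (ht : t ∈ T) (tt : t * t = 1) (tW : t ∉ W) :
    ∀ τ ∈ T, τ * τ = 1 := by
  have : Fact (Nat.Prime 7) := ⟨by norm_num⟩
  have c7 : Nat.card (zpowers y) = 7 := by rw [Nat.card_zpowers, oy]
  have zT := zpowers_le.2 nT
  have zW := zpowers_le.2 nW
  let e : Option (zpowers y) → T := fun o => match o with
    | none => 1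
    | some σ => ⟨σ * t * (σ : G)⁻¹, mem_normalizer_conj (zT σ.2) ht⟩
  have n1 : ∀ σ : zpowers y, (σ : G) * t * (σ : G)⁻¹ ∉ W := fun σ h => tW (by
    simpa [mul_assoc] using mem_normalizer_conj' (zW σ.2) h)
  have inj : Function.Injective fun o => (QuotientGroup.mk (e o) : T ⧸ W.subgroupOf T) := by
    intro a b h
    have h := mem_subgroupOf.1 (QuotientGroup.eq.1 h)
    rcases a with _ | σ <;> rcases b with _ | τ
    · rfl
    · exact absurd (by simpa [e] using h) (n1 τ)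
    · exact absurd (by simpa [e] using inv_mem h) (n1 σ)
    · refine congrArg some (by_contra fun ne => tW ?_)
      have hm : (σ : G)⁻¹ * τ ∈ zpowers y := mul_mem (inv_mem σ.2) τ.2
      have o : orderOf ((σ : G)⁻¹ * τ) = 7 := by
        refine orderOf_eq_prime ?_ fun k => ne (Subtype.ext (inv_mul_eq_one.1 k))
        have := pow_card_eq_one' (x := (⟨_, hm⟩ : zpowers y))
        rw [c7] at this
        exact congrArg Subtype.val this
      refine (inv_mem_iff).1 (fix7 gl o two le TW (zW hm) (zT hm) (inv_mem ht) ?_)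
      simpa [e, commutatorElement_def, mul_assoc] using mem_normalizer_conj' (zW σ.2) h
  have sur := (inj.bijective_of_nat_card_le (by
    rw [Finite.card_option, c7]
    exact idx)).2
  intro τ hτ
  obtain ⟨o, ho⟩ := sur (QuotientGroup.mk ⟨τ, hτ⟩)
  have h : ((e o : T) : G)⁻¹ * τ ∈ W := mem_subgroupOf.1 (QuotientGroup.eq.1 ho)
  have ee : ((e o : T) : G) * (e o : T) = 1 := by
    rcases o with _ | σ
    · simp [e]
    · simp only [e]
      rw [show (σ : G) * t * (σ : G)⁻¹ * (σ * t * (σ : G)⁻¹) = σ * (t * t) * (σ : G)⁻¹ by group, tt]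
      simp
  have c := mem_Cs.1 (cW (e o).2) _ h
  have s := sq _ h
  generalize ((e o : T) : G) = b at h ee c s
  obtain ⟨w, rfl⟩ : ∃ w, τ = b * w := ⟨b⁻¹ * τ, by group⟩
  rw [inv_mul_cancel_left] at c s
  rw [show b * w * (b * w) = b * (w * b) * w by group, c,
    show b * (b * w) * w = b * b * (w * w) by group, ee, s, one_mul]

end NSNS

set_option maxHeartbeats 800000 in
set_option linter.unusedVariables false in
open SBh P8.WS8bH NSNS in
theorem ns (hDp : StDp.{u}) : StNS.{u} := by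
  intro G _ _ M S W g π c z h
  have := Fact.mk Nat.prime_two
  have := P8.pf_Bas1.{u}
  have B2 := P8.pf_Bas2.{u}
  have P := P8.pf_PjB.{u, 0}
  have gl := h.nb.gl
  have no := h.no
  have k := h.crd
  have nor := h.nW
  have pj := h.ty.toPj
  obtain ⟨h1, h2, h3, nT, h5⟩ := P.one pj
  have o1 : Om (O2 M) ≤ O2 M := fun v hv => ((no.memV v).1 hv).1
  have ea2 : ∀ a ∈ W, a * a = 1 := fun a ha => ((no.memV a).1 (h.leW ha)).2.1
  have eaV : EA W := ⟨isMulCommutative_of_sq ea2, fun a ha => no.ea.2 a (h.leW ha)⟩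
  have inj : ∀ a ∈ W, ∀ b ∈ W, c a = c b → a = b := fun a ha b hb e => by
    have := (k.zero _ (mul_mem ha hb)).1 (by rw [k.add a ha b hb, e, (m8 _).1])
    rw [eq_inv_of_mul_eq_one_left this, inv_eq_of_sq (ea2 b hb)]
  have cm : ∀ g ∈ M, ∀ a ∈ W, g * a = a * g ↔ ac (π g) (c a) = c a := fun g hg a ha => by
    rw [ac, ← k.eqv g hg a ha, ← mul_inv_eq_iff_eq_mul]
    exact ⟨fun e => by rw [e], inj _ (mem_normalizer_conj (nor hg) ha) _ ha⟩
  have c8 : Nat.card W = 8 := by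
    rw [Nat.card_congr (Equiv.ofBijective (fun a : W => c a)
      ⟨fun a b e => Subtype.ext (inj _ a.2 _ b.2 e), fun v =>
        let ⟨a, ha, e⟩ := k.sur v; ⟨⟨a, ha⟩, e⟩⟩), Nat.card_eq_fintype_card]
    rfl
  have hz := h.zW
  have ez := h.cz
  have z1 : z ≠ 1 := fun e => m9 (ez.symm.trans ((k.zero z hz).2 e))
  have sM : S ≤ M := fun g hg => ((h.memS g).1 hg).1
  have mS : ∀ {g}, g ∈ M → (g ∈ S ↔ UT (π g)) := fun {g} hg =>
    (h.memS g).trans ⟨fun k => k.2, fun k => ⟨hg, k⟩⟩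
  have WT : W ≤ O2 M := h.leW.trans o1
  have sqa : ∀ a ∈ M, a ∉ O2 M → a * a ∈ O2 M → π a * π a = 1 ∧ π a ≠ 1 := fun a ha n s =>
    ⟨by rw [← pj.mul a ha a ha]; exact (pj.ker _ (mul_mem ha ha)).2 s, fun e => n ((pj.ker a ha).1 e)⟩
  refine ⟨c8, orderOf_eq_prime (by rw [pow_two, ea2 z hz]) z1,
    fun s hs => mem_C1.2 ((cm s (sM hs) z hz).2 (by rw [ez]; exact (m1 _).1 ((mS (sM hs)).1 hs))),
    fun l => ?_, fun A hA eA => rk pj hA eA, fun a ha n s => ?_, fun a ha n s => ?_,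
    fun U₁ U₂ le leT n1 n2 j hj jT cj => qw gl pj le leT n1 n2 hj jT cj, fun e idx t ht tt => ?_,
    fun _ v hv l => ?_⟩
  · obtain ⟨R, hR, lR⟩ := exists_isSylowIn_ge pj.two le_top
    have e : Om (O2 M) = W := le_antisymm (o1.trans l) h.leW
    have cW := no.cV
    rw [e] at cW
    exact gl.n4 (B2.sr hR (B2.sr8 hR.isPGroup (WT.trans lR) eaV c8
      (inf_le_right.trans (cW.le.trans l))))
  · obtain ⟨q1, q2⟩ := sqa a ha n s
    obtain ⟨n₁, n₂, o⟩ := tri0 _ q1 q2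
    obtain ⟨m₁, k₁, rfl⟩ := pj.sur n₁
    obtain ⟨m₂, k₂, rfl⟩ := pj.sur n₂
    have c₁ := mul_mem (mul_mem k₁ ha) (inv_mem k₁)
    have c₂ := mul_mem (mul_mem k₂ ha) (inv_mem k₂)
    rw [← P8.PjBH.cj pj k₁ ha, ← P8.PjBH.cj pj k₂ ha, ← pj.mul _ ha _ c₁,
      ← pj.mul _ (mul_mem ha c₁) _ c₂] at o
    obtain ⟨y, hy, -, oy⟩ := P.odd pj _ (mul_mem (mul_mem ha c₁) c₂) (by rw [o]; decide)
    refine ⟨m₁, k₁, m₂, k₂, y, zpowers_le.2 ?_ hy, oy.trans o⟩
    exact mul_mem (mul_mem (subset_closure (by simp)) (subset_closure (by simp)))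
      (subset_closure (by simp))
  · obtain ⟨q1, q2⟩ := sqa a ha n s
    obtain ⟨n₁, e⟩ := cnj _ q1 q2
    obtain ⟨m, hm, rfl⟩ := pj.sur n₁
    have lM : cj m S ⊔ zpowers a ≤ M := sup_le (cj_le_iff.2 fun t ht =>
      mul_mem (mul_mem hm (sM ht)) (inv_mem hm)) (zpowers_le.2 ha)
    obtain ⟨B, hB, -⟩ := P.im pj _ lM
    have top : cj (π m)⁻¹ B = ⊤ := by
      refine gen0 _ (fun u hu => mem_cj_inv.2 ?_) (mem_cj_inv.2 ?_)
      · obtain ⟨s, hs, rfl⟩ := pj.sur u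
        refine (hB _).2 ⟨m * s * m⁻¹, mem_sup_left (mem_cj.2 ?_), P8.PjBH.cj pj hm hs⟩
        simpa [mul_assoc] using (mS hs).2 hu
      · rw [e, mul_inv_cancel_right]
        exact (hB _).2 ⟨a, mem_sup_right (mem_zpowers a), rfl⟩
    refine ⟨m, hm, le_antisymm lM fun x hx => ?_⟩
    have : π x ∈ B := by
      simpa [mul_assoc] using mem_cj_inv.1 (top.ge (mem_top ((π m)⁻¹ * π x * π m)))
    obtain ⟨b, hb, eb⟩ := (hB _).1 this
    have t := (h5 b (lM hb) x hx).1 eb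
    simpa using mul_mem hb (mem_sup_left (mem_cj.2 (no.leT (mem_normalizer_conj' (nT hm) t))))
  · by_contra tW
    obtain ⟨y, yM, oy⟩ := no.ex
    have cW := no.cV
    rw [e] at cW
    have sq := exp2 gl pj.two WT oy (nT yM) (nor yM) (pj.le.trans nor) cW.ge ea2 idx ht tt tW
    exact tW (e ▸ (no.memV t).2 ⟨ht, tt, fun τ hτ => mem_C1.2 (comm_of_sq sq τ hτ t ht)⟩)
  · refine (fix (c v) fun g hg => ?_).imp (k.zero v hv).1 fun e => inj v hv z hz (e.trans ez.symm)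
    obtain ⟨m, hm, rfl⟩ := pj.sur g
    exact (cm m hm v hv).1 (mem_C1.1 (l ((mS hm).2 ((m1 _).2.1 hg))))

end Cfsg.Lib.K7
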