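import Cfsg.Agent.K7.NSU5a

/-! # The small centralizers of elements of order three in `G₂(2)` -/

set_option autoImplicit false

namespace Cfsg.Lib.K7

open Cfsg Subgroup Cfsg.Lib.Trans Cfsg.Lib.Gold
open Cfsg.Lib.P8 (L32 V3 O2 Om Jt Phi EA SR4 Ch E9 Pj Ty Sec SecOK Mx Crd)
open Cfsg.Lib.K35 (PSL Alt A3 NC)
open scoped commutatorElement

universe u

namespace NSU5

theorem cl_cj {r : Gm} (h : Cl r) (k : Gm) : Cl (k * r * k⁻¹) := by
  obtain ⟨h1, j, hj, h2, h3⟩ := h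
  have hn : L0.Normal := inferInstance
  refine ⟨(oc k r).trans h1, k * j * k⁻¹, hn.conj_mem j hj k, (oc k j).trans h2, ?_⟩
  calc k * j * k⁻¹ * (k * r * k⁻¹) = k * (j * r) * k⁻¹ := by group
    _ = k * r * k⁻¹ * (k * j * k⁻¹) := by rw [h3]; group

theorem pw {U : Subgroup Gm} (hU : IsPGroup 2 U) {j : Gm} (hj : j ∈ U) :
    ∃ n : ℕ, orderOf j = 2 ^ n := by
  have : Fact (Nat.Prime 2) := ⟨Nat.prime_two⟩
  obtain ⟨n, hn⟩ := (IsPGroup.iff_orderOf.1 hU) ⟨j, hj⟩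
  exact ⟨n, by rw [← hn, Subgroup.orderOf_mk]⟩

theorem r33 : r0 ^ 3 = 1 := orderOf_dvd_iff_pow_eq_one.1 or0.dvd

theorem ninv : r0 ≠ r0⁻¹ := fun h => by
  have h1 : r0 ^ 2 = 1 := by
    rw [pow_two]
    exact mul_eq_one_iff_eq_inv.2 h
  have h2 := orderOf_dvd_of_pow_eq_one h1
  rw [or0] at h2
  norm_num at h2

theorem x0R : x0 ∈ RR := memR rfl xr.symm (orderOf_dvd_iff_pow_eq_one.1 ox.dvd)

theorem no2 {U : Subgroup Gm} (hU : IsPGroup 2 U) (hx : x0 ∈ Ns U) (hr : r0 ∈ Ns U) : U = ⊥ := by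
  have key : ∀ y : Gm, y * r0 = r0 * y → ∀ j ∈ U, j * (y * x0 * y⁻¹) = y * x0 * y⁻¹ * j → j = 1 := by
    intro y hy j hj h
    have h1 : y⁻¹ * j * y * x0 = x0 * (y⁻¹ * j * y) := by
      calc y⁻¹ * j * y * x0 = y⁻¹ * (j * (y * x0 * y⁻¹)) * y := by group
        _ = x0 * (y⁻¹ * j * y) := by rw [h]; group
    rcases cx _ h1 with h2 | h2
    · refine two3 (pw hU hj) ?_
      have h3 : y⁻¹ * j ^ 3 * y = 1 := by
        rw [← h2, pow_three, pow_three]; group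
      calc j ^ 3 = y * (y⁻¹ * j ^ 3 * y) * y⁻¹ := by group
        _ = 1 := by rw [h3]; group
    · exfalso
      have hy1 : y * r0 * y⁻¹ = r0 := by rw [hy]; group
      have h3 : j * r0 * j⁻¹ = r0⁻¹ := by
        calc j * r0 * j⁻¹ = j * (y * r0 * y⁻¹) * j⁻¹ := by rw [hy1]
          _ = y * (y⁻¹ * j * y * r0 * (y⁻¹ * j * y)⁻¹) * y⁻¹ := by group
          _ = (y * r0 * y⁻¹)⁻¹ := by rw [h2]; group
          _ = r0⁻¹ := by rw [hy1]
      have h4 : j * (r0 * j⁻¹ * r0⁻¹) ∈ U := mul_mem hj (mem_normalizer_conj hr (inv_mem hj))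
      have h5 : j * (r0 * j⁻¹ * r0⁻¹) = r0 := by
        calc j * (r0 * j⁻¹ * r0⁻¹) = j * r0 * j⁻¹ * r0⁻¹ := by group
          _ = r0 * (r0 ^ 3)⁻¹ := by rw [h3]; group
          _ = r0 := by rw [r33]; group
      rw [h5] at h4
      exact r01 (two3 (pw hU h4) r33)
  have hyx : y0 * x0 * y0⁻¹ = x0 * r0 := by rw [yx]; group
  have e9 : E9 r0 x0 := by
    refine ⟨or0, ox, xr, fun h => r01 ?_⟩
    obtain ⟨n, hn⟩ := mem_zpowers_iff.1 h
    have h1 : Commute y0 x0 := hn ▸ (show Commute y0 r0 from yr).zpow_right n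
    rw [h1.eq, mul_inv_cancel_right] at hyx
    exact left_eq_mul.1 hyx
  have hg := P8.Bas2H.gen9 hU hr hx e9
  rw [eq_bot_iff]
  refine hg.trans (sup_le (sup_le (sup_le ?_ ?_) ?_) ?_)
  · rintro j ⟨hj, hc⟩
    have hc' : j * r0 = r0 * j := mem_centralizer_singleton_iff.1 hc
    have h1 : j * x0 * j⁻¹ ∈ RR := by
      refine memR ?_ ?_ (orderOf_dvd_iff_pow_eq_one.1 ((oc j x0).trans ox).dvd)
      · simp [x0, r_el]
      · have a : Commute j r0 := hc'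
        have b : Commute x0 r0 := xr.symm
        exact ((a.mul_left b).mul_left a.inv_left).eq
    have h2 := R3 (mul_mem h1 (inv_mem x0R))
    have h3 : j * x0 * j⁻¹ * x0⁻¹ ∈ U := by
      have := mul_mem hj (mem_normalizer_conj hx (inv_mem hj))
      simpa [mul_assoc] using this
    have h4 := two3 (pw hU h3) h2
    have h5 : j * x0 = x0 * j := by
      calc j * x0 = j * x0 * j⁻¹ * x0⁻¹ * (x0 * j) := by group
        _ = x0 * j := by rw [h4, one_mul]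
    exact key 1 (by simp) j hj (by simpa using h5)
  · rintro j ⟨hj, hc⟩
    exact key 1 (by simp) j hj (by simpa using mem_centralizer_singleton_iff.1 hc)
  · rintro j ⟨hj, hc⟩
    refine key y0 yr j hj ?_
    rw [hyx, ← xr]
    exact mem_centralizer_singleton_iff.1 hc
  · rintro j ⟨hj, hc⟩
    have a : Commute y0 r0 := yr
    refine key y0⁻¹ a.inv_left.eq j hj ?_
    have h1 : y0⁻¹ * x0 * y0⁻¹⁻¹ = (r0 * x0⁻¹)⁻¹ := by
      calc y0⁻¹ * x0 * y0⁻¹⁻¹ = y0⁻¹ * (x0 * r0) * (r0⁻¹ * y0) := by group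
        _ = y0⁻¹ * (y0 * x0 * y0⁻¹) * (y0 * r0⁻¹) := by rw [hyx, a.inv_right.eq]
        _ = (r0 * x0⁻¹)⁻¹ := by group
    rw [h1]
    have b : Commute j (r0 * x0⁻¹) := mem_centralizer_singleton_iff.1 hc
    exact b.inv_right.eq

end NSU5

open NSU5 in
theorem u5 (hU1 : StU1) : StU5 := by
  have : Fact (Nat.Prime 3) := ⟨Nat.prime_three⟩
  have hn : L0.Normal := inferInstance
  have c0 : Cl r0 := ⟨or0, j4, (hU1.2.2.1 j4).2 rfl, oj, jr⟩
  have c1 : Cl r0⁻¹ := ⟨(orderOf_inv r0).trans or0, j4, (hU1.2.2.1 j4).2 rfl, oj,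
    (show Commute j4 r0 from jr).inv_right.eq⟩
  intro x hx hcl
  have hp : IsPGroup 3 (zpowers x) := IsPGroup.of_card (n := 1) (by rw [Nat.card_zpowers, hx, pow_one])
  obtain ⟨g, -, hg⟩ := syl.exists_cj_le hp le_top
  have h1 : g * x * g⁻¹ ∈ RR := cj_le_iff.1 hg x (mem_zpowers x)
  have e : x = g⁻¹ * (g * x * g⁻¹) * g⁻¹⁻¹ := by group
  rcases cls h1 with h | h | h | ⟨k, h⟩
  · have h2 := (oc g x).trans hx
    rw [h, orderOf_one] at h2
    norm_num at h2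
  · exact absurd (by rw [e, h]; exact cl_cj c0 _) hcl
  · exact absurd (by rw [e, h]; exact cl_cj c1 _) hcl
  · have e1 : x = g⁻¹ * k * x0 * (g⁻¹ * k)⁻¹ := by rw [e, h]; group
    generalize g⁻¹ * k = m at e1
    subst e1
    refine ⟨m * r0 * m⁻¹, hn.conj_mem r0 ((hU1.2.2.1 r0).2 rfl) m, cl_cj c0 m, ?_, ?_, ?_⟩
    · calc m * r0 * m⁻¹ * (m * x0 * m⁻¹) = m * (r0 * x0) * m⁻¹ := by group
        _ = m * x0 * m⁻¹ * (m * r0 * m⁻¹) := by rw [xr]; group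
    · intro j hj h2
      have h3 : m⁻¹ * j * m * x0 = x0 * (m⁻¹ * j * m) := by
        calc m⁻¹ * j * m * x0 = m⁻¹ * (j * (m * x0 * m⁻¹)) * m := by group
          _ = x0 * (m⁻¹ * j * m) := by rw [hj]; group
      rcases cx _ h3 with h4 | h4
      · refine Or.inl (two3 h2 ?_)
        have h5 : m⁻¹ * j ^ 3 * m = 1 := by
          rw [← h4, pow_three, pow_three]; group
        calc j ^ 3 = m * (m⁻¹ * j ^ 3 * m) * m⁻¹ := by group
          _ = 1 := by rw [h5]; group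
      · right
        calc j * (m * r0 * m⁻¹) * j⁻¹ = m * (m⁻¹ * j * m * r0 * (m⁻¹ * j * m)⁻¹) * m⁻¹ := by group
          _ = (m * r0 * m⁻¹)⁻¹ := by rw [h4]; group
    · intro U hU h2 h3
      refine cj_eq_bot.1 (no2 (U := cj m⁻¹ U) (isPGroup_cj hU _) ?_ ?_)
      · rw [Ns, ← cj_normalizer]
        exact mem_cj_inv.2 h2
      · rw [Ns, ← cj_normalizer]
        exact mem_cj_inv.2 h3

end Cfsg.Lib.K7
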