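import Cfsg.Agent.K7.LocB
import Cfsg.Agent.P8.Bas2

/-! # The small class of elements of order three in `G₂(2)` -/

set_option autoImplicit false

namespace Cfsg.Lib.K7

open Cfsg Subgroup Cfsg.Lib.Trans Cfsg.Lib.Gold
open Cfsg.Lib.P8 (L32 V3 O2 Om Jt Phi EA SR4 Ch E9 Pj Ty Sec SecOK Mx Crd)
open Cfsg.Lib.K35 (PSL Alt A3 NC)
open scoped commutatorElement

universe u

namespace NSU5

open Cfsg.Lib.Class Cfsg.Lib.Chev Cfsg.Lib.Known Matrix

abbrev Mt : Type := Matrix (Fin 3) (Fin 3) T9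

/-- The matrix with a given code. -/
def mat (n : ℕ) : Mt := Matrix.of fun i j => T9.c (n >>> (4 * (3 * i.1 + j.1)) % 16)

/-- The determinant. -/
def dt (A : Mt) : T9 := A 0 0 * A 1 1 * A 2 2 - A 0 0 * A 1 2 * A 2 1 - A 0 1 * A 1 0 * A 2 2 +
  A 0 1 * A 1 2 * A 2 0 + A 0 2 * A 1 0 * A 2 1 - A 0 2 * A 1 1 * A 2 0

/-- Special unitary matrices. -/
abbrev ok (A : Mt) : Prop := Aᵀ * A.map (· ^ 3) = 1 ∧ dt A = 1

/-- The matrix part of a semilinear map. -/
def M (g : Gm) : Mt := g.left.1.1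

/-- The element with a given code. -/
def el (n : ℕ) : Gm :=
  ⟨if h : ok (mat n) then ⟨⟨mat n, (Matrix.det_fin_three _).trans h.2⟩,
    (Perm.mem_SU_iff_mul (cube9 : T9 →+* T9) (fun _ => rfl) _).2 h.1⟩ else 1, 1⟩

theorem M_el {n : ℕ} (h : ok (mat n)) : M (el n) = mat n := by
  rw [M, el, dif_pos h]

theorem r_el (n : ℕ) : (el n).right = 1 := rfl

theorem M_ok (g : Gm) : ok (M g) :=
  ⟨(Perm.mem_SU_iff_mul (cube9 : T9 →+* T9) (fun _ => rfl) _).1 g.left.2,
    (Matrix.det_fin_three _).symm.trans g.left.1.2⟩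

theorem M_mul (g h : Gm) : M (g * h) = M g * (M h).map g.right := rfl

theorem M_mul1 {g : Gm} (hg : g.right = 1) (h : Gm) : M (g * h) = M g * M h := by
  rw [M_mul, hg]; rfl

theorem M_one : M 1 = 1 := rfl

theorem ext' {g h : Gm} (h1 : M g = M h) (h2 : g.right = h.right) : g = h :=
  SemidirectProduct.ext (Subtype.ext (Subtype.ext h1)) h2

theorem rt (σ : RingAut T9) : σ = 1 ∨ σ = cube9 := by
  have : Fact (Nat.Prime 3) := ⟨Nat.prime_three⟩
  have : Fact (Nat.Prime 2) := ⟨Nat.prime_two⟩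
  rcases (Nat.dvd_prime Nat.prime_two).1 (orderOf_ringAut_dvd T9.card σ) with h | h
  · exact Or.inl (orderOf_eq_one_iff.1 h)
  · refine Or.inr (ringAut_eq_of_orderOf_eq_two h (orderOf_eq_prime ?_ fun e => ?_))
    · rw [pow_two, cube9_mul]
    · have h1 : cube9 (T9.c 3) = T9.c 3 := by rw [e]; rfl
      revert h1
      change ¬ (T9.c 3) ^ 3 = T9.c 3
      decide +kernel

/-- The matrix of ones. -/
def JJ : Mt := Matrix.of fun _ _ => 1

def x0 : Gm := el 0x10001100
def r0 : Gm := el 0x433343334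
def r1 : Gm := el 0x766676667
def y0 : Gm := el 0x625238580
def j4 : Gm := el 0x225672762

theorem oks : ok (mat 0x10001100) ∧ ok (mat 0x433343334) ∧ ok (mat 0x766676667) ∧
    ok (mat 0x625238580) ∧ ok (mat 0x225672762) := by decide +kernel

theorem Mx0 : M x0 = mat 0x10001100 := M_el oks.1
theorem Mr0 : M r0 = mat 0x433343334 := M_el oks.2.1
theorem Mr1 : M r1 = mat 0x766676667 := M_el oks.2.2.1
theorem My0 : M y0 = mat 0x625238580 := M_el oks.2.2.2.1
theorem Mj4 : M j4 = mat 0x225672762 := M_el oks.2.2.2.2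

theorem x3 : x0 * (x0 * x0) = 1 :=
  ext' (by rw [M_mul1 rfl, M_mul1 rfl, Mx0, M_one]; decide +kernel) rfl
theorem rr : r0 * r0 = r1 :=
  ext' (by rw [M_mul1 rfl, Mr0, Mr1]; decide +kernel) rfl
theorem r3 : r0 * r1 = 1 :=
  ext' (by rw [M_mul1 rfl, Mr0, Mr1, M_one]; decide +kernel) rfl
theorem xr : r0 * x0 = x0 * r0 :=
  ext' (by rw [M_mul1 rfl, M_mul1 rfl, Mr0, Mx0]; decide +kernel) rfl
theorem yr : y0 * r0 = r0 * y0 :=
  ext' (by rw [M_mul1 rfl, M_mul1 rfl, Mr0, My0]; decide +kernel) rfl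
theorem yx : y0 * x0 = x0 * (r0 * y0) :=
  ext' (by rw [M_mul1 rfl, M_mul1 rfl, M_mul1 rfl, Mr0, My0, Mx0]; decide +kernel) rfl
theorem jr : j4 * r0 = r0 * j4 :=
  ext' (by rw [M_mul1 rfl, M_mul1 rfl, Mr0, Mj4]; decide +kernel) rfl
theorem j44 : j4 * (j4 * (j4 * j4)) = 1 :=
  ext' (by rw [M_mul1 rfl, M_mul1 rfl, M_mul1 rfl, Mj4, M_one]; decide +kernel) rfl
theorem j2 : j4 * j4 ≠ 1 := fun h => by
  have h1 := congrArg M h
  rw [M_mul1 rfl, Mj4, M_one] at h1
  revert h1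
  decide +kernel
theorem x1 : x0 ≠ 1 := fun h => by
  have h1 := congrArg M h
  rw [Mx0, M_one] at h1
  revert h1
  decide +kernel
theorem r01 : r0 ≠ 1 := fun h => by
  have h1 := congrArg M h
  rw [Mr0, M_one] at h1
  revert h1
  decide +kernel

theorem r1_eq : r1 = r0⁻¹ := eq_inv_of_mul_eq_one_right r3

theorem ox : orderOf x0 = 3 :=
  have : Fact (Nat.Prime 3) := ⟨Nat.prime_three⟩
  orderOf_eq_prime (by rw [pow_three, x3]) x1

theorem or0 : orderOf r0 = 3 :=
  have : Fact (Nat.Prime 3) := ⟨Nat.prime_three⟩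
  orderOf_eq_prime (by rw [pow_three, rr, r3]) r01

theorem oj : orderOf j4 = 4 :=
  have : Fact (Nat.Prime 2) := ⟨Nat.prime_two⟩
  orderOf_eq_prime_pow (p := 2) (n := 1) (by rw [pow_one, pow_two]; exact j2)
    (by rw [← j44]; norm_num [pow_succ, mul_assoc])

/-- Circulant matrices. -/
def ci (a b c : T9) : Mt := !![a, b, c; c, a, b; b, c, a]

theorem ci3 : ∀ a b c : T9, dt (ci a b c) = 1 → ci a b c * (ci a b c * ci a b c) = 1 := by
  decide +kernel

theorem cir : ∀ a b c : T9,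
    ci a b c * (mat 0x433343334).map (· ^ 3) = mat 0x766676667 * ci a b c := by
  decide +kernel

theorem mP : mat 0x10001100 = !![0, 0, 1; 1, 0, 0; 0, 1, 0] := by decide +kernel

theorem cx (j : Gm) (h : j * x0 = x0 * j) : j ^ 3 = 1 ∨ j * r0 * j⁻¹ = r0⁻¹ := by
  have h1 := congrArg M h
  have h2 : (mat 0x10001100).map j.right = mat 0x10001100 := by
    rcases rt j.right with e | e <;> rw [e]
    · rfl
    · change (mat 0x10001100).map (· ^ 3) = _
      decide +kernel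
  rw [M_mul, M_mul1 (g := x0) rfl, Mx0, h2, mP] at h1
  have h3 := fun i k => congrFun (congrFun h1 i) k
  have a0 := h3 0 0
  have a1 := h3 0 1
  have a2 := h3 0 2
  have a3 := h3 1 0
  have a4 := h3 1 1
  have a5 := h3 1 2
  simp [Matrix.mul_apply, Fin.sum_univ_three] at a0 a1 a2 a3 a4 a5
  have e : M j = ci (M j 0 0) (M j 0 1) (M j 0 2) := by
    ext i k
    fin_cases i <;> fin_cases k <;> simp [ci, a0, a1, a2, a3, a4, a5]
  rcases rt j.right with e1 | e1
  · left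
    rw [pow_three]
    refine ext' ?_ (by simp [e1])
    rw [M_mul1 e1, M_mul1 e1, M_one, e]
    exact ci3 _ _ _ (e ▸ (M_ok j).2)
  · right
    rw [mul_inv_eq_iff_eq_mul, ← r1_eq]
    refine ext' ?_ (by simp [r0, r1, r_el])
    rw [M_mul, M_mul1 (g := r1) rfl, Mr0, Mr1, e1, e]
    exact cir _ _ _

/-- A Sylow 3-subgroup. -/
def RR : Subgroup Gm where
  carrier := {g | g.right = 1 ∧ M g * JJ = JJ ∧ JJ * M g = JJ}
  one_mem' := ⟨rfl, by rw [M_one, Matrix.one_mul], by rw [M_one, Matrix.mul_one]⟩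
  mul_mem' := by
    rintro a b ⟨h1, h2, h3⟩ ⟨h4, h5, h6⟩
    refine ⟨by simp [h1, h4], ?_, ?_⟩
    · rw [M_mul1 h1, Matrix.mul_assoc, h5, h2]
    · rw [M_mul1 h1, ← Matrix.mul_assoc, h3, h6]
  inv_mem' := by
    rintro a ⟨h1, h2, h3⟩
    have h4 : a⁻¹.right = 1 := by simp [h1]
    have h5 : M a⁻¹ * M a = 1 := by rw [← M_mul1 h4, inv_mul_cancel, M_one]
    have h6 : M a * M a⁻¹ = 1 := by rw [← M_mul1 h1, mul_inv_cancel, M_one]
    refine ⟨h4, ?_, ?_⟩
    · conv_lhs => rw [← h2]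
      rw [← Matrix.mul_assoc, h5, Matrix.one_mul]
    · conv_lhs => rw [← h3]
      rw [Matrix.mul_assoc, h6, Matrix.mul_one]

/-- Matrices with row and column sums one. -/
def pm (a b c d : T9) : Mt :=
  !![a, b, 1 - a - b; c, d, 1 - c - d; 1 - a - c, 1 - b - d, a + b + c + d - 1]

/-- The non-central elements of the Sylow subgroup with conjugating elements. -/
def lst : List (ℕ × ℕ) := [(0x1100010, 0x2020200), (0x10001100, 0x1100010),
  (0x328265850, 0x45054600), (0x625238580, 0x78087300), (0x508283652, 0x635365770),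
  (0x526085832, 0x364634880), (0x805256382, 0x368638440), (0x823058562, 0x637367550),
  (0x58562823, 0x3780870), (0x334433343, 0x164317740), (0x343334433, 0x625238580),
  (0x652508283, 0x540006450), (0x238580625, 0x665821281), (0x256382805, 0x466217271),
  (0x832526085, 0x167242761), (0x850328265, 0x124373421), (0x85832526, 0x6450540),
  (0x382805256, 0x870003780), (0x667766676, 0x137614470), (0x676667766, 0x328265850),
  (0x265850328, 0x338521251), (0x283652508, 0x733214241), (0x562823058, 0x134272431),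
  (0x580625238, 0x127646721)]

theorem enum : ∀ a c : T9, a * a ^ 3 + c * c ^ 3 + (1 - a - c) * (1 - a - c) ^ 3 = 1 →
    ∀ b d : T9, ok (pm a b c d) → pm a b c d = 1 ∨ pm a b c d = mat 0x433343334 ∨
      pm a b c d = mat 0x766676667 ∨ ∃ p ∈ lst, pm a b c d = mat p.1 := by
  decide +kernel

theorem lst_ok : ∀ p ∈ lst, ok (mat p.2) ∧ mat p.2 * mat 0x10001100 = mat p.1 * mat p.2 := by
  decide +kernel

theorem cls {g : Gm} (hg : g ∈ RR) : g = 1 ∨ g = r0 ∨ g = r0⁻¹ ∨ ∃ k, g = k * x0 * k⁻¹ := by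
  obtain ⟨h1, h2, h3⟩ := hg
  have a0 := congrFun (congrFun h2 0) 0
  have a1 := congrFun (congrFun h2 1) 0
  have b0 := congrFun (congrFun h3 0) 0
  have b1 := congrFun (congrFun h3 0) 1
  have b2 := congrFun (congrFun h3 0) 2
  simp only [Matrix.mul_apply, Fin.sum_univ_three, JJ, Matrix.of_apply, mul_one, one_mul]
    at a0 a1 b0 b1 b2
  have e : M g = pm (M g 0 0) (M g 0 1) (M g 1 0) (M g 1 1) := by
    ext i k
    fin_cases i <;> fin_cases k <;> simp [pm]
    · linear_combination a0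
    · linear_combination a1
    · linear_combination b0
    · linear_combination b1
    · linear_combination b2 - a0 - a1
  have hk := M_ok g
  have h4 := congrFun (congrFun hk.1 0) 0
  simp only [Matrix.mul_apply, Fin.sum_univ_three, Matrix.transpose_apply, Matrix.map_apply,
    Matrix.one_apply_eq] at h4
  have h5 : M g 2 0 = 1 - M g 0 0 - M g 1 0 := by linear_combination b0
  rw [h5] at h4
  rcases enum _ _ h4 _ _ (e ▸ hk) with h | h | h | ⟨p, hp, h⟩ <;> rw [← e] at h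
  · exact Or.inl (ext' h h1)
  · exact Or.inr (Or.inl (ext' (h.trans Mr0.symm) h1))
  · exact Or.inr (Or.inr (Or.inl (r1_eq ▸ ext' (h.trans Mr1.symm) h1)))
  · refine Or.inr (Or.inr (Or.inr ⟨el p.2, ?_⟩))
    rw [eq_mul_inv_iff_mul_eq]
    refine ext' ?_ (by simp [h1, x0, r_el])
    rw [M_mul1 h1, M_mul1 (r_el _), M_el (lst_ok p hp).1, Mx0, h, (lst_ok p hp).2]

theorem oc {G : Type*} [Group G] (k a : G) : orderOf (k * a * k⁻¹) = orderOf a :=
  MulEquiv.orderOf_eq (MulAut.conj k) a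

theorem R3 {g : Gm} (hg : g ∈ RR) : g ^ 3 = 1 := by
  rcases cls hg with rfl | rfl | rfl | ⟨k, rfl⟩
  · simp
  · exact orderOf_dvd_iff_pow_eq_one.1 or0.dvd
  · exact orderOf_dvd_iff_pow_eq_one.1 ((orderOf_inv r0).trans or0).dvd
  · exact orderOf_dvd_iff_pow_eq_one.1 ((oc k x0).trans ox).dvd

theorem mr : mat 0x433343334 = 1 + T9.c 3 • JJ := by decide +kernel

theorem memR {g : Gm} (h1 : g.right = 1) (h2 : g * r0 = r0 * g) (h3 : g ^ 3 = 1) : g ∈ RR := by
  have h4 := congrArg M h2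
  rw [M_mul1 h1, M_mul1 (g := r0) rfl, Mr0, mr, Matrix.mul_add, Matrix.add_mul, Matrix.mul_one,
    Matrix.one_mul, Matrix.mul_smul, Matrix.smul_mul, add_right_inj] at h4
  have h5 : M g * JJ = JJ * M g :=
    smul_right_injective Mt (by decide +kernel : T9.c 3 ≠ 0) h4
  have h6 : M g * JJ = (M g * JJ) 0 0 • JJ := by
    ext i k
    have e1 : (M g * JJ) i k = (M g * JJ) i 0 := rfl
    have e2 : (JJ * M g) i 0 = (JJ * M g) 0 0 := rfl
    rw [e1, h5, e2]
    simp [JJ]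
  generalize (M g * JJ) 0 0 = μ at h6
  have h7 := congrArg (fun a => (M a * JJ) 0 0) h3
  have hJ : JJ 0 0 = 1 := rfl
  simp only [pow_three, M_mul1 h1, Matrix.mul_assoc, h6, Matrix.mul_smul, M_one, Matrix.one_mul,
    Matrix.smul_apply, smul_eq_mul, hJ, mul_one] at h7
  have h8 : μ = 1 := (by decide +kernel : ∀ μ : T9, μ * (μ * μ) = 1 → μ = 1) μ h7
  rw [h8, one_smul] at h6
  exact ⟨h1, h6, h5 ▸ h6⟩

/-- The codes of the elements of the Sylow subgroup. -/
def cd (i : Fin 27) : ℕ := (0x100010001 :: 0x433343334 :: 0x766676667 :: lst.map Prod.fst).getD i 0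

theorem cd_ok : (∀ i, ok (mat (cd i)) ∧ mat (cd i) * JJ = JJ ∧ JJ * mat (cd i) = JJ) ∧
    ∀ i j, mat (cd i) = mat (cd j) → i = j := ⟨by decide +kernel, by decide +kernel⟩

instance finGm : Finite Gm := Nat.finite_of_card_ne_zero (by rw [card_GamU33]; decide)

theorem syl : IsSylowIn 3 RR ⊤ := by
  have : Fact (Nat.Prime 3) := ⟨Nat.prime_three⟩
  obtain ⟨S, hS⟩ := exists_isSylowIn (p := 3) (⊤ : Subgroup Gm)
  refine hS.of_card_ge (fun g => ⟨1, Subtype.ext (by simpa using R3 g.2)⟩) le_top ?_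
  have h1 : Nat.card S = 27 := by
    rw [hS.card_eq, Subgroup.card_top, card_GamU33]
    have : (12096 : ℕ) = 3 ^ 3 * 448 := by norm_num
    rw [this, Nat.factorization_mul (by norm_num) (by norm_num), Nat.Prime.factorization_pow
      Nat.prime_three]
    simp [Nat.factorization_eq_zero_of_not_dvd (by norm_num : ¬ 3 ∣ 448)]
  let f : Fin 27 → RR := fun i => ⟨el (cd i), rfl, by
    rw [M_el (cd_ok.1 i).1]; exact (cd_ok.1 i).2⟩
  have h2 : Function.Injective f := fun i j h => cd_ok.2 i j (by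
    rw [← M_el (cd_ok.1 i).1, ← M_el (cd_ok.1 j).1]
    exact congrArg (fun a : RR => M a) h)
  simpa [h1] using Nat.card_le_card_of_injective f h2

theorem two3 {G : Type*} [Group G] {j : G} (h : ∃ n : ℕ, orderOf j = 2 ^ n) (h3 : j ^ 3 = 1) :
    j = 1 := by
  obtain ⟨n, hn⟩ := h
  have h1 := orderOf_dvd_of_pow_eq_one h3
  rw [← orderOf_eq_one_iff]
  have h2 : (orderOf j).Coprime 3 := hn ▸ Nat.Coprime.pow_left n (by norm_num)
  exact Nat.Coprime.eq_one_of_dvd h2 h1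

end NSU5

end Cfsg.Lib.K7
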