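import Cfsg.Agent.K7.NSU3
import Cfsg.Agent.K7.NSU5a
import Cfsg.Agent.Class.HermSimple

/-!
# A Sylow 2-subgroup and the derived group of `G₂(2)`
-/

set_option autoImplicit false

namespace Cfsg.Lib.K7.NSUSb

open Cfsg Subgroup Cfsg.Lib.Trans Cfsg.Lib.Gold Cfsg.Lib.Chev Cfsg.Lib.Class
open NSU3 NSU5

theorem t1 : ∀ r ∈ [6, 7, 8, 9, 10, 11], ∀ e < 64, ∃ k < 64, NSU3.pm (g2Ev [r]) (T e) = T k := by
  decide +kernel

theorem t2 : ∀ e < 64, ∀ f < 64, T e = T f → e = f := by decide +kernel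

theorem us : StUS := by
  have sq : ∀ r ∈ [6, 7, 8, 9, 10, 11], (g2Elt r)⁻¹ = g2Elt r := fun r hr => by
    have h : r < 12 := by simp at hr; omega
    have := g2_word_eq (l := [r, r]) (l' := []) (by simpa using h) (by simp) (g2_check.1 r h)
    exact inv_eq_of_mul_eq_one_right (by simpa using this)
  have st : ∀ r ∈ [6, 7, 8, 9, 10, 11], ∀ s, (∃ e < 64, s = sw e) → ∃ e < 64, g2Elt r * s = sw e := by
    rintro r hr s ⟨e, he, rfl⟩
    have h : r < 12 := by simp at hr; omega
    obtain ⟨k, hk, e1⟩ := t1 r hr e he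
    have a1 : R (g2Elt r) (g2Ev [r]) := by simpa using R.ev (l := [r]) (by simpa using h)
    exact ⟨k, hk, ((a1.mul (R.sw he)).eq_iff (R.sw hk)).2 e1⟩
  have mem : ∀ s, s ∈ closure {x | ∃ r ∈ [6, 7, 8, 9, 10, 11], x = g2Elt r} ↔ ∃ e < 64, s = sw e := by
    intro s
    constructor
    · intro hs
      induction hs using closure_induction_left with
      | one => exact ⟨0, by norm_num, by simp [sw, swL]⟩
      | mul_left x hx y _ ih => obtain ⟨r, hr, rfl⟩ := hx; exact st r hr y ih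
      | inv_mul_cancel x hx y _ ih => obtain ⟨r, hr, rfl⟩ := hx; rw [sq r hr]; exact st r hr y ih
    · rintro ⟨e, -, rfl⟩
      refine Subgroup.list_prod_mem _ fun x hx => ?_
      obtain ⟨r, hr, rfl⟩ := List.mem_map.1 hx
      exact subset_closure ⟨r, List.mem_of_mem_filter hr, rfl⟩
  refine ⟨_, ?_, mem⟩
  generalize closure {x | ∃ r ∈ [6, 7, 8, 9, 10, 11], x = g2Elt r} = S at mem
  have c : Nat.card S = 64 := by
    let f : Fin 64 → S := fun i => ⟨sw i, (mem _).2 ⟨i, i.2, rfl⟩⟩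
    have h : Function.Bijective f := ⟨fun i j h => Fin.ext (t2 i i.2 j j.2
      (((R.sw i.2).eq_iff (R.sw j.2)).1 (congrArg Subtype.val h))), fun s => by
        obtain ⟨e, he, h⟩ := (mem s).1 s.2
        exact ⟨⟨e, he⟩, Subtype.ext h.symm⟩⟩
    rw [← Nat.card_eq_of_bijective f h]; simp
  refine ⟨le_top, IsPGroup.of_card (n := 6) c, ?_⟩
  have := S.card_mul_index
  rw [c, card_GamU33] at this
  rw [relIndex_top_right]
  omega

theorem k1 : ok (mat 0x200020001) := by decide +kernel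

theorem u1 : StU1 := by
  have mem : ∀ a : Gm, a ∈ L0 ↔ a.right = 1 := fun a => by
    rw [L0, commutator_GamU33, SemidirectProduct.range_inl_eq_ker_rightHom]; rfl
  have e := psu33Equiv.trans su33Equiv
  have hK : Fintype.card T9 = 3 ^ 2 := by decide +kernel
  refine ⟨?_, ?_, mem, r0, (mem _).2 rfl, el 0x200020001 * r0 * (el 0x200020001)⁻¹,
    (mem _).2 (by simp [r_el, r0]), ⟨or0, j4, (mem _).2 rfl, oj, jr⟩,
    ⟨(NSU5.oc _ _).trans or0, el 0x200020001 * j4 * (el 0x200020001)⁻¹, (mem _).2 (by simp [r_el, j4]),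
      (NSU5.oc _ _).trans oj, ?_⟩, fun h => ?_⟩
  · have := L0.card_mul_index
    rw [← Nat.card_congr e.toEquiv, card_PSU33 hK, card_GamU33] at this
    omega
  · haveI := Form.isSimpleGroup_PSU hK 3 le_rfl (by omega)
    exact e.symm.isSimpleGroup
  · calc _ = el 0x200020001 * (j4 * r0) * (el 0x200020001)⁻¹ := by group
      _ = _ := by rw [jr]; group
  · have kk : (el 0x200020001)⁻¹ = el 0x200020001 := inv_eq_of_mul_eq_one_right (ext' (by
      rw [M_mul1 (r_el _), M_el k1, M_one]; decide +kernel) (by simp [r_el]))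
    have := congrArg NSU5.M h
    rw [kk, mul_assoc, mul_assoc, mul_assoc] at this
    simp only [M_mul1 (r_el _), M_mul1 (show r0.right = 1 from rfl), M_el k1, Mr0] at this
    revert this
    decide +kernel

end Cfsg.Lib.K7.NSUSb
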