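import Cfsg.Agent.K7.LocB
import Cfsg.Agent.K7.N3F
import Cfsg.Agent.Gold.Cm

/-!
# Simple groups of order `7 * 3 ^ a * 2 ^ b`: the module of order 64
-/

set_option autoImplicit false

namespace Cfsg.Lib.K7

open Cfsg Subgroup Cfsg.Lib.Trans Cfsg.Lib.Gold
open Cfsg.Lib.P8 (L32 V3 O2 Om Jt Phi EA SR4 Ch E9 Pj Ty Sec SecOK Mx Crd)
open Cfsg.Lib.K35 (PSL Alt A3 NC)
open scoped commutatorElement

universe u

namespace NSV6

theorem m1 : ∀ s t : L32, (s.1 1 0 = 0 ∧ s.1 2 0 = 0 ∧ s.1 2 1 = 0) → s * s = 1 → s ≠ 1 →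
    (t.1 1 0 = 0 ∧ t.1 2 0 = 0 ∧ t.1 2 1 = 0) → t * t = 1 → t ≠ 1 → s ≠ t →
    (∀ v : V3, s.1.mulVec v = v ↔ t.1.mulVec v = v) → s.1 0 1 = 0 ∧ t.1 0 1 = 0 := by decide +kernel

set_option synthInstance.maxSize 2000 in
set_option synthInstance.maxHeartbeats 400000 in
theorem m2 : ∀ s : L32, (s.1 1 0 = 0 ∧ s.1 2 0 = 0 ∧ s.1 2 1 = 0 ∧ s.1 0 1 = 0) → s ≠ 1 → ∀ t : L32,
    (t.1 1 0 = 0 ∧ t.1 2 0 = 0 ∧ t.1 2 1 = 0 ∧ t.1 0 1 = 0) → t ≠ 1 → s ≠ t → ∀ m : L32,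
    (m.1 1 0 = 0 ∧ m.1 2 0 = 0 ∧ m.1 2 1 = 0 ∧ m.1 0 1 = 0) → m = 1 ∨ m = s ∨ m = t ∨ m = s * t := by
  decide +kernel

set_option synthInstance.maxSize 2000 in
set_option synthInstance.maxHeartbeats 400000 in
theorem m3 : ∀ s : L32, (s.1 1 0 = 0 ∧ s.1 2 0 = 0 ∧ s.1 2 1 = 0) → s * s ≠ 1 →
    s * s * (s * s) = 1 ∧ ∃ v : V3, (s * s).1.mulVec v = v ∧ s.1.mulVec v ≠ v := by decide +kernel

theorem m4 : ∀ s : L32, (s.1 1 0 = 0 ∧ s.1 2 0 = 0 ∧ s.1 2 1 = 0 ∧ s.1 0 1 = 0) → s ≠ 1 →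
    ∀ v : V3, s.1.mulVec v = v ↔ v 2 = 0 := by decide +kernel

def X2 : L32 := ⟨!![0, 1, 0; 1, 1, 0; 0, 0, 1], by decide⟩

theorem m5 : ∀ s : L32, (s.1 1 0 = 0 ∧ s.1 2 0 = 0 ∧ s.1 2 1 = 0 ∧ s.1 0 1 = 0) →
    ∃ t : L32, (t.1 1 0 = 0 ∧ t.1 2 0 = 0 ∧ t.1 2 1 = 0 ∧ t.1 0 1 = 0) ∧ X2 * s = t * X2 := by decide +kernel

theorem m6 : ∀ v : V3, v 2 = 0 → ∃ s : L32, (s.1 1 0 = 0 ∧ s.1 2 0 = 0 ∧ s.1 2 1 = 0 ∧ s.1 0 1 = 0) ∧
    ![0, 0, 1] + s.1.mulVec ![0, 0, 1] = v := by decide +kernel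

theorem m7 : ∀ x : ZMod 2, (x + 1 = 0 ∧ ¬ x = 0) ∨ (x = 0 ∧ ¬ x + 1 = 0) := by decide

theorem oX : orderOf X2 = 3 :=
  haveI : Fact (Nat.Prime 3) := ⟨by norm_num⟩
  orderOf_eq_prime (by decide +kernel) (by decide +kernel)

variable {G : Type u} [Group G]

theorem crel (K H : Subgroup G) (h : K ≤ H) : Nat.card K * K.relIndex H = Nat.card H := by
  rw [relIndex, ← (K.subgroupOf H).card_mul_index, Nat.card_congr (subgroupOfEquivOfLe h).toEquiv]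

theorem idx2 {K H : Subgroup G} (h : K.relIndex H = 2) {a b : G} (ha : a ∈ H) (hb : b ∈ H)
    (e : a ∈ K ↔ b ∈ K) : a * b ∈ K :=
  (mul_mem_iff_of_index_two (H := K.subgroupOf H) h (a := ⟨a, ha⟩) (b := ⟨b, hb⟩)).2 e

theorem cjm {K : Subgroup G} {x a : G} (hx : x ∈ Ns K) : x * a * x⁻¹ ∈ K ↔ a ∈ K :=
  ((mem_normalizer_iff.1 hx) a).symm

theorem cm2 {K H : Subgroup G} (h : K.relIndex H = 2) {x a : G} (hK : x ∈ Ns K) (hH : x ∈ Ns H) (ha : a ∈ H) :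
    ⁅a, x⁆ ∈ K := by
  have : ⁅a, x⁆ = a * (x * a⁻¹ * x⁻¹) := by rw [commutatorElement_def]; group
  rw [this]
  exact idx2 h ha ((cjm hH).2 (inv_mem ha)) (by rw [cjm hK, inv_mem_iff])

theorem nrm {N U : Subgroup G} (ea : EA U) (le : N ≤ U) {x v : G} (h3 : x ^ 3 = 1) (hN : x ∈ Ns N)
    (hd : ⁅v, x⁆ ∈ U) (hc : ⁅⁅v, x⁆, x⁆ ∈ N) : ⁅v, x⁆ ∈ N := by
  have cm : ∀ a ∈ U, ∀ b ∈ U, a * b = b * a := fun a ha b hb =>
    congrArg Subtype.val (ea.1.is_comm.comm (⟨a, ha⟩ : U) ⟨b, hb⟩)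
  have e0 : ⁅v, x⁆ * (x * ⁅v, x⁆ * x⁻¹) * (x * (x * ⁅v, x⁆ * x⁻¹) * x⁻¹) = 1 := by
    have : ⁅v, x⁆ * (x * ⁅v, x⁆ * x⁻¹) * (x * (x * ⁅v, x⁆ * x⁻¹) * x⁻¹) = v * x ^ 3 * v⁻¹ * (x ^ 3)⁻¹ := by
      simp only [commutatorElement_def, pow_succ, pow_zero]; group
    rw [this, h3]; group
  generalize ⁅v, x⁆ = d at *
  have d2 : d * d = 1 := by rw [← sq]; exact ea.2 d hd
  set n := ⁅d, x⁆⁻¹ with hn
  have nN : n ∈ N := inv_mem hc
  have e1 : x * d * x⁻¹ = n * d := by rw [hn, commutatorElement_def]; group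
  have n'N : x * n * x⁻¹ ∈ N := (cjm hN).2 nN
  have e2 : x * (n * d) * x⁻¹ = (x * n * x⁻¹) * (n * d) := by
    have : x * (n * d) * x⁻¹ = (x * n * x⁻¹) * (x * d * x⁻¹) := by group
    rw [this, e1]
  rw [e1, e2] at e0
  generalize x * n * x⁻¹ = n' at *
  have e3 : d * (n * n' * n) = 1 := by
    have c1 := cm d hd (n' * n) (le (mul_mem n'N nN))
    calc d * (n * n' * n) = d * (n * (n' * n) * (d * d)) := by rw [d2]; group
      _ = d * (n * ((n' * n) * d) * d) := by group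
      _ = d * (n * d) * (n' * (n * d)) := by rw [← c1]; group
      _ = 1 := e0
  rw [eq_inv_of_mul_eq_one_left e3]
  exact inv_mem (mul_mem (mul_mem nN n'N) nN)

/-- The subgroup generated by `N` and `k`. -/
def ad {N U : Subgroup G} (ea : EA U) (le : N ≤ U) {k : G} (hk : k ∈ U) : Subgroup G where
  carrier := {a | a ∈ N ∨ a * k ∈ N}
  one_mem' := Or.inl N.one_mem
  mul_mem' := by
    have cm : ∀ a ∈ U, ∀ b ∈ U, a * b = b * a := fun a ha b hb =>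
      congrArg Subtype.val (ea.1.is_comm.comm (⟨a, ha⟩ : U) ⟨b, hb⟩)
    have k2 : k * k = 1 := by rw [← sq]; exact ea.2 k hk
    have mU : ∀ a, a * k ∈ N → a ∈ U := fun a h => by simpa using mul_mem (le h) (inv_mem hk)
    rintro a b (ha | ha) (hb | hb)
    · exact Or.inl (mul_mem ha hb)
    · exact Or.inr (by rw [mul_assoc]; exact mul_mem ha hb)
    · exact Or.inr (by rw [mul_assoc, cm b (le hb) k hk, ← mul_assoc]; exact mul_mem ha hb)
    · refine Or.inl ?_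
      have : a * b = a * k * (b * k) := by
        rw [cm b (mU b hb) k hk, mul_assoc, ← mul_assoc k, k2, one_mul]
      rw [this]; exact mul_mem ha hb
  inv_mem' := by
    have mU : ∀ a, a * k ∈ N → a ∈ U := fun a h => by simpa using mul_mem (le h) (inv_mem hk)
    rintro a (ha | ha)
    · exact Or.inl (inv_mem ha)
    · have a2 : a * a = 1 := by rw [← sq]; exact ea.2 a (mU a ha)
      exact Or.inr (by rwa [inv_eq_of_mul_eq_one_right a2])

theorem ad_le {N U K : Subgroup G} (ea : EA U) (le : N ≤ U) {k : G} (hk : k ∈ U) (h1 : N ≤ K) (h2 : k ∈ K) :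
    ad ea le hk ≤ K := by
  rintro a (ha | ha)
  · exact h1 ha
  · simpa using mul_mem (h1 ha) (inv_mem h2)

theorem ad_idx {N U : Subgroup G} (ea : EA U) (le : N ≤ U) {k : G} (hk : k ∈ U) (hn : k ∉ N) :
    N.relIndex (ad ea le hk) = 2 := by
  have k2 : k * k = 1 := by rw [← sq]; exact ea.2 k hk
  refine relIndex_eq_two_iff.2 ⟨k, Or.inr (by rw [k2]; exact N.one_mem), ?_⟩
  have no : ∀ b, b ∈ N → b * k ∉ N := fun b hb h => hn (by simpa using mul_mem (inv_mem hb) h)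
  rintro b (hb | hb)
  · exact Or.inr ⟨hb, no b hb⟩
  · exact Or.inl ⟨hb, fun h => no b h hb⟩

theorem four [Finite G] {N U : Subgroup G} (ea : EA U) (le : N ≤ U) (h4 : N.relIndex U = 4) {x k : G}
    (h3 : x ^ 3 = 1) (hN : x ∈ Ns N) (hU : x ∈ Ns U) (hk : k ∈ U) (hn : k ∉ N) (hc : ⁅k, x⁆ ∈ N) :
    ∀ f ∈ U, ⁅f, x⁆ ∈ N := by
  intro f hf
  have cm : ∀ a ∈ U, ∀ b ∈ U, a * b = b * a := fun a ha b hb =>
    congrArg Subtype.val (ea.1.is_comm.comm (⟨a, ha⟩ : U) ⟨b, hb⟩)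
  have l1 : N ≤ ad ea le hk := fun a ha => Or.inl ha
  have l2 : ad ea le hk ≤ U := ad_le ea le hk le hk
  have i2 : (ad ea le hk).relIndex U = 2 := by
    have := relIndex_mul_relIndex _ _ _ l1 l2
    rw [ad_idx ea le hk hn, h4] at this
    omega
  have e1 : x * k * x⁻¹ = ⁅k, x⁆⁻¹ * k := by rw [commutatorElement_def]; group
  have cK : ∀ a ∈ ad ea le hk, ⁅a, x⁆ ∈ N := by
    rintro a (ha | ha)
    · have : ⁅a, x⁆ = a * (x * a⁻¹ * x⁻¹) := by rw [commutatorElement_def]; group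
      rw [this]; exact mul_mem ha ((cjm hN).2 (inv_mem ha))
    · have aU : a ∈ U := l2 (Or.inr ha)
      have : ⁅a, x⁆ = a * (x * k * x⁻¹) * (x * (a * k)⁻¹ * x⁻¹) := by rw [commutatorElement_def]; group
      rw [this, e1, cm _ (inv_mem (le hc)) k hk, ← mul_assoc a]
      exact mul_mem (mul_mem ha (inv_mem hc)) ((cjm hN).2 (inv_mem ha))
  have nK : x ∈ Ns (ad ea le hk) := by
    refine mem_normalizer_of_cj_le (cj_le_iff.2 fun a ha => ?_)
    have : x * a * x⁻¹ = ⁅a, x⁆⁻¹ * a := by rw [commutatorElement_def]; group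
    rw [this]
    exact mul_mem (l1 (inv_mem (cK a ha))) ha
  have := cm2 i2 nK hU hf
  exact nrm ea le h3 hN (l2 this) (cK _ this)

end NSV6

open NSV6 P8.PjBH in
theorem v6 (hDp : StDp.{u}) : StV6.{u} := by
  intro G _ _ M S₀ W g π c z hL hS hne
  obtain ⟨nb, no, ty, leW, nW, crd, memS, -, -⟩ := hL
  have pj : Pj M (O2 M) π := ty.toPj
  have nV : M ≤ Ns (Om (O2 M)) := no.nV.ge
  have leT : Om (O2 M) ≤ O2 M := fun v hv => ((no.memV v).1 hv).1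
  have cT : ∀ v ∈ Om (O2 M), ∀ t ∈ O2 M, t * v = v * t := fun v hv t ht =>
    mem_C1.1 (((no.memV v).1 hv).2.2 ht)
  have ea := no.ea
  have fp := no.fp
  obtain ⟨A, AS, eA, nA, off⟩ := no.off
  obtain ⟨y0, hy0, oy0⟩ := no.ex
  have SM : S₀ ≤ M := fun s hs => ((memS s).1 hs).1
  have TM := pj.le
  have two := pj.two
  clear no nb
  generalize hV : Om (O2 M) = V at *
  generalize hT : O2 M = T at *
  have cm : ∀ a ∈ V, ∀ b ∈ V, a * b = b * a := fun a ha b hb => cT b hb a (leT ha)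
  have V2 : IsPGroup 2 V := two.to_le leT
  have fpV : ∀ y ∈ M, orderOf y = 7 → V ⊓ C1 y = ⊥ := fun y hy oy =>
    eq_bot_iff.2 ((inf_le_inf_right _ leT).trans (fp y hy oy).le)
  have p7 : Nat.Prime 7 := by norm_num
  have c64 : 64 ≤ Nat.card V := by
    have h1 := (hDp G M W V y0 7 p7 (by norm_num) V2 leW (leT.trans TM) nW nV hy0 oy0 (fpV _ hy0 oy0)).1
    have h2 := crel W V leW
    have h3 : W.relIndex V ≠ 1 := fun e => hne (le_antisymm (relIndex_eq_one.1 e) leW)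
    rw [hS.cW] at h2
    unfold Nat.ModEq at h1
    omega
  have cube : ∀ a ∈ M, a ∉ T → a * a ∈ T → Nat.card V ≤ (V ⊓ C1 a).relIndex V ^ 3 := by
    intro a ha hn h2
    obtain ⟨m₁, hm₁, m₂, hm₂, y, hy, oy⟩ := hS.tri a ha (hT ▸ hn) (hT ▸ h2)
    have yM : y ∈ M := (closure_le M).2 (by
      rintro _ (rfl | rfl | rfl)
      · exact ha
      · exact mul_mem (mul_mem hm₁ ha) (inv_mem hm₁)
      · exact mul_mem (mul_mem hm₂ ha) (inv_mem hm₂)) hy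
    have := (hDp G M ⊥ V y 7 p7 (by norm_num) V2 bot_le (leT.trans TM) (fun _ _ => le_normalizer_of_normal (mem_top _)) nV yM oy
      (fpV _ yM oy)).2.1 3 a ![1, m₁, m₂] ha (fun i => by fin_cases i <;> simp [hm₁, hm₂])
      (closure_mono (by
        rintro _ (rfl | rfl | rfl)
        · exact ⟨0, by simp⟩
        · exact ⟨1, by simp⟩
        · exact ⟨2, by simp⟩) hy) (V ⊓ C1 a) bot_le inf_le_left (fun d hd => by
          rw [mem_bot, commutatorElement_eq_one_iff_mul_comm]; exact mem_C1.1 hd.2)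
    rwa [relIndex_bot_left] at this
  have inv4 : ∀ a ∈ M, a ∉ T → a * a ∈ T → 4 ≤ (V ⊓ C1 a).relIndex V := by
    intro a ha hn h2
    by_contra h
    have := (cube a ha hn h2).trans (Nat.pow_le_pow_left (show _ ≤ 3 by omega) 3)
    omega
  have fin0 : ∀ K : Subgroup G, K.relIndex V ≠ 0 := fun K => (K.subgroupOf V).index_ne_zero_of_finite
  -- all involutions modulo `T` of a subgroup with small index have the same centralizer
  have same : ∀ E : Subgroup G, E ≤ M → (V ⊓ Cs E).relIndex V ≤ 4 → ∀ e ∈ E, e ∉ T → e * e ∈ T →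
      V ⊓ C1 e = V ⊓ Cs E ∧ (V ⊓ C1 e).relIndex V = 4 := by
    intro E EM h4 e he hn h2
    have l : V ⊓ Cs E ≤ V ⊓ C1 e := inf_le_inf_left _ (Cs_le_C1 he)
    have a1 := inv4 e (EM he) hn h2
    have a2 := relIndex_mul_relIndex _ _ _ l (inf_le_left : V ⊓ C1 e ≤ V)
    have a3 := fin0 (V ⊓ Cs E)
    have a4 : (V ⊓ Cs E).relIndex (V ⊓ C1 e) = 1 := by
      rcases hr : (V ⊓ Cs E).relIndex (V ⊓ C1 e) with _ | _ | r
      · rw [hr] at a2; omega
      · rfl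
      · rw [hr] at a2; nlinarith
    rw [a4] at a2
    exact ⟨le_antisymm (relIndex_eq_one.1 a4) l, by omega⟩
  have cW : ∀ e ∈ M, ∀ w ∈ W, (w ∈ C1 e ↔ (π e).1.mulVec (c w) = c w) := by
    intro e he w hw
    have w' : e * w * e⁻¹ ∈ W := (cjm (nW he)).2 hw
    have w2 : w * w = 1 := by rw [← sq]; exact ea.2 w (leW hw)
    rw [mem_C1, ← crd.eqv e he w hw]
    constructor
    · intro h; rw [← h]; simp
    · intro h
      have : c (e * w * e⁻¹ * w) = 0 := by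
        rw [crd.add _ w' _ hw, h, ← crd.add _ hw _ hw, w2]; exact (crd.zero 1 W.one_mem).2 rfl
      have := (crd.zero _ (mul_mem w' hw)).1 this
      calc w * e = (e * w * e⁻¹ * w) * (w * e) := by rw [this, one_mul]
        _ = e * w * e⁻¹ * (w * w) * e := by group
        _ = e * w := by rw [w2]; group
  have ker : ∀ a ∈ M, π a ≠ 1 ↔ a ∉ T := fun a ha => not_congr (pj.ker a ha)
  have axis : ∀ E : Subgroup G, E ≤ S₀ → T.relIndex E = 4 → (V ⊓ Cs E).relIndex V ≤ 4 →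
      (∀ e ∈ E, inB (π e)) ∧ ∀ m, inB m → ∃ e ∈ E, π e = m := by
    intro E ES h4 hi
    have EM := ES.trans SM
    have sqT : ∀ e ∈ E, e * e ∈ T := by
      intro e he
      by_contra h
      have pe := pj.mul e (EM he) e (EM he)
      have ee := EM (mul_mem he he)
      obtain ⟨a1, v, a2, a3⟩ := m3 (π e) ((memS e).1 (ES he)).2 (pe ▸ (ker _ ee).2 h)
      obtain ⟨w, hw, rfl⟩ := crd.sur v
      have b1 := (same E EM hi _ (mul_mem he he) h ((pj.ker _ (mul_mem ee ee)).1 (by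
        rw [pj.mul _ ee _ ee, pe, a1]))).1
      have b2 : w ∈ V ⊓ Cs E := b1 ▸ ⟨leW hw, (cW _ ee w hw).2 (pe ▸ a2)⟩
      exact a3 ((cW e (EM he) w hw).1 (Cs_le_C1 he b2.2))
    have two' : ∀ e ∈ E, e ∉ T → ∃ f ∈ E, f ∉ T ∧ π e ≠ π f := by
      intro e he hn
      by_contra h
      push Not at h
      have : T.relIndex E = 2 := relIndex_eq_two_iff.2 ⟨e, he, fun b hb => by
        by_cases hb' : b ∈ T
        · exact Or.inr ⟨hb', fun h' => hn (by simpa using mul_mem (inv_mem hb') h')⟩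
        · refine Or.inl ⟨(pj.ker _ (EM (mul_mem hb he))).1 ?_, hb'⟩
          rw [pj.mul _ (EM hb) _ (EM he), ← h b hb hb', ← pj.mul _ (EM he) _ (EM he)]
          exact (pj.ker _ (EM (mul_mem he he))).2 (sqT e he)⟩
      omega
    have key : ∀ e ∈ E, e ∉ T → ∀ f ∈ E, f ∉ T → π e ≠ π f → inB (π e) ∧ inB (π f) := by
      intro e he hn f hf hn' ne
      have s1 : ∀ a ∈ E, π a * π a = 1 := fun a ha => by
        rw [← pj.mul _ (EM ha) _ (EM ha)]; exact (pj.ker _ (EM (mul_mem ha ha))).2 (sqT a ha)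
      have u1 := ((memS e).1 (ES he)).2
      have u2 := ((memS f).1 (ES hf)).2
      have := m1 _ _ u1 (s1 e he) ((ker e (EM he)).2 hn) u2 (s1 f hf) ((ker f (EM hf)).2 hn') ne fun v => by
        obtain ⟨w, hw, rfl⟩ := crd.sur v
        rw [← cW e (EM he) w hw, ← cW f (EM hf) w hw]
        have a1 := (same E EM hi e he hn (sqT e he)).1.trans (same E EM hi f hf hn' (sqT f hf)).1.symm
        exact ⟨fun h => (a1.le ⟨leW hw, h⟩).2, fun h => (a1.ge ⟨leW hw, h⟩).2⟩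
      exact ⟨⟨u1.1, u1.2.1, u1.2.2, this.1⟩, ⟨u2.1, u2.2.1, u2.2.2, this.2⟩⟩
    refine ⟨fun e he => ?_, fun m hm => ?_⟩
    · by_cases hn : e ∈ T
      · rw [(pj.ker e (EM he)).2 hn]; exact ⟨rfl, rfl, rfl, rfl⟩
      · obtain ⟨f, hf, hn', ne⟩ := two' e he hn
        exact (key e he hn f hf hn' ne).1
    · obtain ⟨e, he, hn⟩ : ∃ e ∈ E, e ∉ T := by
        by_contra h
        push Not at h
        have := relIndex_eq_one.2 (show E ≤ T from h)
        omega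
      obtain ⟨f, hf, hn', ne⟩ := two' e he hn
      obtain ⟨k1, k2⟩ := key e he hn f hf hn' ne
      rcases m2 _ k1 ((ker e (EM he)).2 hn) _ k2 ((ker f (EM hf)).2 hn') ne m hm with h | h | h | h
      · exact ⟨1, E.one_mem, (one pj).trans h.symm⟩
      · exact ⟨e, he, h.symm⟩
      · exact ⟨f, hf, h.symm⟩
      · exact ⟨e * f, mul_mem he hf, (pj.mul _ (EM he) _ (EM hf)).trans h.symm⟩
  have AM := AS.trans SM
  have rk := hT ▸ hS.rk A AM eA
  have A2 : ∀ a ∈ A, a * a ∈ T := fun a ha => by rw [← sq, eA.2 a ha]; exact T.one_mem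
  obtain ⟨a0, ha0, hn0⟩ : ∃ a ∈ A, a ∉ T := by
    by_contra h
    push Not at h
    exact nA h
  obtain ⟨F0, i0⟩ := same A AM (off.trans rk) a0 ha0 hn0 (A2 a0 ha0)
  have card : Nat.card V = 64 := by
    have := cube a0 (AM ha0) hn0 (A2 a0 ha0)
    rw [i0] at this
    omega
  have iA : T.relIndex A = 4 := by rw [← F0, i0] at off; omega
  obtain ⟨aB, aS⟩ := axis A AS iA (off.trans rk)
  have eqc : ∀ a ∈ M, ∀ b ∈ M, π a = π b → ∀ v ∈ V, a * v * a⁻¹ = b * v * b⁻¹ := by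
    intro a ha b hb e v hv
    have := cT v hv _ ((eq_iff pj ha hb).1 e)
    calc a * v * a⁻¹ = a * (v * (a⁻¹ * b)) * b⁻¹ := by group
      _ = b * v * b⁻¹ := by rw [← this]; group
  have fix : ∀ a ∈ M, inB (π a) → a ∉ T → V ⊓ C1 a = V ⊓ Cs A := by
    intro a ha hB hn
    obtain ⟨b, hb, e⟩ := aS _ hB
    have hn' : b ∉ T := (ker b (AM hb)).1 (e ▸ (ker a ha).2 hn)
    rw [← (same A AM (off.trans rk) b hb hn' (A2 b hb)).1]
    ext v
    simp only [mem_inf, mem_C1]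
    refine and_congr_right fun hv => ?_
    have := eqc b (AM hb) a ha e v hv
    rw [eq_comm, ← mul_inv_eq_iff_eq_mul, ← this, mul_inv_eq_iff_eq_mul, eq_comm]
  rw [F0] at i0
  have leF : V ⊓ Cs A ≤ V := inf_le_left
  have cA : ∀ a ∈ A, V ⊓ Cs A ≤ C1 a := fun a ha => inf_le_right.trans (Cs_le_C1 ha)
  generalize V ⊓ Cs A = F at *
  have cF : Nat.card F = 16 := by
    have := crel F V leF
    rw [i0, card] at this
    omega
  have memF : ∀ w ∈ W, w ∈ F ↔ c w 2 = 0 := fun w hw => by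
    rw [← m4 _ (aB a0 ha0) ((ker a0 (AM ha0)).2 hn0), ← cW a0 (AM ha0) w hw, ← F0]
    exact ⟨fun h => h.2, fun h => ⟨leW hw, h⟩⟩
  obtain ⟨w2, hw2, cw2⟩ := crd.sur ![0, 0, 1]
  have nw2 : w2 ∉ F := fun h => by
    have := (memF w2 hw2).1 h
    rw [cw2] at this
    exact absurd this (by decide)
  have iW : (W ⊓ F).relIndex W = 2 := relIndex_eq_two_iff.2 ⟨w2, hw2, fun b hb => by
    have a1 : b * w2 ∈ W ⊓ F ↔ c b 2 + 1 = 0 := by
      rw [mem_inf, memF _ (mul_mem hb hw2), crd.add _ hb _ hw2, cw2]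
      exact ⟨fun h => h.2, fun h => ⟨mul_mem hb hw2, h⟩⟩
    have a2 : b ∈ W ⊓ F ↔ c b 2 = 0 := by
      rw [mem_inf, memF _ hb]
      exact ⟨fun h => h.2, fun h => ⟨hb, h⟩⟩
    rw [a1, a2]
    exact m7 _⟩
  have cWF : Nat.card ↥(W ⊓ F) = 4 := by
    have := crel (W ⊓ F) W inf_le_left
    rw [iW, hS.cW] at this
    omega
  have tx : ∀ x ∈ M, orderOf x = 3 → x ∈ Ns F → ∀ v ∈ V, ⁅v, x⁆ ∈ F := fun x hx ox hF =>
    four ea leF i0 (ox ▸ pow_orderOf_eq_one x) hF (nV hx) (leW hw2) nw2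
      (cm2 iW (mem_Ns_inf (nW hx) hF) (nW hx) hw2).2
  have cdef : ∀ v a : G, ⁅v, a⁆ = v * (a * v⁻¹ * a⁻¹) := fun v a => by rw [commutatorElement_def]; group
  have qw := hT ▸ hS.qw W V leW (hT ▸ leT) nW nV
  refine ⟨F, ?_⟩
  subst hT
  suffices big : ∀ E : Subgroup G, E ≤ S₀ → (O2 M).relIndex E = 4 → (V ⊓ Cs E).relIndex V ≤ 4 →
      (∀ e ∈ E, inB (π e)) ∧ ⁅V, E⁆ = F by
    subst hV; exact ⟨card, cF, leF, inv4, fix, big, tx⟩
  intro E ES h4 hi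
  obtain ⟨eB, eS⟩ := axis E ES h4 hi
  refine ⟨eB, ?_⟩
  have EM := ES.trans SM
  have gen : ∀ a ∈ M, inB (π a) → ∀ v ∈ V, ⁅v, a⁆ ∈ ⁅V, E⁆ := fun a ha hB v hv => by
    obtain ⟨e, he, h⟩ := eS _ hB
    rw [cdef, ← eqc e (EM he) a ha h _ (inv_mem hv), ← cdef]
    exact commutator_mem_commutator hv he
  have KF : ⁅V, E⁆ ≤ F := commutator_le.2 fun v hv e he => by
    obtain ⟨a, ha, h⟩ := aS _ (eB e he)
    have v2 : v⁻¹ = v := inv_eq_of_mul_eq_one_right (by rw [← sq]; exact ea.2 v hv)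
    have hv' : a * v * a⁻¹ ∈ V := (cjm (nV (AM ha))).2 hv
    rw [cdef, ← eqc a (AM ha) e (EM he) h _ (inv_mem hv), v2]
    by_cases hn : a ∈ O2 M
    · rw [cT v hv a hn, mul_inv_cancel_right, ← sq, ea.2 v hv]; exact F.one_mem
    · rw [← fix a (AM ha) (aB a ha) hn]
      refine ⟨mul_mem hv hv', mem_C1.2 ?_⟩
      have a2 : a⁻¹ = a := inv_eq_of_mul_eq_one_right (by rw [← sq]; exact eA.2 a ha)
      have a3 : a * a = 1 := by rw [← sq]; exact eA.2 a ha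
      have := cm v hv _ hv'
      rw [a2] at this ⊢
      calc v * (a * v * a) * a = v * a * v * (a * a) := by group
        _ = (a * a) * v * a * v := by rw [a3]; group
        _ = a * (a * v * a * v) := by group
        _ = a * (v * (a * v * a)) := by rw [this]
  have WK : W ⊓ F ≤ ⁅V, E⁆ := fun w hw => by
    obtain ⟨s, hs, e⟩ := m6 (c w) ((memF w hw.1).1 hw.2)
    obtain ⟨a, ha, rfl⟩ := pj.sur s
    have v2 : w2⁻¹ = w2 := inv_eq_of_mul_eq_one_right (by rw [← sq]; exact ea.2 w2 (leW hw2))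
    have h1 := gen a ha hs w2 (leW hw2)
    rw [cdef, v2] at h1
    have h2 : a * w2 * a⁻¹ ∈ W := (cjm (nW ha)).2 hw2
    have h3 : c (w2 * (a * w2 * a⁻¹) * w) = 0 := by
      rw [crd.add _ (mul_mem hw2 h2) _ hw.1, crd.add _ hw2 _ h2, crd.eqv a ha w2 hw2, cw2, e,
        ← crd.add _ hw.1 _ hw.1, ← sq, ea.2 w (leW hw.1)]
      exact (crd.zero 1 W.one_mem).2 rfl
    have h4 := (crd.zero _ (mul_mem (mul_mem hw2 h2) hw.1)).1 h3
    rw [eq_inv_of_mul_eq_one_right h4]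
    exact inv_mem h1
  obtain ⟨k, hk, kW⟩ : ∃ k ∈ ⁅V, E⁆, k ∉ W := by
    by_contra h
    push Not at h
    refine hne (le_antisymm (qw a0 (AM ha0) hn0 (commutator_le.2 fun v hv b hb => h _ ?_)) leW)
    have bA : b ∈ A := (zpowers_le.2 ha0) hb
    exact gen b (AM bA) (aB b bA) v hv
  obtain ⟨x, hx, px, ox⟩ := N3.lift pj X2 (by rw [oX]; decide)
  rw [oX] at ox
  have cjB : ∀ a ∈ M, inB (π a) → inB (π (x * a * x⁻¹)) := fun a ha hB => by
    obtain ⟨t, ht, e⟩ := m5 _ hB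
    rw [pj.mul _ (mul_mem hx ha) _ (inv_mem hx), pj.mul _ hx _ ha, inv pj hx, px, e, mul_inv_cancel_right]
    exact ht
  have xK : x ∈ Ns ⁅V, E⁆ := by
    refine mem_normalizer_of_cj_le ?_
    rw [Trans.cj, map_commutator]
    refine commutator_le.2 ?_
    rintro _ ⟨v, hv, rfl⟩ _ ⟨e, he, rfl⟩
    exact gen _ (mul_mem (mul_mem hx (EM he)) (inv_mem hx)) (cjB e (EM he) (eB e he)) _ ((cjm (nV hx)).2 hv)
  have xF : x ∈ Ns F := by
    refine mem_normalizer_of_cj_le (cj_le_iff.2 fun f hf => ?_)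
    have am : x * a0 * x⁻¹ ∈ M := mul_mem (mul_mem hx (AM ha0)) (inv_mem hx)
    rw [← fix _ am (cjB a0 (AM ha0) (aB a0 ha0)) fun h => hn0 ((cjm (nor pj hx)).1 h)]
    refine ⟨(cjm (nV hx)).2 (leF hf), mem_C1.2 ?_⟩
    have := mem_C1.1 (cA a0 ha0 hf)
    calc x * f * x⁻¹ * (x * a0 * x⁻¹) = x * (f * a0) * x⁻¹ := by group
      _ = x * a0 * x⁻¹ * (x * f * x⁻¹) := by rw [this]; group
  have eF : EA F := ⟨⟨⟨fun a b => Subtype.ext (cm _ (leF a.2) _ (leF b.2))⟩⟩, fun a ha => ea.2 a (leF ha)⟩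
  have x3 : x ^ 3 = 1 := ox ▸ pow_orderOf_eq_one x
  have i4 : (W ⊓ F).relIndex F = 4 := by
    have := crel (W ⊓ F) F inf_le_right
    rw [cWF, cF] at this
    omega
  have nk : ⁅k, x⁆ ∉ W ⊓ F := by
    intro h
    have a1 := four eF inf_le_right i4 x3 (mem_Ns_inf (nW hx) xF) xF (KF hk) (fun h => kW h.1) h
    have a2 : ∀ v ∈ V, ⁅v, x⁆ ∈ W := fun v hv =>
      nrm ea leW x3 (nW hx) (leF (tx x hx ox xF v hv)) (a1 _ (tx x hx ox xF v hv)).1
    have nx : x ∉ O2 M := (ker x hx).1 (by rw [px]; decide +kernel)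
    refine hne (le_antisymm (qw x hx nx (commutator_le.2 fun v hv b hb => ?_)) leW)
    obtain ⟨n, rfl⟩ := (mem_powers_iff_mem_zpowers).2 hb
    induction n with
    | zero => simp
    | succ n ih =>
      have : ⁅v, x ^ (n + 1)⁆ = ⁅v, x⁆ * (x * ⁅v, x ^ n⁆ * x⁻¹) := by
        simp only [commutatorElement_def]; group
      change ⁅v, x ^ (n + 1)⁆ ∈ W
      rw [this]
      exact mul_mem (a2 v hv) ((cjm (nW hx)).2 (ih (pow_mem (mem_zpowers x) n)))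
  have l1 : ad eF (inf_le_right : W ⊓ F ≤ F) (KF hk) ≤ ⁅V, E⁆ := ad_le _ _ _ WK hk
  have kx : x * k⁻¹ * x⁻¹ ∈ ⁅V, E⁆ := (cjm xK).2 (inv_mem hk)
  have n1 : x * k⁻¹ * x⁻¹ ∉ ad eF (inf_le_right : W ⊓ F ≤ F) (KF hk) := by
    rintro (h | h)
    · exact kW (inv_mem_iff.1 ((cjm (nW hx)).1 h.1))
    · refine nk ?_
      rwa [cdef, cm k (leF (KF hk)) _ (leF (KF kx))]
  have c8 : Nat.card (ad eF (inf_le_right : W ⊓ F ≤ F) (KF hk)) = 8 := by
    have := crel (W ⊓ F) (ad eF (inf_le_right : W ⊓ F ≤ F) (KF hk)) fun a ha => Or.inl ha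
    rw [ad_idx eF inf_le_right (KF hk) (fun h => kW h.1), cWF] at this
    omega
  have b1 := crel _ _ l1
  have b2 := crel _ _ KF
  have b3 : (ad eF (inf_le_right : W ⊓ F ≤ F) (KF hk)).relIndex ⁅V, E⁆ ≠ 1 := fun h =>
    n1 (relIndex_eq_one.1 h kx)
  rw [c8] at b1
  rw [cF, ← b1] at b2
  refine le_antisymm KF (relIndex_eq_one.1 ?_)
  generalize (ad eF (inf_le_right : W ⊓ F ≤ F) (KF hk)).relIndex ⁅V, E⁆ = r at b2 b3
  generalize (⁅V, E⁆ : Subgroup G).relIndex F = s at b2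
  have : r * s = 2 := by rw [mul_assoc] at b2; omega
  rcases r with _ | _ | r
  · omega
  · omega
  · rcases s with _ | _ | s
    · omega
    · rfl
    · nlinarith

end Cfsg.Lib.K7
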