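import Cfsg.Agent.K7.LocB
import Cfsg.Agent.K7.L17a
import Cfsg.Agent.P8.PjB

/-! # The type `L₂(17)` does not occur in the non-Sylow case -/

set_option autoImplicit false

namespace Cfsg.Lib.K7

open Cfsg Subgroup Cfsg.Lib.Trans Cfsg.Lib.Gold
open Cfsg.Lib.P8 (L32 V3 O2 Om Jt Phi EA SR4 Ch E9 Pj Ty Sec SecOK Mx Crd)
open Cfsg.Lib.K35 (PSL Alt A3 NC)
open scoped commutatorElement

universe u

namespace NSX17

open L17

section
variable {F : Type} [Field F]

theorem pd {p q r s α β : F} (h : p * s - q * r = 1) (k : α * α + (p + s) * α * β + β * β = 1) :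
    (α + β * p) * (α + β * s) - β * q * (β * r) = 1 := by linear_combination k + β * β * h

theorem pm {p q r s α β γ δ ε ζ : F} (h : p * s - q * r = 1) (h1 : α * γ - β * δ = ε)
    (h2 : α * δ + β * γ + (p + s) * β * δ = ζ) (k1 k2 k3) :
    mm (α + β * p) (β * q) (β * r) (α + β * s) k1 * mm (γ + δ * p) (δ * q) (δ * r) (γ + δ * s) k2 =
      mm (ε + ζ * p) (ζ * q) (ζ * r) (ε + ζ * s) k3 := by
  subst h1 h2
  rw [mm_mul, mm_eq]
  exact .inl ⟨by linear_combination (-(β * δ)) * h, by ring, by ring,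
    by linear_combination (-(β * δ)) * h⟩

theorem cube (h17 : (17 : F) = 0) {w : PSL 2 F} (h3 : w * w * w = 1) (h1 : w ≠ 1) :
    ∃ v : PSL 2 F, v * v * v = w := by
  obtain ⟨p, q, r, s, h, rfl⟩ := mm_sur w
  have ht : (p + s - 1) * (p + s + 1) = 0 := by
    by_contra t
    rw [mm_mul, mm_mul, mm_one, mm_eq] at h3
    have k : (p + s - 1) * (p + s + 1) * q = 0 ∧ (p + s - 1) * (p + s + 1) * r = 0 ∧
        (p + s - 1) * (p + s + 1) * (p - s) = 0 := by
      rcases h3 with ⟨a, b, c, d⟩ | ⟨a, b, c, d⟩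
      · exact ⟨by linear_combination b + q * h, by linear_combination c + r * h,
          by linear_combination a - d + (p - s) * h⟩
      · exact ⟨by linear_combination b + q * h, by linear_combination c + r * h,
          by linear_combination a - d + (p - s) * h⟩
    obtain rfl : q = 0 := (mul_eq_zero.1 k.1).resolve_left t
    obtain rfl : r = 0 := (mul_eq_zero.1 k.2.1).resolve_left t
    obtain rfl : p = s := sub_eq_zero.1 ((mul_eq_zero.1 k.2.2).resolve_left t)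
    apply h1
    rw [mm_one, mm_eq]
    rcases mul_eq_zero.1 (show (p - 1) * (p + 1) = 0 by linear_combination h) with c | c
    · exact .inl ⟨by linear_combination c, rfl, rfl, by linear_combination c⟩
    · exact .inr ⟨by linear_combination c, by simp, by simp, by linear_combination c⟩
  have e : mm (0 + 1 * p) (1 * q) (1 * r) (0 + 1 * s) (by linear_combination h) = mm p q r s h := by
    rw [mm_eq]; simp
  rcases mul_eq_zero.1 ht with t | t
  · refine ⟨mm _ _ _ _ (pd (α := 8) (β := 11) h (by linear_combination 88 * t + 16 * h17)), ?_⟩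
    rw [pm (ε := 11) (ζ := 8) h (by linear_combination (-4) * h17)
      (by linear_combination 121 * t + 17 * h17) _ _
      (pd h (by linear_combination 88 * t + 16 * h17)),
      pm (ε := 0) (ζ := 1) h (by linear_combination 0 * h17)
      (by linear_combination 88 * t + 16 * h17) _ _ (by linear_combination h), e]
  · refine ⟨mm _ _ _ _ (pd (α := 2) (β := 8) h (by linear_combination 16 * t + 3 * h17)), ?_⟩
    rw [pm (ε := 8) (ζ := 2) h (by linear_combination (-4) * h17)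
      (by linear_combination 64 * t - 2 * h17) _ _
      (pd h (by linear_combination 16 * t + 3 * h17)),
      pm (ε := 0) (ζ := 1) h (by linear_combination 0 * h17)
      (by linear_combination 16 * t + 3 * h17) _ _ (by linear_combination h), e]

end

theorem four {X : Type*} [Group X] [Finite X] (hX : ∀ a : X, a * a = 1 → a ≠ 1 → PP a)
    (E : Subgroup X) (hE : EA E) : Nat.card E ≤ 4 := by
  classical
  have sq : ∀ v ∈ E, v * v = 1 := fun v hv => by rw [← pow_two]; exact hE.2 v hv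
  have cm : ∀ v ∈ E, ∀ w ∈ E, v * w = w * v := fun v hv w hw => by
    have := hE.1
    exact setLike_mul_comm hv hw
  have cd : ∀ s : Finset X, (∀ v ∈ E, v ∈ s) → Nat.card E ≤ s.card := fun s hs => by
    rw [← Nat.card_eq_finsetCard]
    exact Nat.card_mono s.finite_toSet hs
  by_cases c : ∀ a ∈ E, a = 1
  · exact (cd {1} fun v hv => by simp [c v hv]).trans (by simp)
  push Not at c
  obtain ⟨a, ha, a1⟩ := c
  by_cases c : ∀ b ∈ E, b ∈ ({1, a} : Finset X)
  · exact ((cd _ c).trans Finset.card_le_two).trans (by norm_num)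
  push Not at c
  obtain ⟨b, hb, b1⟩ := c
  rw [Finset.mem_insert, Finset.mem_singleton, not_or] at b1
  obtain ⟨-, k⟩ := (hX _ (sq a ha) a1).four _ (sq b hb) b1.1 b1.2 (cm b hb a ha)
  exact (cd {1, a, b, a * b} fun v hv => by
    simpa using k _ (sq v hv) (cm v hv a ha) (cm v hv b hb)).trans Finset.card_le_four

variable {G : Type u} [Group G] [Finite G]

/-- An element of order dividing nine modulo the centralizer whose cube has a large fixed space. -/
theorem nine {V : Subgroup G} (hV : EA V) {v : G} (n : v ∈ Ns V) (h9 : v ^ 9 ∈ Cs V)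
    (h4 : (V ⊓ C1 (v ^ 3)).relIndex V ≤ 4) : v ^ 3 ∈ Cs V := by
  classical
  set C := V ⊓ C1 (v ^ 3) with hC
  have sq : ∀ a ∈ V, a * a = 1 := fun a ha => by rw [← pow_two]; exact hV.2 a ha
  have cm : ∀ a ∈ V, ∀ b ∈ V, a * b = b * a := fun a ha b hb => by
    have := hV.1
    exact setLike_mul_comm ha hb
  have nC : v ∈ Ns C := mem_normalizer_of_cj_le (cj_le_iff.2 fun c hc =>
    ⟨mem_normalizer_conj n hc.1, mem_C1.2 (by
      calc v * c * v⁻¹ * v ^ 3 = v * (c * v ^ 3) * v⁻¹ := by group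
        _ = _ := by rw [mem_C1.1 hc.2]; group)⟩)
  refine mem_centralizer_iff.2 fun x hx => ?_
  let H : Subgroup G :=
    { carrier := {h | h ∈ Ns C ∧ x⁻¹ * (h * x * h⁻¹) ∈ C}
      one_mem' := ⟨one_mem _, by simp⟩
      mul_mem' := fun {a b} ha hb => ⟨mul_mem ha.1 hb.1, by
        have e : x⁻¹ * (a * b * x * (a * b)⁻¹) =
          x⁻¹ * (a * x * a⁻¹) * (a * (x⁻¹ * (b * x * b⁻¹)) * a⁻¹) := by group
        rw [e]
        exact mul_mem ha.2 (mem_normalizer_conj ha.1 hb.2)⟩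
      inv_mem' := fun {a} ha => ⟨inv_mem ha.1, by
        have e : x⁻¹ * (a⁻¹ * x * a⁻¹⁻¹) = a⁻¹ * (x⁻¹ * (a * x * a⁻¹))⁻¹ * a⁻¹⁻¹ := by group
        rw [e]
        exact mem_normalizer_conj (inv_mem ha.1) (inv_mem ha.2)⟩ }
  have H9 : v ^ 9 ∈ H := ⟨pow_mem nC 9, by
    rw [← mem_centralizer_iff.1 h9 x hx]; simp⟩
  have key : ∀ i d : ℕ, (v ^ i * x * (v ^ i)⁻¹)⁻¹ * (v ^ (i + d) * x * (v ^ (i + d))⁻¹) ∈ C →
      v ^ d ∈ H := fun i d h => ⟨pow_mem nC d, by
    have e : x⁻¹ * (v ^ d * x * (v ^ d)⁻¹) = (v ^ i)⁻¹ *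
      ((v ^ i * x * (v ^ i)⁻¹)⁻¹ * (v ^ (i + d) * x * (v ^ (i + d))⁻¹)) * (v ^ i)⁻¹⁻¹ := by
      rw [pow_add]; group
    rw [e]
    exact mem_normalizer_conj (inv_mem (pow_mem nC i)) h⟩
  obtain ⟨d, d0, d4, hd⟩ : ∃ d : ℕ, 0 < d ∧ d ≤ 4 ∧ v ^ d ∈ H := by
    have := Fintype.ofFinite (V ⧸ C.subgroupOf V)
    obtain ⟨i, j, ne, e⟩ := Fintype.exists_ne_map_eq_of_card_lt (fun i : Fin 5 =>
      ((⟨v ^ i.1 * x * (v ^ i.1)⁻¹, mem_normalizer_conj (pow_mem n _) hx⟩ : V) : V ⧸ C.subgroupOf V))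
      (by rw [← Nat.card_eq_fintype_card, Fintype.card_fin]; exact Nat.lt_succ_of_le h4)
    have ne' : i.1 ≠ j.1 := fun h => ne (Fin.ext h)
    have hi := i.2
    have hj := j.2
    rcases lt_or_gt_of_ne ne' with l | l
    · refine ⟨j.1 - i.1, by omega, by omega, key i.1 _ ?_⟩
      rw [Nat.add_sub_cancel' l.le]
      exact mem_subgroupOf.1 (QuotientGroup.eq.1 e)
    · refine ⟨i.1 - j.1, by omega, by omega, key j.1 _ ?_⟩
      rw [Nat.add_sub_cancel' l.le]
      exact mem_subgroupOf.1 (QuotientGroup.eq.1 e.symm)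
  have H3 : v ^ 3 ∈ H := by
    interval_cases d
    · simpa using pow_mem hd 3
    · have : v ^ 3 = v ^ 9 * ((v ^ 2) ^ 3)⁻¹ := by group
      exact this ▸ mul_mem H9 (inv_mem (pow_mem hd 3))
    · exact hd
    · have : v ^ 3 = (v ^ 4) ^ 3 * (v ^ 9)⁻¹ := by group
      exact this ▸ mul_mem (pow_mem hd 3) (inv_mem H9)
  obtain ⟨c, hc, e⟩ : ∃ c ∈ C, v ^ 3 * x = x * c * v ^ 3 := ⟨_, H3.2, by group⟩
  have c1 : c * v ^ 3 = v ^ 3 * c := mem_C1.1 hc.2
  have e2 : v ^ 3 * (v ^ 3 * x) = x * (v ^ 3 * v ^ 3) := by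
    rw [e, ← mul_assoc, ← mul_assoc, e, mul_assoc (x * c), ← c1, ← mul_assoc, mul_assoc x, sq c hc.1,
      mul_one, mul_assoc]
  have e9 := mem_centralizer_iff.1 h9 x hx
  rw [show v ^ 9 = v ^ 3 * v ^ 3 * v ^ 3 by group] at e9
  have e3 : v ^ 3 * v ^ 3 * (v ^ 3 * x) = v ^ 3 * x * (v ^ 3 * v ^ 3) := by
    rw [mul_assoc, e2, ← mul_assoc]
  rw [mul_assoc (v ^ 3 * v ^ 3), e3, mul_assoc (v ^ 3), ← mul_assoc x] at e9
  exact mul_right_cancel e9

end NSX17

open NSX17 L17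

theorem x17 : StX17.{u} := by
  intro L _ _ h
  obtain ⟨-, -, hX⟩ := of_l2 h
  refine ⟨fun t o => (hX t (by rw [← pow_two, ← o, pow_orderOf_eq_one]) (by
    rintro rfl; simp at o)).inv, four hX, fun w o => ?_⟩
  obtain ⟨F, _, _, hF, ⟨e⟩⟩ := h
  have h17 : (17 : F) = 0 := by simpa [hF] using FiniteField.cast_card_eq_zero F
  obtain ⟨v, hv⟩ := cube h17 (w := e w)
    (by rw [← map_mul, ← map_mul, ← pow_three', ← o, pow_orderOf_eq_one, map_one])
    (by rw [Ne, map_eq_one_iff e e.injective]; rintro rfl; simp at o)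
  exact ⟨e.symm v, by rw [← map_pow, pow_three', hv, e.symm_apply_apply]⟩

theorem n17 (hX17 : StX17.{u}) (hTv : StTv.{u}) (hDp : StDp.{u}) : StN17.{u} := by
  intro G _ _ M S₀ g X _ _ π L nb no tx l2
  obtain ⟨x1, x2, x3⟩ := hX17 L l2
  obtain ⟨-, ⟨r, hr⟩, -⟩ := of_l2 l2
  obtain ⟨t1, t2⟩ := hTv G 17 M S₀ g X π L nb no tx (hr ▸ orderOf_dvd_natCard r)
  have h := tx.ty.toPj
  have VT : Om (O2 M) ≤ O2 M := fun v hv => ((no.memV v).1 hv).1
  have V2 : IsPGroup 2 (Om (O2 M)) := h.two.to_le VT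
  have fp : ∀ y ∈ M, orderOf y = 17 → Om (O2 M) ⊓ C1 y = ⊥ := fun y hy o =>
    eq_bot_iff.2 ((inf_le_inf_right _ VT).trans (no.fp y hy o).le)
  have Dp := fun y hy o => hDp G M ⊥ (Om (O2 M)) y 17 (by norm_num) (by norm_num) V2 bot_le
    (VT.trans h.le) ((le_top : M ≤ ⊤).trans (normalizer_eq_top ⊥).ge) no.nV.ge hy o (fp y hy o)
  have big : 256 ≤ Nat.card (Om (O2 M)) := by
    obtain ⟨y, hy, o⟩ := no.ex
    have h1 := (Dp y hy o).1
    have : Fact (Nat.Prime 2) := ⟨Nat.prime_two⟩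
    obtain ⟨k, hk⟩ := V2.exists_card_eq
    rw [relIndex_bot_left, hk] at h1
    have k8 : 8 ≤ k := by
      by_contra! c
      have : k ≠ 0 := fun e => no.neV (by rwa [e, pow_zero, card_eq_one] at hk)
      interval_cases k <;> first | exact this rfl | exact absurd h1 (by decide)
    rw [hk]
    exact Nat.pow_le_pow_right (by decide : 0 < 2) k8
  obtain ⟨A, hA, ea, nA, le⟩ := no.off
  replace hA : A ≤ M := hA.trans nb.syl.le
  have sq : ∀ a ∈ A, a * a = 1 := fun a ha => by rw [← pow_two]; exact ea.2 a ha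
  have sq' : ∀ a ∈ A, a * a ∈ O2 M := fun a ha => by rw [sq a ha]; exact one_mem _
  obtain ⟨B, hB, cB⟩ := P8.PjBH.im h A hA
  have lo : ∀ a ∈ A, (Om (O2 M) ⊓ C1 a).relIndex (Om (O2 M)) ≤ Nat.card B := fun a ha =>
    (relIndex_le_of_le_left (inf_le_inf_left _ (centralizer_le (Set.singleton_subset_iff.2 ha)))
      FiniteIndex.index_ne_zero).trans (le.trans cB.ge)
  have i2 : L.relIndex B ≤ 2 := by
    by_cases c : B ≤ L
    · rw [relIndex_eq_one.2 c]; norm_num
    obtain ⟨b, hb, nb⟩ := SetLike.not_le_iff_exists.1 c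
    refine (relIndex_eq_two_iff.2 ⟨b, hb, fun c hc => ?_⟩).le
    by_cases k : c ∈ L
    · exact .inr ⟨k, fun k' => nb ((mul_mem_cancel_left k).1 k')⟩
    · obtain ⟨b', hb', rfl⟩ := (hB b).1 hb
      obtain ⟨c', hc', rfl⟩ := (hB c).1 hc
      exact .inl ⟨h.mul _ (hA hc') _ (hA hb') ▸
        t1 c' (hA hc') b' (hA hb') (sq' c' hc') (sq' b' hb') k nb, k⟩
  have cBL : Nat.card B ≤ 2 * Nat.card ↥(B ⊓ L) := by
    rw [← card_mul_relIndex (inf_le_left : B ⊓ L ≤ B), inf_relIndex_left, mul_comm]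
    exact Nat.mul_le_mul_right _ i2
  by_cases c : ∃ a ∈ A, a ∉ O2 M ∧ π a ∈ L
  · obtain ⟨a, ha, aT, aL⟩ := c
    have c4 : Nat.card ↥(B ⊓ L) ≤ 4 := by
      rw [← Nat.card_congr (subgroupOfEquivOfLe (inf_le_right : B ⊓ L ≤ L)).toEquiv]
      have k : ∀ y ∈ (B ⊓ L).subgroupOf L, y * y = 1 := fun y hy => Subtype.ext (by
        obtain ⟨b, hb, e⟩ := (hB y).1 hy.1
        rw [coe_mul, ← e, ← h.mul b (hA hb) b (hA hb), sq b hb, P8.PjBH.one h, coe_one])
      refine x2 _ ⟨⟨⟨fun y z => Subtype.ext (Subtype.ext ?_)⟩⟩, fun y hy => by rw [pow_two, k y hy]⟩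
      obtain ⟨b, hb, e⟩ := (hB y.1).1 y.2.1
      obtain ⟨b', hb', e'⟩ := (hB z.1).1 z.2.1
      have := ea.1
      simp only [coe_mul]
      rw [← e, ← e', ← h.mul b (hA hb) b' (hA hb'), ← h.mul b' (hA hb') b (hA hb),
        setLike_mul_comm hb hb']
    have : Fact (Nat.Prime 2) := ⟨Nat.prime_two⟩
    obtain ⟨y, oy, hy⟩ := x1 ⟨π a, aL⟩ (orderOf_eq_prime (Subtype.ext (by
      rw [pow_two, coe_mul, ← h.mul a (hA ha) a (hA ha), sq a ha, P8.PjBH.one h, coe_one]))
      fun e => aT ((h.ker a (hA ha)).1 (congrArg Subtype.val e)))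
    replace oy : orderOf (y : X) = 17 := (orderOf_coe y).trans oy
    replace hy : π a * y * (π a)⁻¹ = (y : X)⁻¹ := congrArg Subtype.val hy
    obtain ⟨m, hm, e⟩ := h.sur y
    obtain ⟨w, hw, e', o⟩ := P8.PjBH.odd h m hm (by rw [e, oy]; decide)
    replace hw : w ∈ M := zpowers_le.2 hm hw
    rw [e] at e' o
    rw [oy] at o
    have aw := mul_mem (mul_mem (hA ha) hw) (inv_mem (hA ha))
    have k := (Dp w hw o).2.2.2 a (hA ha) (by
      rw [no.cV, ← h.ker _ (mul_mem aw hw), h.mul _ aw _ hw, P8.PjBH.cj h (hA ha) hw, e', hy,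
        inv_mul_cancel]) (by rw [sq a ha]; exact one_mem _) no.ea.1
    have k2 := card_mul_relIndex (inf_le_left : Om (O2 M) ⊓ C1 a ≤ Om (O2 M))
    have k3 := lo a ha
    have k4 : 0 < Nat.card ↥(Om (O2 M) ⊓ C1 a) := Nat.card_pos
    have k5 : Nat.card ↥(Om (O2 M) ⊓ C1 a) = (Om (O2 M) ⊓ C1 a).relIndex (Om (O2 M)) :=
      Nat.eq_of_mul_eq_mul_left k4 (by rw [k2, ← k, pow_two])
    nlinarith
  · push Not at c
    have c1 : B ⊓ L = ⊥ := eq_bot_iff.2 fun y hy => by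
      obtain ⟨b, hb, rfl⟩ := (hB y).1 hy.1
      exact (h.ker b (hA hb)).2 (by_contra fun k => c b hb k hy.2)
    rw [c1, card_bot] at cBL
    obtain ⟨a, ha, aT⟩ := SetLike.not_le_iff_exists.1 nA
    obtain ⟨w, hw, wL, o, k⟩ := t2 a (hA ha) aT (sq' a ha) ((lo a ha).trans cBL)
    rcases o with o | o
    · have : Fact (Nat.Prime 3) := ⟨Nat.prime_three⟩
      have wT : w ∉ O2 M := fun e => by
        obtain ⟨j, hj⟩ := h.two ⟨w, e⟩
        have := orderOf_dvd_of_pow_eq_one (congrArg Subtype.val hj : w ^ 2 ^ j = 1)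
        rw [o] at this
        exact absurd (Nat.prime_three.dvd_of_dvd_pow this) (by decide)
      have w3 : π w ^ 3 = 1 := by rw [← P8.PjBH.pow h hw, ← o, pow_orderOf_eq_one, P8.PjBH.one h]
      obtain ⟨y, hy⟩ := x3 ⟨π w, wL⟩ (orderOf_eq_prime (Subtype.ext w3)
        fun e => wT ((h.ker w hw).1 (congrArg Subtype.val e)))
      replace hy : (y : X) ^ 3 = π w := congrArg Subtype.val hy
      obtain ⟨v, hv, e⟩ := h.sur y
      have e3 : π (v ^ 3) = π w := by rw [P8.PjBH.pow h hv, e, hy]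
      have q : w⁻¹ * v ^ 3 ∈ Cs (Om (O2 M)) := by
        rw [no.cV]; exact (P8.PjBH.eq_iff h hw (pow_mem hv 3)).1 e3.symm
      have := nine no.ea (no.nV.ge hv) (by
        rw [no.cV, ← h.ker _ (pow_mem hv 9), show v ^ 9 = (v ^ 3) ^ 3 by group,
          P8.PjBH.pow h (pow_mem hv 3), e3, w3]) (le_trans (relIndex_le_of_le_left
          (H := Om (O2 M) ⊓ C1 w) (fun x hx => ⟨hx.1, mem_C1.2 (by
              have a : Commute x w := mem_C1.1 hx.2
              have b : Commute x (w⁻¹ * v ^ 3) := mem_centralizer_iff.1 q x hx.1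
              simpa using (a.mul_right b).eq)⟩) FiniteIndex.index_ne_zero) k)
      rw [no.cV, ← h.ker _ (pow_mem hv 3), e3, h.ker w hw] at this
      exact wT this
    · rw [fp w hw o, relIndex_bot_left] at k
      omega

end Cfsg.Lib.K7
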