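import Cfsg.Agent.K7.Loc2
import Cfsg.Agent.P8.PjB
import Cfsg.Agent.P8.Bas1
import Cfsg.Agent.P8.Brg

/-!
# Passing to the quotient by the 2-core
-/

set_option autoImplicit false

namespace Cfsg.Lib.K7

open Cfsg Subgroup Cfsg.Lib.Trans Cfsg.Lib.Gold
open Cfsg.Lib.P8 (O2 E9 Pj)
open scoped commutatorElement

universe u

namespace Br

variable {G X : Type u} [Group G] [Finite G] [Group X] {H Q : Subgroup G} {π : G → X}

/-- A 3-subgroup of the quotient is the isomorphic image of a 3-subgroup. -/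
theorem lift (pj : Pj H Q π) {B : Subgroup X} (hB : IsPGroup 3 B) {Y : Subgroup G} (hY : IsPGroup 3 Y)
    (le : ∀ y ∈ Y, y ∈ H ∧ π y ∈ B) :
    ∃ R : Subgroup G, R ≤ H ∧ Y ≤ R ∧ (∀ r ∈ R, π r ∈ B) ∧ (∀ b ∈ B, ∃ r ∈ R, π r = b) ∧
      ∀ r ∈ R, ∀ s ∈ R, π r = π s → r = s := by
  have := Fact.mk Nat.prime_two
  have := Fact.mk Nat.prime_three
  have := P8.pf_Bas1.{u}
  have := P8.pf_PjB.{u, u}
  obtain ⟨A, hA, -⟩ := P8.PjB.pre pj B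
  have AH : A ≤ H := fun a ha => ((hA a).1 ha).1
  obtain ⟨R, hR, YR⟩ := exists_isSylowIn_ge (H := A) hY fun y hy => (hA y).2 (le y hy)
  have RH := hR.le.trans AH
  obtain ⟨f, ef, fs, -⟩ := P8.PjBH.hom pj
  refine ⟨R, RH, YR, fun r hr => ((hA r).1 (hR.le hr)).2, fun b hb => ?_, fun r hr s hs e => ?_⟩
  · have s := (hR.subgroupOf AH).map f
    have e : (A.subgroupOf H).map f = B := Subgroup.ext fun x =>
      ⟨fun ⟨a, ha, k⟩ => k ▸ (ef a).symm ▸ ((hA a).1 ha).2, fun hx => (fs x).elim fun a k =>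
        ⟨a, (hA a).2 ⟨a.2, ef a ▸ k.symm ▸ hx⟩, k⟩⟩
    rw [e] at s
    obtain ⟨a, ha, k⟩ : b ∈ (R.subgroupOf H).map f := s.eq_of_le hB s.le le_rfl ▸ hb
    exact ⟨a, ha, (ef a).symm.trans k⟩
  · have k := (IsPGroup.disjoint_of_ne 2 3 (by decide) _ _ pj.two hR.isPGroup).le_bot
      ⟨(P8.PjBH.eq_iff pj (RH hr) (RH hs)).1 e, R.mul_mem (R.inv_mem hr) hs⟩
    exact inv_mul_eq_one.1 (mem_bot.1 k)

omit [Finite G] in
theorem zp {a : G} (h : a ^ 3 = 1) : IsPGroup 3 (zpowers a) := fun ⟨_, i, rfl⟩ =>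
  ⟨1, Subtype.ext (by
    change (a ^ i) ^ 3 ^ 1 = 1
    rw [pow_one, ← zpow_natCast, ← zpow_mul, mul_comm, zpow_mul, zpow_natCast, h, one_zpow])⟩

theorem three {a b c : G} (ha : a ^ 3 = 1) (hb : b ^ 3 = 1) (hc : c ^ 3 = 1) (ac : a * c = c * a)
    (bc : b * c = c * b) (ab : ⁅a, b⁆ = c) : IsPGroup 3 ↥(zpowers b ⊔ (zpowers a ⊔ zpowers c)) := by
  have nor : ∀ (g : G) (K : Subgroup G), K ≤ K.comap (MulAut.conj g).toMonoidHom → zpowers g ≤ Ns K :=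
    fun g K h => zpowers_le.2 (mem_normalizer_fintype fun n hn => h hn)
  refine (zp hb).to_sup_of_normal_right' ((zp ha).to_sup_of_normal_right' (zp hc) (nor _ _ ?_))
    (nor _ _ (sup_le ?_ ?_)) <;> refine zpowers_le.2 ?_
  · change a * c * a⁻¹ ∈ zpowers c
    rw [ac, mul_inv_cancel_right]
    exact mem_zpowers c
  · change b * a * b⁻¹ ∈ zpowers a ⊔ zpowers c
    rw [show b * a * b⁻¹ = c⁻¹ * a by rw [← ab, commutatorElement_def]; group]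
    exact mul_mem (inv_mem (mem_sup_right (mem_zpowers c))) (mem_sup_left (mem_zpowers a))
  · change b * c * b⁻¹ ∈ zpowers a ⊔ zpowers c
    rw [bc, mul_inv_cancel_right]
    exact mem_sup_right (mem_zpowers c)

theorem r3 [Finite X] (pj : Pj H Q π) (h : PRankLE 3 2 H) : PRankLE 3 2 X := fun B cm e3 => by
  obtain ⟨R, RH, -, h1, h2, h3⟩ := lift pj (B := B) (fun b => ⟨1, Subtype.ext (by simpa using e3 b b.2)⟩)
    (Y := ⊥) IsPGroup.of_bot fun y hy => by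
      rw [mem_bot.1 hy, P8.PjBH.one pj]; exact ⟨one_mem _, one_mem _⟩
  refine le_trans ?_ (h (R.subgroupOf H) ⟨⟨fun a b => Subtype.ext (Subtype.ext ?_)⟩⟩ fun a ha =>
    Subtype.ext ?_)
  · exact Nat.card_le_card_of_surjective (fun a : R.subgroupOf H => (⟨π a.1, h1 _ a.2⟩ : B))
      fun b => (h2 b b.2).elim fun r k => ⟨⟨⟨r, RH k.1⟩, k.1⟩, Subtype.ext k.2⟩
  · refine h3 (a.1.1 * b.1.1) (R.mul_mem a.2 b.2) (b.1.1 * a.1.1) (R.mul_mem b.2 a.2) ?_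
    rw [pj.mul _ a.1.2 _ b.1.2, pj.mul _ b.1.2 _ a.1.2]
    exact congrArg Subtype.val (cm.is_comm.comm ⟨_, h1 _ a.2⟩ ⟨_, h1 _ b.2⟩)
  · refine h3 (a.1 ^ 3) (R.pow_mem ha 3) 1 (one_mem _) ?_
    rw [P8.PjBH.pow pj a.2, P8.PjBH.one pj]
    exact e3 _ (h1 _ ha)

theorem ord (pj : Pj H Q π) {y : G} (hy : y ∈ H) (o : orderOf y = 3) : orderOf (π y) = 3 := by
  have := Fact.mk Nat.prime_two
  have := Fact.mk Nat.prime_three
  refine ((Nat.dvd_prime Nat.prime_three).1 (o ▸ P8.PjBH.dvd pj hy)).resolve_left fun k => ?_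
  have e := (IsPGroup.disjoint_of_ne 2 3 (by decide) _ _ pj.two
    (zp (o ▸ pow_orderOf_eq_one y))).le_bot ⟨(pj.ker y hy).1 (orderOf_eq_one_iff.1 k), mem_zpowers y⟩
  rw [mem_bot.1 e, orderOf_one] at o
  omega

theorem nc [Finite X] (pj : Pj H Q π) {y : G} (hy : y ∈ H) (o : orderOf y = 3) (n : Nc H y) :
    Nc ⊤ (π y) := fun a _ b _ ha hb ac bc ab => by
  have y3 : y ^ 3 = 1 := o ▸ pow_orderOf_eq_one y
  have c3 : π y ^ 3 = 1 := by rw [← P8.PjBH.pow pj hy, y3, P8.PjBH.one pj]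
  obtain ⟨R, RH, yR, -, h2, h3⟩ := lift pj (three ha hb c3 ac bc ab) (zp y3) fun x hx => by
    obtain ⟨i, rfl⟩ := mem_powers_iff_mem_zpowers.2 hx
    refine ⟨pow_mem hy i, ?_⟩
    rw [P8.PjBH.pow pj hy]
    exact pow_mem (mem_sup_right (mem_sup_right (mem_zpowers _))) i
  have yR := yR (mem_zpowers y)
  obtain ⟨a, aR, rfl⟩ := h2 a (mem_sup_right (mem_sup_left (mem_zpowers a)))
  obtain ⟨b, bR, rfl⟩ := h2 b (mem_sup_left (mem_zpowers b))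
  have p3 : ∀ r ∈ R, π r ^ 3 = 1 → r ^ 3 = 1 := fun r hr e =>
    h3 _ (pow_mem hr 3) _ (one_mem _) (by rw [P8.PjBH.pow pj (RH hr), e, P8.PjBH.one pj])
  have cm : ∀ r ∈ R, π r * π y = π y * π r → r * y = y * r := fun r hr e =>
    h3 _ (mul_mem hr yR) _ (mul_mem yR hr) (by rw [pj.mul _ (RH hr) _ hy, pj.mul _ hy _ (RH hr), e])
  refine n a (RH aR) b (RH bR) (p3 a aR ha) (p3 b bR hb) (cm a aR ac) (cm b bR bc)
    (h3 _ (mul_mem (mul_mem (mul_mem aR bR) (inv_mem aR)) (inv_mem bR)) _ yR ?_)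
  rw [← ab, commutatorElement_def,
    pj.mul _ (RH (mul_mem (mul_mem aR bR) (inv_mem aR))) _ (RH (inv_mem bR)),
    P8.PjBH.cj pj (RH aR) (RH bR), P8.PjBH.inv pj (RH bR)]

theorem e9 (pj : Pj H Q π) {x y : X} (h : E9 x y) :
    ∃ a ∈ H, ∃ b ∈ H, π a = x ∧ π b = y ∧ E9 a b := by
  obtain ⟨ox, oy, c, n⟩ := h
  have := P8.pf_Bas1.{u}
  have := P8.pf_PjB.{u, u}
  obtain ⟨g, hg, rfl⟩ := pj.sur x
  obtain ⟨a, ha, e, oa⟩ := P8.PjBH.odd pj g hg (by rw [ox]; decide)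
  have aH : a ∈ H := zpowers_le.2 hg ha
  obtain ⟨d, hd, e1, rfl⟩ := P8.PjB.cen pj a aH (by rw [oa, ox]; decide) y (by rw [e]; exact c.symm)
  obtain ⟨b, hb, e2, ob⟩ := P8.PjBH.odd pj d hd (by rw [oy]; decide)
  refine ⟨a, aH, b, zpowers_le.2 hd hb, e, e2, oa.trans ox, ob.trans oy, ?_, fun k => n ?_⟩
  · obtain ⟨i, rfl⟩ := mem_zpowers_iff.1 hb
    exact ((Commute.symm e1).zpow_right i).eq
  · obtain ⟨i, rfl⟩ := mem_powers_iff_mem_zpowers.2 k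
    rw [← e2, ← e]
    exact mem_zpowers_iff.2 ⟨(i : ℤ), by rw [zpow_natCast]; exact (P8.PjBH.pow pj aH i).symm⟩

end Br

theorem br : StBr.{u} := fun G _ _ H sv => by
  have := P8.pf_Bas1.{u}
  have := P8.pf_PjB.{u, u}
  obtain ⟨X, _, _, π, pj, o2⟩ := P8.BrgH.quo H
  obtain ⟨-, cX, -, sX, -⟩ := P8.PjB.card pj
  exact ⟨X, _, ‹_›, π, pj,
    ⟨sX sv.sol, fun p hp d => sv.pr p hp (d.trans (cX ▸ relIndex_dvd_card (O2 H) H)), o2, Br.r3 pj sv.r3⟩,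
    fun y hy o n => ⟨Br.ord pj hy o, Br.nc pj hy o n⟩, fun _ _ => Br.e9 pj⟩

end Cfsg.Lib.K7
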