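import Cfsg.Agent.K7.Loc2
import Cfsg.Agent.P8.PjB
import Cfsg.Agent.Local.PCoreOf
import Cfsg.Agent.Gold.Tools

/-!
# Simple groups of order `7 * 3 ^ a * 2 ^ b`: the final configuration
-/

set_option autoImplicit false
set_option linter.unusedSectionVars false
set_option linter.unusedVariables false
set_option linter.unusedSimpArgs false
set_option synthInstance.maxSize 2000
set_option synthInstance.maxHeartbeats 200000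

namespace Cfsg.Lib.K7

open Cfsg Subgroup Cfsg.Lib.Trans Cfsg.Lib.Gold
open Cfsg.Lib.P8 (L32 V3 O2 Om EA Pj Ty SecOK Mx Crd)
open scoped commutatorElement

universe u

namespace CF

/-- `m` lies in the span of `x` and `a`. -/
def Sp (x a m : V3) : Prop := m = 0 ∨ m = x ∨ m = a ∨ m = a + x

instance (x a m : V3) : Decidable (Sp x a m) := inferInstanceAs (Decidable (_ ∨ _ ∨ _ ∨ _))

theorem vadd : ∀ a : V3, a + a = 0 := by decide +kernel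

theorem sp_add {x a m m' : V3} (h : Sp x a m) (h' : Sp x a m') : Sp x a (m + m') := by
  have e1 : a + x + x = a := by rw [add_assoc, vadd, add_zero]
  have e2 : a + x + a = x := by rw [add_right_comm, vadd, zero_add]
  rcases h with rfl | rfl | rfl | rfl <;> rcases h' with rfl | rfl | rfl | rfl <;>
    simp only [Sp, zero_add, add_zero, vadd, true_or, or_true, e1, e2, add_comm, add_left_comm,
      ← add_assoc]

theorem sp_out : ∀ x a : V3, ∃ m, ¬ Sp x a m := by decide +kernel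

theorem sp_mono {x a m : V3} (h : Sp x 0 m) : Sp x a m := by
  rcases h with h | h | h | h
  exacts [.inl h, .inr (.inl h), .inl h, .inr (.inl (by rwa [zero_add] at h))]

theorem sp_of {x a m m' : V3} (h : Sp x 0 (m + m')) (h' : Sp x a m') : Sp x a m := by
  have := sp_add (sp_mono h) h'
  rwa [add_assoc, vadd, add_zero] at this

/-- The first basis vector. -/
def e1 : V3 := ![1, 0, 0]

/-- An element of order seven. -/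
def s7 : L32 := ⟨!![0, 0, 1; 1, 0, 1; 0, 1, 0], by decide +kernel⟩

/-- Its action on vectors. -/
def A (v : V3) : V3 := ![v 2, v 0 + v 2, v 1]

theorem s7_mv : ∀ v : V3, s7.1.mulVec v = A v := by decide +kernel

theorem s7_ord : orderOf s7 = 7 :=
  have : Fact (Nat.Prime 7) := ⟨by norm_num⟩
  orderOf_eq_prime (by decide +kernel) (by decide +kernel)

/-- The conditions on a commutator. -/
def Cd (x ρ r k : V3) : Prop := (Sp e1 x r → Sp x 0 k) ∧ (¬ Sp e1 x r → Sp x 0 (k + ρ)) ∧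
  (Sp x e1 ρ → Sp e1 0 k) ∧ (¬ Sp x e1 ρ → Sp e1 0 (k + r))

instance (x ρ r k : V3) : Decidable (Cd x ρ r k) := inferInstanceAs (Decidable (_ ∧ _ ∧ _ ∧ _))

theorem fin : ∀ r r' : V3, ¬ Sp e1 0 r → ¬ Sp e1 r r' → ∀ k1, Cd (A e1) (A r) r' k1 →
    ∀ k2, Cd (A (A e1)) (A (A r)) r' k2 → ∀ k3, Cd (A (A (A e1))) (A (A (A r))) r' k3 →
    ∀ k4, Cd (A (A (A (A e1)))) (A (A (A (A r)))) r' k4 →
    ∀ k5, Cd (A (A (A (A (A e1))))) (A (A (A (A (A r))))) r' k5 →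
    ∀ k6, Cd (A (A (A (A (A (A e1)))))) (A (A (A (A (A (A r)))))) r' k6 →
    k1 + (k2 + (k3 + (k4 + (k5 + k6)))) ≠ 0 := by decide +kernel

theorem ne1 : A e1 ≠ e1 ∧ A (A e1) ≠ e1 ∧ A (A (A e1)) ≠ e1 ∧ A (A (A (A e1))) ≠ e1 ∧
    A (A (A (A (A e1)))) ≠ e1 ∧ A (A (A (A (A (A e1))))) ≠ e1 := by decide +kernel

theorem tr2 {x y : V3} (h1 : x ≠ 0) (h2 : y ≠ 0) (h3 : x ≠ y) :
    ∃ g : L32, g.1.mulVec ![1, 0, 0] = x ∧ g.1.mulVec ![0, 1, 0] = y := by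
  obtain ⟨w, h⟩ := (by decide +kernel : ∀ x y : V3, x ≠ 0 → y ≠ 0 → x ≠ y → ∃ w : V3,
    (Matrix.of ![x, y, w]).transpose.det = 1 ∧
      (Matrix.of ![x, y, w]).transpose.mulVec ![1, 0, 0] = x ∧
      (Matrix.of ![x, y, w]).transpose.mulVec ![0, 1, 0] = y) x y h1 h2 h3
  exact ⟨⟨_, h.1⟩, h.2⟩

variable {G : Type u} [Group G] [Finite G]

/-- The abstract configuration. -/
structure Ab (T V : Subgroup G) (c : G → V3) (U Q : G → Subgroup G) : Prop where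
  add : ∀ a ∈ V, ∀ b ∈ V, c (a * b) = c a + c b
  zero : ∀ a ∈ V, c a = 0 ↔ a = 1
  sur : ∀ m : V3, ∃ a ∈ V, c a = m
  cen : ∀ v ∈ V, ∀ t ∈ T, t * v * t⁻¹ = v
  UT : ∀ p ∈ V, p ≠ 1 → U p ≤ T
  cm : ∀ p ∈ V, p ≠ 1 → ∀ u ∈ U p, ∀ q ∈ Q p, ⁅u, q⁆ = 1 ∨ ⁅u, q⁆ = p
  idx : ∀ p ∈ V, p ≠ 1 → ∀ a ∈ T, ∀ b ∈ T, a ∉ Q p → b ∉ Q p → a⁻¹ * b ∈ Q p
  all : ∀ p ∈ V, p ≠ 1 → ∀ p' ∈ V, p' ≠ 1 → p ≠ p' → ⁅U p, U p'⁆ = V

/-- Elements whose commutators with `T` lie in `V`. -/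
def InW (T V : Subgroup G) (w : G) : Prop := w ∈ T ∧ ∀ t ∈ T, ⁅w, t⁆ ∈ V

namespace Ab

variable {T V : Subgroup G} {c : G → V3} {U Q : G → Subgroup G} (h : Ab T V c U Q)
  {p p' u t t' a b : G}
include h

theorem one : c 1 = 0 := (h.zero 1 V.one_mem).2 rfl

theorem inv (ha : a ∈ V) : c a⁻¹ = c a := by
  have := h.add _ (inv_mem ha) _ ha
  rw [inv_mul_cancel, h.one] at this
  rw [← add_zero (c a⁻¹), ← vadd (c a), ← add_assoc, ← this, zero_add]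

theorem inj (ha : a ∈ V) (hb : b ∈ V) (e : c a = c b) : a = b :=
  inv_mul_eq_one.1 ((h.zero _ (mul_mem (inv_mem ha) hb)).1 (by
    rw [h.add _ (inv_mem ha) _ hb, h.inv ha, e, vadd]))

theorem symm (e : ⁅a, b⁆ ∈ V) : c ⁅b, a⁆ = c ⁅a, b⁆ := by
  rw [← commutatorElement_inv, h.inv e]

theorem mulW (ha : InW T V a) (hb : InW T V b) :
    InW T V (a * b) ∧ ∀ t ∈ T, c ⁅a * b, t⁆ = c ⁅a, t⁆ + c ⁅b, t⁆ := by
  have k : ∀ t ∈ T, ⁅a * b, t⁆ = ⁅b, t⁆ * ⁅a, t⁆ := fun t ht => by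
    rw [← h.cen _ (hb.2 t ht) a ha.1]
    simp only [commutatorElement_def]
    group
  exact ⟨⟨mul_mem ha.1 hb.1, fun t ht => k t ht ▸ mul_mem (hb.2 t ht) (ha.2 t ht)⟩, fun t ht => by
    rw [k t ht, h.add _ (hb.2 t ht) _ (ha.2 t ht), add_comm]⟩

theorem big (hp : p ∈ V) (p1 : p ≠ 1) (hp' : p' ∈ V) (p1' : p' ≠ 1) (ne : p ≠ p') (x : V3) :
    ∃ u ∈ U p, ∃ t ∈ U p', ¬ Sp (c p) x (c ⁅u, t⁆) := by
  by_contra! k
  let L : Subgroup G :=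
    { carrier := {v | v ∈ V ∧ Sp (c p) x (c v)}
      one_mem' := ⟨V.one_mem, .inl h.one⟩
      mul_mem' := fun ha hb => ⟨mul_mem ha.1 hb.1, by
        rw [h.add _ ha.1 _ hb.1]; exact sp_add ha.2 hb.2⟩
      inv_mem' := fun ha => ⟨inv_mem ha.1, by rw [h.inv ha.1]; exact ha.2⟩ }
  have e := h.all p hp p1 p' hp' p1' ne
  have le : ⁅U p, U p'⁆ ≤ L := commutator_le.2 fun u hu t ht =>
    ⟨e.le (commutator_mem_commutator hu ht), k u hu t ht⟩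
  obtain ⟨m, hm⟩ := sp_out (c p) x
  obtain ⟨v, hv, rfl⟩ := h.sur m
  exact hm (le (e.ge hv)).2

theorem inQ (hp : p ∈ V) (p1 : p ≠ 1) (hu : u ∈ U p) (ht : t ∈ Q p) :
    ⁅u, t⁆ ∈ V ∧ Sp (c p) 0 (c ⁅u, t⁆) := by
  rcases h.cm p hp p1 u hu t ht with e | e <;> rw [e]
  exacts [⟨V.one_mem, .inl h.one⟩, ⟨hp, .inr (.inl rfl)⟩]

theorem outQ (hp : p ∈ V) (p1 : p ≠ 1) (hu : u ∈ U p) (ht : t ∈ T) (hn : t ∉ Q p)
    (e : ⁅u, t⁆ ∈ V) (ht' : t' ∈ T) (hn' : t' ∉ Q p) :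
    ⁅u, t'⁆ ∈ V ∧ Sp (c p) 0 (c ⁅u, t'⁆ + c ⁅u, t⁆) := by
  obtain ⟨k1, k2⟩ := h.inQ hp p1 hu (h.idx p hp p1 t ht t' ht' hn hn')
  have k : ⁅u, t'⁆ = ⁅u, t⁆ * ⁅u, t⁻¹ * t'⁆ := by
    rw [← h.cen _ k1 t ht]
    simp only [commutatorElement_def]
    group
  rw [k, h.add _ e _ k1, add_right_comm, vadd, zero_add]
  exact ⟨mul_mem e k1, k2⟩

theorem exT (hp : p ∈ V) (p1 : p ≠ 1) (hp' : p' ∈ V) (p1' : p' ≠ 1) (ne : p ≠ p') :
    ∃ t ∈ U p', t ∉ Q p := by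
  obtain ⟨u, hu, t, ht, k⟩ := h.big hp p1 hp' p1' ne 0
  exact ⟨t, ht, fun e => k (h.inQ hp p1 hu e).2⟩

theorem inW (hp : p ∈ V) (p1 : p ≠ 1) (hp' : p' ∈ V) (p1' : p' ≠ 1) (ne : p ≠ p')
    (hu : u ∈ U p) : InW T V u := ⟨h.UT p hp p1 hu, fun t ht => by
  obtain ⟨t0, h0, hn⟩ := h.exT hp p1 hp' p1' ne
  by_cases e : t ∈ Q p
  · exact (h.inQ hp p1 hu e).1
  · exact (h.outQ hp p1 hu (h.UT p' hp' p1' h0) hn
      ((h.all p hp p1 p' hp' p1' ne).le (commutator_mem_commutator hu h0)) ht e).1⟩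

theorem star1 (hp : p ∈ V) (p1 : p ≠ 1) (hp' : p' ∈ V) (p1' : p' ≠ 1) (ne : p ≠ p')
    (hu : u ∈ U p) (ht : t ∈ T) (e : u ∈ Q p') : Sp (c p) (c p') (c ⁅u, t⁆) := by
  by_cases hn : t ∈ Q p
  · exact sp_mono (h.inQ hp p1 hu hn).2
  obtain ⟨t0, h0, hn0⟩ := h.exT hp p1 hp' p1' ne
  have hW := h.inW hp p1 hp' p1' ne hu
  have T0 := h.UT p' hp' p1' h0
  refine sp_of (h.outQ hp p1 hu T0 hn0 (hW.2 _ T0) ht hn).2 ?_
  rw [← h.symm (hW.2 _ T0)]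
  rcases h.cm p' hp' p1' t0 h0 u e with k | k <;> rw [k]
  exacts [.inl h.one, .inr (.inr (.inl rfl))]

theorem star2 (hp : p ∈ V) (p1 : p ≠ 1) (hp' : p' ∈ V) (p1' : p' ≠ 1) (ne : p ≠ p')
    (hu : u ∈ U p) (ht : t ∈ T) (hn : t ∉ Q p) (e : Sp (c p) (c p') (c ⁅u, t⁆)) : u ∈ Q p' := by
  by_contra k
  obtain ⟨u1, h1, t1, h2, k1⟩ := h.big hp p1 hp' p1' ne (c p')
  have T1 := h.UT p' hp' p1' h2
  have hW := h.inW hp p1 hp' p1' ne hu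
  by_cases e1 : u1 ∈ Q p'
  · exact k1 (h.star1 hp p1 hp' p1' ne h1 T1 e1)
  have h3 := mul_mem (inv_mem hu) h1
  have h4 := (h.mulW hW (h.inW hp p1 hp' p1' ne h3)).2 t1 T1
  rw [mul_inv_cancel_left] at h4
  refine k1 (h4 ▸ sp_add ?_ (h.star1 hp p1 hp' p1' ne h3 T1
    (h.idx p' hp' p1' u hW.1 u1 (h.UT p hp p1 h1) k e1)))
  by_cases e2 : t1 ∈ Q p
  · exact sp_mono (h.inQ hp p1 hu e2).2
  · exact sp_of (h.outQ hp p1 hu ht hn (hW.2 t ht) T1 e2).2 e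

end Ab

/-- A point with an element of its group and the coordinates. -/
structure Tr (T V : Subgroup G) (c : G → V3) (U Q : G → Subgroup G) (p u t : G) (x ρ : V3) :
    Prop where
  pV : p ∈ V
  p1 : p ≠ 1
  uU : u ∈ U p
  tT : t ∈ T
  tQ : t ∉ Q p
  uV : ⁅u, t⁆ ∈ V
  cp : c p = x
  cu : c ⁅u, t⁆ = ρ

variable {T V : Subgroup G} {c : G → V3} {U Q : G → Subgroup G} {z p u u' t t' σ : G}
  {x ρ r : V3}

theorem Tr.cd (h : Ab T V c U Q) (h0 : Tr T V c U Q z u' t' e1 r) (h1 : Tr T V c U Q p u t x ρ)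
    (ne : x ≠ e1) : InW T V u ∧ Cd x ρ r (c ⁅u, u'⁆) := by
  have n : p ≠ z := fun e => ne (by rw [← h1.cp, e, h0.cp])
  have W1 := h.inW h1.pV h1.p1 h0.pV h0.p1 n h1.uU
  have W0 := h.inW h0.pV h0.p1 h1.pV h1.p1 n.symm h0.uU
  obtain ⟨a1, a2, a3, a4, a5, a6, a7, rfl⟩ := h0
  obtain ⟨b1, b2, b3, b4, b5, b6, rfl, rfl⟩ := h1
  refine ⟨W1, ?_⟩
  unfold Cd
  rw [← a7]
  refine ⟨fun e => (h.inQ b1 b2 b3 (h.star2 a1 a2 b1 b2 n.symm a3 a4 a5 e)).2,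
    fun e => (h.outQ b1 b2 b3 b4 b5 b6 W0.1 fun k => e (h.star1 a1 a2 b1 b2 n.symm a3 a4 k)).2,
    fun e => ?_, fun e => ?_⟩ <;> rw [h.symm (W0.2 u W1.1)]
  · exact (h.inQ a1 a2 a3 (h.star2 b1 b2 a1 a2 n b3 b4 b5 e)).2
  · exact (h.outQ a1 a2 a3 a4 a5 a6 W1.1 fun k => e (h.star1 b1 b2 a1 a2 n b3 b4 k)).2

theorem Ab.false (h : Ab T V c U Q) (hz : z ∈ V) (cz : c z = e1)
    (ab : ∀ a ∈ U z, ∀ b ∈ U z, ⁅a, b⁆ = 1) (s7 : σ ^ 7 = 1)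
    (nx : ∀ p u t x ρ, Tr T V c U Q p u t x ρ →
      Tr T V c U Q (σ * p * σ⁻¹) (σ * u * σ⁻¹) (σ * t * σ⁻¹) (A x) (A ρ))
    (fp : ∀ w ∈ T, ⁅w, σ⁆ ∈ V → w ∈ V) : False := by
  have z1 : z ≠ 1 := fun e => by
    rw [e, h.one] at cz
    exact absurd cz (by decide)
  obtain ⟨p, hp, cp⟩ := h.sur (A e1)
  have p1 : p ≠ 1 := fun e => by
    rw [e, h.one] at cp
    exact absurd cp (by decide)
  have n : z ≠ p := fun e => ne1.1 (by rw [← cp, ← e, cz])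
  obtain ⟨u, hu, t, ht, k⟩ := h.big hz z1 hp p1 n 0
  have tQ : t ∉ Q z := fun e => k (h.inQ hz z1 hu e).2
  have tT := h.UT p hp p1 ht
  obtain ⟨u', hu', t', ht', k'⟩ := h.big hz z1 hp p1 n (c ⁅u, t⁆)
  have tQ' : t' ∉ Q z := fun e => k' (sp_mono (h.inQ hz z1 hu' e).2)
  have tT' := h.UT p hp p1 ht'
  have W0 := h.inW hz z1 hp p1 n hu
  have W' := h.inW hz z1 hp p1 n hu'
  have h' : Tr T V c U Q z u' t' e1 _ := ⟨hz, z1, hu', tT', tQ', W'.2 _ tT', cz, rfl⟩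
  have h0 : Tr T V c U Q z u t e1 _ := ⟨hz, z1, hu, tT, tQ, W0.2 _ tT, cz, rfl⟩
  have h1 := nx _ _ _ _ _ h0
  have h2 := nx _ _ _ _ _ h1
  have h3 := nx _ _ _ _ _ h2
  have h4 := nx _ _ _ _ _ h3
  have h5 := nx _ _ _ _ _ h4
  have h6 := nx _ _ _ _ _ h5
  obtain ⟨n1, n2, n3, n4, n5, n6⟩ := ne1
  obtain ⟨W1, c1⟩ := Tr.cd h h' h1 n1
  obtain ⟨W2, c2⟩ := Tr.cd h h' h2 n2
  obtain ⟨W3, c3⟩ := Tr.cd h h' h3 n3
  obtain ⟨W4, c4⟩ := Tr.cd h h' h4 n4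
  obtain ⟨W5, c5⟩ := Tr.cd h h' h5 n5
  obtain ⟨W6, c6⟩ := Tr.cd h h' h6 n6
  rw [cz] at k k'
  refine fin _ _ k k' _ c1 _ c2 _ c3 _ c4 _ c5 _ c6 ?_
  have e7 : σ * (σ * (σ * (σ * (σ * (σ * (σ * u * σ⁻¹) * σ⁻¹) * σ⁻¹) * σ⁻¹) * σ⁻¹) * σ⁻¹) * σ⁻¹ =
      u := by
    rw [show (7 : ℕ) = 0 + 1 + 1 + 1 + 1 + 1 + 1 + 1 from rfl] at s7
    simp only [pow_succ, pow_zero, one_mul] at s7
    calc _ = (σ * σ * σ * σ * σ * σ * σ) * u * (σ * σ * σ * σ * σ * σ * σ)⁻¹ := by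
          simp only [mul_inv_rev, mul_assoc]
      _ = u := by rw [s7]; group
  generalize e1 : σ * u * σ⁻¹ = u1 at *
  generalize e2 : σ * u1 * σ⁻¹ = u2 at *
  generalize e3 : σ * u2 * σ⁻¹ = u3 at *
  generalize e4 : σ * u3 * σ⁻¹ = u4 at *
  generalize e5 : σ * u4 * σ⁻¹ = u5 at *
  generalize e6 : σ * u5 * σ⁻¹ = u6 at *
  obtain ⟨X5, d5⟩ := h.mulW W5 W6
  obtain ⟨X4, d4⟩ := h.mulW W4 X5
  obtain ⟨X3, d3⟩ := h.mulW W3 X4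
  obtain ⟨X2, d2⟩ := h.mulW W2 X3
  obtain ⟨X1, d1⟩ := h.mulW W1 X2
  obtain ⟨X0, d0⟩ := h.mulW W0 X1
  have hn := fp _ X0.1 (by
    have e : σ * (u * (u1 * (u2 * (u3 * (u4 * (u5 * u6)))))) * σ⁻¹ =
        u⁻¹ * (u * (u1 * (u2 * (u3 * (u4 * (u5 * u6)))))) * u := by
      rw [← conj_mul (b := σ), ← conj_mul (b := σ), ← conj_mul (b := σ), ← conj_mul (b := σ),
        ← conj_mul (b := σ), ← conj_mul (b := σ), e1, e2, e3, e4, e5, e6, e7]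
      group
    have := X0.2 _ (inv_mem W0.1)
    generalize u * (u1 * (u2 * (u3 * (u4 * (u5 * u6))))) = w at *
    rw [show ⁅w, σ⁆ = w * (σ * w * σ⁻¹)⁻¹ by rw [commutatorElement_def]; group, e]
    rwa [show w * (u⁻¹ * w * u)⁻¹ = ⁅w, u⁻¹⁆ by rw [commutatorElement_def]; group])
  have e0 := d0 u' W'.1
  rw [d1 u' W'.1, d2 u' W'.1, d3 u' W'.1, d4 u' W'.1, d5 u' W'.1, ab u hu u' hu', h.one, zero_add,
    commutatorElement_eq_one_iff_mul_comm.2 (mul_inv_eq_iff_eq_mul.1 (h.cen _ hn u' W'.1)).symm,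
    h.one] at e0
  exact e0.symm

theorem cj_Uz (m z : G) (V : Subgroup G) : cj m (Uz V z) = Uz (cj m V) (m * z * m⁻¹) := by
  have k : ∀ (m z : G) (V : Subgroup G), cj m (Uz V z) ≤ Uz (cj m V) (m * z * m⁻¹) :=
    fun m z V => by
    rw [Uz, cj_iSup]
    refine iSup_le fun k => le_iSup_of_le ⟨m * k * m⁻¹, cj_C1 m z ▸ conj_mem_cj.2 k.2⟩ ?_
    rw [cj_cj, cj_cj, inv_mul_cancel_right]
  refine le_antisymm (k m z V) (cj_inv_le_iff_le_cj.1 ((k m⁻¹ _ _).trans ?_))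
  rw [cj_inv_cj, show m⁻¹ * (m * z * m⁻¹) * m⁻¹⁻¹ = z by group]

theorem cj_Qz (m z : G) : cj m (Qz z) = Qz (m * z * m⁻¹) := by
  change cj m (pCoreOf 2 (C1 z)) = pCoreOf 2 (C1 (m * z * m⁻¹))
  rw [← cj_C1, Local.MSS.pCoreOf_cj]

end CF

open CF

theorem cf : StCF.{u} := by
  intro G _ _ M S V π c z y h sl sb su hU i2 hh hc
  have pj := sl.ty.toPj
  have nT : ∀ m ∈ M, cj m (O2 M) = O2 M := fun m hm => mem_Ns_iff.1 (P8.PjBH.nor pj hm)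
  have nV : ∀ m ∈ M, cj m V = V := fun m hm => mem_Ns_iff.1 (sl.nor hm)
  have cU : ∀ m ∈ M, ∀ p, cj m (Uz V p) = Uz V (m * p * m⁻¹) := fun m hm p => by
    rw [cj_Uz, nV m hm]
  have cV : ∀ m ∈ M, ∀ v ∈ V, m * v * m⁻¹ ∈ V := fun m hm => cj_le_iff.1 (nV m hm).le
  have cT : ∀ m ∈ M, ∀ v ∈ O2 M, m * v * m⁻¹ ∈ O2 M := fun m hm => cj_le_iff.1 (nT m hm).le
  have z2 : z * z = 1 := by rw [← pow_two, ← sb.oz, pow_orderOf_eq_one]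
  have z1 : z ≠ 1 := fun e => by have := sb.oz; rw [e, orderOf_one] at this; omega
  have ab : ∀ a ∈ Uz V z, ∀ b ∈ Uz V z, ⁅a, b⁆ = 1 := fun a ha b hb =>
    commutatorElement_eq_one_iff_mul_comm.2
      (congrArg Subtype.val ((su.ab hU).1.is_comm.comm ⟨a, ha⟩ ⟨b, hb⟩))
  have inj : ∀ a ∈ V, ∀ b ∈ V, c a = c b → a = b := fun a ha b hb e =>
    inv_mul_eq_one.1 ((sl.crd.zero _ (mul_mem (inv_mem ha) hb)).1 (by
      have := sl.crd.add _ (inv_mem ha) _ ha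
      rw [inv_mul_cancel, (sl.crd.zero 1 V.one_mem).2 rfl] at this
      rw [sl.crd.add _ (inv_mem ha) _ hb, ← e, ← this]))
  obtain ⟨b, hb, cb⟩ := sl.crd.sur ![0, 1, 0]
  have t2 : ∀ p ∈ V, p ≠ 1 → ∀ p' ∈ V, p' ≠ 1 → p ≠ p' →
      ∃ m ∈ M, m * z * m⁻¹ = p ∧ m * b * m⁻¹ = p' := fun p hp p1 p' hp' p1' ne => by
    obtain ⟨g, g1, g2⟩ := tr2 (fun e => p1 ((sl.crd.zero p hp).1 e))
      (fun e => p1' ((sl.crd.zero p' hp').1 e)) fun e => ne (inj p hp p' hp' e)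
    obtain ⟨m, hm, rfl⟩ := pj.sur g
    exact ⟨m, hm, inj _ (cV m hm z sl.zV) _ hp (by rw [sl.crd.eqv m hm z sl.zV, sl.cz, g1]),
      inj _ (cV m hm b hb) _ hp' (by rw [sl.crd.eqv m hm b hb, cb, g2])⟩
  have e0 : ⁅Uz V z, Uz V b⁆ = V := by
    rw [cU h hh] at hc
    have ne : z ≠ h * z * h⁻¹ := fun e => by
      rw [← e] at hc
      exact z1 ((hc.ge.trans (commutator_le.2 fun a ha b hb => mem_bot.2 (ab a ha b hb))) sl.zV)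
    obtain ⟨m, hm, m1, m2⟩ := t2 z sl.zV z1 _ (cV h hh z sl.zV)
      (fun e => z1 (conj_eq_one_iff.1 e)) ne
    refine cj_injective m ?_
    rw [cj_commutator, cU m hm, cU m hm, m1, m2, hc, nV m hm]
  have hA : Ab (O2 M) V c (Uz V) Qz :=
    { add := sl.crd.add
      zero := sl.crd.zero
      sur := sl.crd.sur
      cen := fun v hv t ht => mul_inv_eq_iff_eq_mul.2 (mem_Cs.1 (sb.cV.ge ht) v hv).symm
      UT := fun p hp p1 => by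
        obtain ⟨m, hm, rfl⟩ := sb.tr p hp p1
        rw [← cU m hm, ← nT m hm]
        exact cj_mono m hU
      cm := fun p hp p1 u hu q hq => by
        obtain ⟨m, hm, rfl⟩ := sb.tr p hp p1
        rw [← cU m hm] at hu
        rw [← cj_Qz] at hq
        obtain ⟨u, hu, rfl⟩ := hu
        obtain ⟨q, hq, rfl⟩ := hq
        rw [← map_commutatorElement]
        rcases Tl.mem_zpowers_of_sq z2 (su.sec.cen (commutator_mem_commutator hu hq)) with e | e <;>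
          rw [e]
        exacts [.inl (map_one _), .inr rfl]
      idx := fun p hp p1 a ha a' ha' n n' => by
        obtain ⟨m, hm, rfl⟩ := sb.tr p hp p1
        rw [← cj_Qz, mem_cj] at n n' ⊢
        rw [← nT m hm, mem_cj] at ha ha'
        have := (mul_mem_iff_of_index_two (H := (Qz z).subgroupOf (Q1 M z)) i2
          (a := ⟨_, inv_mem (sb.TQ ha)⟩) (b := ⟨_, sb.TQ ha'⟩)).2
          (iff_of_false (fun e => n (inv_mem_iff.1 (mem_subgroupOf.1 e))) n')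
        rw [show m⁻¹ * (a⁻¹ * a') * m = (m⁻¹ * a * m)⁻¹ * (m⁻¹ * a' * m) by group]
        exact this
      all := fun p hp p1 p' hp' p1' ne => by
        obtain ⟨m, hm, rfl, rfl⟩ := t2 p hp p1 p' hp' p1' ne
        rw [← cU m hm, ← cU m hm, ← cj_commutator, e0, nV m hm] }
  obtain ⟨a, ha, ea⟩ := pj.sur s7
  obtain ⟨σ, h1, h2, h3⟩ := P8.PjBH.odd pj a ha (by rw [ea, s7_ord]; decide)
  rw [ea] at h2 h3
  rw [s7_ord] at h3
  have hσ : σ ∈ M := zpowers_le.2 ha h1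
  refine hA.false sl.zV sl.cz ab (h3 ▸ pow_orderOf_eq_one σ) (fun p u t x ρ k => ?_)
    (sb.fp σ hσ h3)
  have e : ⁅σ * u * σ⁻¹, σ * t * σ⁻¹⁆ = σ * ⁅u, t⁆ * σ⁻¹ := (conjugate_commutatorElement u t σ).symm
  exact ⟨cV σ hσ p k.pV, fun e => k.p1 (conj_eq_one_iff.1 e), cU σ hσ p ▸ conj_mem_cj.2 k.uU,
    cT σ hσ t k.tT, fun e => k.tQ (conj_mem_cj.1 (cj_Qz σ p ▸ e)), e ▸ cV σ hσ _ k.uV,
    by rw [sl.crd.eqv σ hσ p k.pV, h2, s7_mv, k.cp],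
    by rw [e, sl.crd.eqv σ hσ _ k.uV, h2, s7_mv, k.cu]⟩

end Cfsg.Lib.K7
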