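import Cfsg.Agent.K7.Loc2
import Cfsg.Agent.K35.K0d

/-!
# Simple groups of order `7 * 3 ^ a * 2 ^ b`: the critical subgroup of exponent three
-/

set_option autoImplicit false

namespace Cfsg.Lib.K7

open Cfsg Subgroup Cfsg.Lib.Trans Cfsg.Lib.Gold
open Cfsg.Lib.K35.K0d (sq3 ord3 clo e27)
open scoped commutatorElement

universe u

namespace CrAux

open Ngrp Ngrp.G48

theorem cen : ∀ g : G48, (∀ k : G48, k * g = g * k) → g = 1 ∨ g = neg1 := by decide +kernel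

theorem n1 : neg1 ≠ 1 := by decide

theorem n2 : neg1 * neg1 = 1 := by decide

variable {X : Type u} [Group X] [Finite X] {E : Subgroup X}

theorem rep9 [hE : E.Normal] (h : ∀ a ∈ E, ∀ b ∈ E, a * b = b * a) (e3 : ∀ a ∈ E, a ^ 3 = 1)
    (c : Nat.card E = 3 ^ 2) : ∃ φ : X →* G48, (∀ g, φ g = 1 ↔ g ∈ Cs E) ∧
      ∀ g, φ g = neg1 → ∀ e ∈ E, g * e * g⁻¹ = e⁻¹ := by
  have := Fact.mk Nat.prime_three
  have : Solv.ElemAb 3 E := ⟨fun a b => Subtype.ext (h _ a.2 _ b.2), fun a => Subtype.ext (e3 _ a.2)⟩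
  obtain ⟨e, -⟩ := TameGL2.exists_coord
    (Module.finBasisOfFinrankEq (ZMod 3) _ (Solv.Vec.finrank_eq_of_card c))
  let ι : MulAut E :=
    { toFun := fun a => a⁻¹
      invFun := fun a => a⁻¹
      left_inv := inv_inv
      right_inv := inv_inv
      map_mul' := fun a b => by
        rw [mul_inv_rev]; exact Subtype.ext (h _ b⁻¹.2 _ a⁻¹.2) }
  have hι : (e.trans equivGL.symm) ι = neg1 := by
    refine (cen _ fun k => ?_).resolve_left fun k => ?_
    · obtain ⟨σ, rfl⟩ := (e.trans equivGL.symm).surjective k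
      rw [← map_mul, ← map_mul]
      exact congrArg _ (MulEquiv.ext fun a => map_inv σ a)
    · rw [EmbeddingLike.map_eq_one_iff] at k
      have : E = ⊥ := eq_bot_iff.2 fun a ha =>
        sq3 (e3 a ha) (congrArg (fun σ : MulAut E => (σ ⟨a, ha⟩ : X)) k)
      rw [this, card_bot] at c
      omega
  refine ⟨(e.trans equivGL.symm).toMonoidHom.comp MulAut.conjNormal, fun g => ?_, fun g k a ha => ?_⟩
  · rw [MonoidHom.comp_apply, MulEquiv.coe_toMonoidHom, EmbeddingLike.map_eq_one_iff, mem_Cs]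
    exact ⟨fun k a ha =>
      (mul_inv_eq_iff_eq_mul.1 (congrArg (fun σ : MulAut E => (σ ⟨a, ha⟩ : X)) k)).symm,
      fun k => MulEquiv.ext fun a => Subtype.ext (mul_inv_eq_iff_eq_mul.2 (k _ a.2).symm)⟩
  · rw [MonoidHom.comp_apply, MulEquiv.coe_toMonoidHom, ← hι] at k
    exact congrArg (fun σ : MulAut E => (σ ⟨a, ha⟩ : X)) ((e.trans equivGL.symm).injective k)

omit [Finite X] in
theorem rep3 [hE : E.Normal] {a : X} (a3 : a ^ 3 = 1) (a1 : a ≠ 1) (c : E = zpowers a) :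
    ∃ φ : X →* G48, (∀ g, φ g = 1 ↔ g ∈ Cs E) ∧
      ∀ g, φ g = neg1 → ∀ e ∈ E, g * e * g⁻¹ = e⁻¹ := by
  classical
  have k : ∀ g : X, g * a * g⁻¹ = a ∨ g * a * g⁻¹ = a⁻¹ := fun g =>
    (ord3 a3 (c ▸ hE.conj_mem a (c ▸ mem_zpowers a) g)).resolve_left
      fun e => a1 (conj_eq_one_iff.1 e)
  have n : a⁻¹ ≠ a := fun e => a1 (sq3 a3 e)
  have m : ∀ g h : X, g * h * a * (g * h)⁻¹ = g * (h * a * h⁻¹) * g⁻¹ := fun g h => by group
  refine ⟨MonoidHom.mk' (fun g => if g * a * g⁻¹ = a then 1 else neg1) fun g h => ?_,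
    fun g => ?_, fun g hg e he => ?_⟩
  · rw [m]
    rcases k h with e | e <;> rcases k g with e' | e'
    · simp only [e, e', if_true, mul_one]
    · simp only [e, e', n, if_true, if_false, mul_one]
    · simp only [e, ← conj_inv, e', n, if_true, if_false, one_mul]
    · simp only [e, ← conj_inv, e', n, inv_inv, if_true, if_false, n2]
  · rw [MonoidHom.mk'_apply, c, Cs_zpowers, mem_C1]
    by_cases e : g * a * g⁻¹ = a
    · rw [if_pos e]; exact ⟨fun _ => mul_inv_eq_iff_eq_mul.1 e, fun _ => rfl⟩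
    · rw [if_neg e]; exact ⟨fun e' => (n1 e').elim, fun e' => (e (mul_inv_eq_iff_eq_mul.2 e')).elim⟩
  · rw [MonoidHom.mk'_apply] at hg
    have e' : g * a * g⁻¹ = a⁻¹ := (k g).resolve_left fun e' => by
      rw [if_pos e'] at hg; exact n1 hg.symm
    obtain ⟨j, rfl⟩ := c ▸ he
    simp only [← conj_zpow, e', inv_zpow]

theorem rep [hE : E.Normal] (h : ∀ a ∈ E, ∀ b ∈ E, a * b = b * a) (e3 : ∀ a ∈ E, a ^ 3 = 1)
    (c : Nat.card E ≤ 9) : ∃ φ : X →* G48, (∀ g, φ g = 1 ↔ g ∈ Cs E) ∧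
      ∀ g, φ g = neg1 → ∀ e ∈ E, g * e * g⁻¹ = e⁻¹ := by
  have := Fact.mk Nat.prime_three
  have E3 : IsPGroup 3 E := Solv.PG.isPGroup_of_forall_mem fun a ha => ⟨1, e3 a ha⟩
  by_cases h0 : E = ⊥
  · subst h0
    exact ⟨1, fun g => ⟨fun _ => mem_Cs.2 fun a ha => by rw [mem_bot.1 ha]; simp, fun _ => rfl⟩,
      fun g k => (n1 k.symm).elim⟩
  obtain ⟨a, ha, a1⟩ : ∃ a ∈ E, a ≠ 1 := by
    by_contra! k
    exact h0 (eq_bot_iff.2 k)
  by_cases h1 : E = zpowers a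
  · exact rep3 (e3 a ha) a1 h1
  have k := Solv.PG.prime_mul_card_le_of_lt E3 ((zpowers_le.2 ha).lt_of_ne (Ne.symm h1))
  rw [Nat.card_zpowers, orderOf_eq_prime (e3 a ha) a1] at k
  exact rep9 h e3 (by omega)

theorem cs (hr : PRankLE 3 2 X) (e3 : ∀ a ∈ E, a ^ 3 = 1) (cl : ⁅E, E⁆ ≤ Cs E) :
    Nat.card E ≤ 3 ∨ (Nat.card E = 9 ∧ ⁅E, E⁆ = ⊥) ∨
      (Nat.card E = 27 ∧ Nat.card ↥⁅E, E⁆ = 3 ∧ E ⊓ Cs E = ⁅E, E⁆) := by
  have := Fact.mk Nat.prime_three
  have E3 : IsPGroup 3 E := Solv.PG.isPGroup_of_forall_mem fun a ha => ⟨1, e3 a ha⟩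
  by_cases h : ∀ a ∈ E, ∀ b ∈ E, a * b = b * a
  · have k := hr E (Solv.PG.isMulCommutative_of_forall h) e3
    obtain ⟨n, hn⟩ := IsPGroup.iff_card.1 E3
    have : n ≤ 2 := (Nat.pow_le_pow_iff_right (by decide)).1 (hn ▸ k)
    have : n = 0 ∨ n = 1 ∨ n = 2 := by omega
    rcases this with rfl | rfl | rfl
    · exact .inl (by omega)
    · exact .inl (by omega)
    · exact .inr (.inl ⟨hn, commutator_eq_bot_iff_le_centralizer.2 fun b hb =>
        mem_Cs.2 fun a ha => h a ha b hb⟩)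
  push Not at h
  obtain ⟨a, ha, b, hb, n⟩ := h
  have m := commutator_mem_commutator ha hb
  have le : ⁅E, E⁆ ≤ E := commutator_le_left_of_le le_normalizer
  have z1 : ⁅a, b⁆ ≠ 1 := fun e => n (commutatorElement_eq_one_iff_mul_comm.1 e)
  have na : a ∉ Cs E := fun k => n (mem_Cs.1 k _ hb).symm
  have k1 : E ⊓ Cs E ≤ zpowers ⁅a, b⁆ := fun y hy => by_contra fun n' =>
    e27 hr (e3 _ (le m)) (e3 _ hy.1) (e3 _ ha) (mem_Cs.1 hy.2 _ (le m))
      (mem_Cs.1 (cl m) _ ha).symm (mem_Cs.1 hy.2 _ ha).symm z1 (mem_zpowers _) n' (cl m) hy.2 na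
  have k2 : E ⊓ Cs E = ⁅E, E⁆ := le_antisymm (k1.trans (zpowers_le.2 m)) (le_inf le cl)
  have k3 : ⁅E, E⁆ = zpowers ⁅a, b⁆ := le_antisymm (k2 ▸ k1) (zpowers_le.2 m)
  have c3 : Nat.card ↥⁅E, E⁆ = 3 := by
    rw [k3, Nat.card_zpowers, orderOf_eq_prime (e3 _ (le m)) z1]
  refine .inr (.inr ⟨le_antisymm ?_ ?_, c3, k2⟩)
  · let f : E →* X := MonoidHom.mk' (fun e => ⁅a, (e : X)⁆) fun e e' => by
      have := mem_Cs.1 (cl (commutator_mem_commutator ha e'.2)) _ e⁻¹.2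
      calc ⁅a, ((e * e' : E) : X)⁆ = a * e * a⁻¹ * (⁅a, (e' : X)⁆ * ((e⁻¹ : E) : X)) := by
            simp only [commutatorElement_def, coe_mul, coe_inv]; group
        _ = _ := by rw [← this]; simp only [commutatorElement_def, coe_inv]; group
    have r : Nat.card f.range ≤ 3 := c3 ▸ Subgroup.card_le_of_le (by
      rintro _ ⟨e, rfl⟩; exact commutator_mem_commutator ha e.2)
    have kc : f.ker.map E.subtype ≤ closure {⁅a, b⁆, a} := by
      rintro _ ⟨e, he, rfl⟩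
      by_contra n'
      exact e27 hr (e3 _ (le m)) (e3 _ ha) (e3 _ e.2) (mem_Cs.1 (cl m) _ ha).symm
        (mem_Cs.1 (cl m) _ e.2).symm (commutatorElement_eq_one_iff_mul_comm.1 he) z1 (cl m) na
        (subset_closure (by simp)) (subset_closure (by simp)) n'
    have cm := clo (s := {⁅a, b⁆, a}) (by simp [mem_Cs.1 (cl m) _ ha])
    have k := hr _ (Solv.PG.isMulCommutative_of_forall fun x hx y hy => cm x (kc hx) y (kc hy))
      fun x hx => e3 x (map_subtype_le _ hx)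
    rw [card_subtype] at k
    rw [← f.ker.card_mul_index, index_ker]
    exact Nat.mul_le_mul k r
  · have l1 : ⁅E, E⁆ < E ⊓ C1 a := (le_inf le (cl.trans (Cs_le_C1 ha))).lt_of_ne
      fun e => na (cl (e.ge ⟨ha, mem_C1.2 rfl⟩))
    have l2 : E ⊓ C1 a < E := inf_le_left.lt_of_ne fun e => n (mem_C1.1 (e.ge hb).2).symm
    have k4 := Solv.PG.prime_mul_card_le_of_lt (E3.to_le l2.le) l1
    have k5 := Solv.PG.prime_mul_card_le_of_lt E3 l2
    omega

omit [Finite X] in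
theorem cube (e3 : ∀ a ∈ E, a ^ 3 = 1) (cl : ⁅E, E⁆ ≤ Cs E) {g : X}
    (h : ∀ e ∈ E, ⁅g, e⁆ ∈ ⁅E, E⁆) : g ^ 3 ∈ Cs E := by
  have le : ⁅E, E⁆ ≤ E := commutator_le_left_of_le le_normalizer
  have k : ⁅E, E⁆ ≤ C1 g := commutator_le.2 fun a ha b hb => mem_C1.2 (by
    have a1 := mem_Cs.1 (cl (h a ha))
    have b1 := mem_Cs.1 (cl (h b hb))
    have ea : g * a * g⁻¹ = ⁅g, a⁆ * a := by rw [commutatorElement_def]; group
    have eb : g * b * g⁻¹ = ⁅g, b⁆ * b := by rw [commutatorElement_def]; group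
    have : g * ⁅a, b⁆ * g⁻¹ = ⁅a, b⁆ := by
      rw [conjugate_commutatorElement, ea, eb]
      generalize ⁅g, a⁆ = y at *
      have yE := h b hb
      generalize ⁅g, b⁆ = w at *
      have c1 : Commute a y := a1 a ha
      have c2 : Commute b y := a1 b hb
      have c3 : Commute w y := a1 w (le yE)
      have c4 : Commute a w := b1 a ha
      have c5 : Commute b w := b1 b hb
      calc ⁅y * a, w * b⁆ = y * (a * (w * b) * a⁻¹) * y⁻¹ * (w * b)⁻¹ := by
            rw [commutatorElement_def]; group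
        _ = a * (w * b) * a⁻¹ * (w * b)⁻¹ := by
            rw [← ((c1.mul_left (c3.mul_left c2)).mul_left c1.inv_left).eq, mul_inv_cancel_right]
        _ = w * ⁅a, b⁆ * w⁻¹ := by
            rw [← mul_assoc a w, c4.eq, commutatorElement_def]; group
        _ = _ := by
            rw [← b1 _ (le (commutator_mem_commutator ha hb)), mul_inv_cancel_right]
    first
      | exact mul_inv_eq_iff_eq_mul.1 this
      | exact (mul_inv_eq_iff_eq_mul.1 this).symm)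
  refine mem_Cs.2 fun e he => (mul_inv_eq_iff_eq_mul.1 ?_).symm
  have y3 := e3 _ (le (h e he))
  have yg : g * ⁅g, e⁆ * g⁻¹ = ⁅g, e⁆ := by
    first
      | exact mul_inv_eq_iff_eq_mul.2 (mem_C1.1 (k (h e he)))
      | exact mul_inv_eq_iff_eq_mul.2 (mem_C1.1 (k (h e he))).symm
  have ee : g * e * g⁻¹ = ⁅g, e⁆ * e := by rw [commutatorElement_def]; group
  generalize ⁅g, e⁆ = y at *
  calc g ^ 3 * e * (g ^ 3)⁻¹ = g * (g * (g * e * g⁻¹) * g⁻¹) * g⁻¹ := by
        rw [pow_succ, pow_two]; group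
    _ = y ^ 3 * e := by
        simp only [ee, ← conj_mul, yg]; rw [pow_succ, pow_two]; group
    _ = e := by rw [y3, one_mul]

end CrAux

theorem cr : StCr.{u} := fun X _ _ h => by
  have := Fact.mk Nat.prime_two
  have := Fact.mk Nat.prime_three
  have := h.sol
  have hD : IsPiSubgroup {3} (pPrimeCore 2 X) := fun p hp' d =>
    (h.pr p hp' (d.trans (card_subgroup_dvd_card _))).resolve_left fun e =>
      Solv.not_dvd_card_pPrimeCore 2 X (e ▸ d)
  obtain ⟨E, hE, n, c, e3, -, f⟩ := FT.critical_odd Nat.prime_three hD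
    (Nat.coprime_two_right.1 (Solv.coprime_card_pPrimeCore 2 X))
  rw [normalizer_eq_top] at n f
  have nor : E.Normal := Solv.PG.normal_of_top_le_normalizer n
  have cl : ⁅E, E⁆ ≤ Cs E := (commutator_mono le_rfl hE).trans (c.trans inf_le_right)
  have le : ⁅E, E⁆ ≤ E := commutator_le_left_of_le le_normalizer
  have cs := CrAux.cs h.r3 e3 cl
  have q : ∀ x : X, QuotientGroup.mk' ⁅E, E⁆ x = 1 ↔ x ∈ ⁅E, E⁆ := QuotientGroup.eq_one_iff
  have nor' : (E.map (QuotientGroup.mk' ⁅E, E⁆)).Normal :=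
    nor.map _ (QuotientGroup.mk'_surjective _)
  obtain ⟨φ, h1, h2⟩ := CrAux.rep (E := E.map (QuotientGroup.mk' ⁅E, E⁆)) (by
    rintro _ ⟨a, ha, rfl⟩ _ ⟨b, hb, rfl⟩
    rw [← commutatorElement_eq_one_iff_mul_comm, ← map_commutatorElement, q]
    exact commutator_mem_commutator ha hb) (by
    rintro _ ⟨a, ha, rfl⟩
    rw [← map_pow, e3 a ha, map_one]) (by
    have k := relIndex_mul_relIndex ⊥ _ _ bot_le le
    rw [relIndex_bot_left, relIndex_bot_left] at k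
    rw [← relIndex_ker, QuotientGroup.ker_mk']
    have p : 0 < Nat.card ↥⁅E, E⁆ := Nat.card_pos
    rcases cs with e | ⟨e, -⟩ | ⟨e, e', -⟩
    · nlinarith
    · nlinarith
    · rw [e, e'] at k; omega)
  have ker : ∀ g, φ.comp (QuotientGroup.mk' ⁅E, E⁆) g = 1 ↔ ∀ e ∈ E, ⁅g, e⁆ ∈ ⁅E, E⁆ := fun g => by
    rw [MonoidHom.comp_apply, h1, mem_Cs]
    refine ⟨fun k e he => ?_, ?_⟩
    · rw [← q, map_commutatorElement, commutatorElement_eq_one_iff_mul_comm]
      exact (k _ (mem_map_of_mem _ he)).symm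
    · rintro k _ ⟨e, he, rfl⟩
      rw [eq_comm, ← commutatorElement_eq_one_iff_mul_comm, ← map_commutatorElement, q]
      exact k e he
  refine ⟨E, φ.comp (QuotientGroup.mk' ⁅E, E⁆), nor, e3, cl, ker, fun g k e he => ?_,
    fun g k => ?_, cs⟩
  · rw [← q, map_mul, map_mul, map_mul, map_inv, h2 _ k _ (mem_map_of_mem _ he), inv_mul_cancel]
  · obtain ⟨j, hj⟩ := f _ ⟨trivial, CrAux.cube e3 cl ((ker g).1 k)⟩
    obtain ⟨i, hi⟩ := Solv.PG.exists_pow_prime_pow_eq_one (Solv.isPiSubgroup_singleton_iff.1 hD)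
      ((IsPSolvable.of_isSolvable 2 X).centralizer_pPrimeCore_le h.o2 hj)
    exact ⟨1 + j + i, by rw [pow_add, pow_add, pow_mul, pow_mul, pow_one, hi]⟩

end Cfsg.Lib.K7
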