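import Cfsg.Agent.K7.Defs
import Cfsg.Agent.S1001
import Cfsg.Agent.S0910
import Cfsg.Agent.S0915
import Cfsg.Agent.S4717
import Cfsg.Agent.AB.Two3
import Cfsg.Agent.PrimeOne.DegP
import Cfsg.Agent.Block.PrimeSylow
import Cfsg.Agent.Block.Osima

/-! Simple groups of order `p * 3 ^ a * 2 ^ b`: the order of a Sylow 2-subgroup modulo `p`. -/

set_option autoImplicit false

namespace Cfsg.Lib.K7

open Cfsg Subgroup Cfsg.Lib.Trans Cfsg.Lib.Gold

universe u

open Cfsg.Lib.PrimeOne Cfsg.Lib.Block.Princ in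
theorem dg : StDg.{u} := by
  intro G _ _ _ p hp p7 na ⟨a, b, e⟩ c2 S y hS hy
  classical
  have : Fact p.Prime := ⟨hp⟩
  have : Fact (Nat.Prime 2) := ⟨Nat.prime_two⟩
  have c5 : ∀ y : G, orderOf y = p → C1 y = zpowers y := Agent.S1001.result p a b hp e
  have q2 : p.Coprime 2 := (Nat.coprime_primes hp Nat.prime_two).2 (by omega)
  have q3 : p.Coprime 3 := (Nat.coprime_primes hp Nat.prime_three).2 (by omega)
  have cop : p.Coprime (3 ^ a * 2 ^ b) := (q3.pow_right a).mul_right (q2.pow_right b)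
  rw [mul_assoc] at e
  obtain ⟨P, hP'⟩ := (IsPGroup.of_card (G := zpowers y) (n := 1)
    (by rw [Nat.card_zpowers, hy, pow_one])).exists_le_sylow
  have hP := Block.PS.card_sylow_eq (e ▸ Dvd.intro _ rfl) (fun k => by
    rw [e, sq, Nat.mul_dvd_mul_iff_left hp.pos] at k
    exact hp.coprime_iff_not_dvd.1 cop k) P
  have yP := hP' (mem_zpowers y)
  have y1 : y ≠ 1 := by rintro rfl; rw [orderOf_one] at hy; omega
  obtain ⟨I, hI⟩ := exists_isPModular hp
  obtain ⟨t, X, Y, δ, ε, h⟩ := exists_B0 hI P hP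
  rw [← centralizer_singleton_eq hP yP y1, show centralizer {y} = zpowers y from c5 y hy,
    ← zpowers_eq hP yP y1] at h
  change B0 p I (ee y) t X Y δ ε at h
  obtain ⟨θ, hθ⟩ := h.Y_nonempty
  have u1 : ∀ {n : ℕ} {s : ℤ}, s = 1 ∨ s = -1 → (n : ℤ) ≡ s [ZMOD p] → ¬ p ∣ n := fun {n s} hs k d => by
    have k1 : (p : ℤ) ∣ s := by simpa using dvd_add k.dvd (Int.natCast_dvd_natCast.2 d)
    have : (p : ℤ) ∣ 1 := by rcases hs with rfl | rfl <;> simpa using k1
    have := Int.le_of_dvd one_pos this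
    omega
  obtain ⟨α, α1, α3, α5, αm⟩ : ∃ α : IrrCharacter G, α ≠ triv G ∧ ¬ 3 ∣ deg α ∧ ¬ p ∣ deg α ∧
      ((deg α : ℤ) ≡ 1 [ZMOD p] ∨ (deg α : ℤ) ≡ -1 [ZMOD p] ∨ (deg α : ℤ) ≡ ee y [ZMOD p] ∨
        (deg α : ℤ) ≡ -(ee y : ℤ) [ZMOD p]) := by
    by_contra k
    have k1 : 3 ∣ deg θ := by
      by_contra k1
      refine k ⟨θ, h.ne_triv hθ, k1, fun d => u1 (s := -ε) ?_ (h.deg_tY_modEq' hθ) (d.mul_left _), ?_⟩
      · rcases h.sign with rfl | rfl <;> simp
      · have k2 := h.deg_Y_modEq' hθ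
        rcases h.sign with rfl | rfl
        exacts [.inr (.inr (.inl (by simpa using k2))), .inr (.inr (.inr (by simpa using k2)))]
    have k2 : ∀ χ ∈ X.erase (triv G), (3 : ℤ) ∣ δ χ * deg χ := fun χ hχ => by
      obtain ⟨h1, h2⟩ := Finset.mem_erase.1 hχ
      refine (Int.natCast_dvd_natCast.2 (not_not.1 fun h3 => ?_)).mul_left _
      have k2 := h.deg_X_modEq' h2
      refine k ⟨χ, h1, h3, u1 (h.sign_X χ h2) k2, ?_⟩
      rcases h.sign_X χ h2 with e | e <;> rw [e] at k2
      exacts [.inl k2, .inr (.inl k2)]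
    have k5 := h.deg_rel hθ
    rw [← Finset.add_sum_erase _ _ h.triv_mem, h.δ_triv, deg_triv] at k5
    have k6 := (dvd_add_left (Finset.dvd_sum k2)).1
      (k5 ▸ (Int.natCast_dvd_natCast.2 k1).mul_left ε)
    norm_num at k6
  have h8 := deg_dvd_card α
  rw [e] at h8
  obtain ⟨k, kb, hk⟩ := (Nat.dvd_prime_pow Nat.prime_two).1
    (((Nat.prime_three.coprime_iff_not_dvd.2 α3).symm.pow_right a).dvd_of_dvd_mul_left
      ((hp.coprime_iff_not_dvd.2 α5).symm.dvd_of_dvd_mul_left h8))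
  obtain ⟨M, hM⟩ := exists_isPModular Nat.prime_two
  have d0 := (Agent.S4717.result (G := G) 2 M hM 1).2 one_pos (fun z hz B ⟨χ, hB⟩ ne => by
    have z1 : z ≠ 1 := by rintro rfl; simp at hz
    have : Group.IsSolvable (C1 z) := by
      refine Char.isSolvable_of_card_dvd (a := a) (b := b) Nat.prime_three Nat.prime_two _
        ((hp.coprime_iff_not_dvd.2 fun d => ?_).symm.dvd_of_dvd_mul_left
          (e ▸ card_subgroup_dvd_card _))
      obtain ⟨w, hw⟩ := exists_prime_orderOf_dvd_card' p d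
      rw [← orderOf_coe] at hw
      have k := orderOf_dvd_natCard _ ((c5 _ hw).le (mem_C1.2 (mem_C1.1 w.2).symm))
      rw [Nat.card_zpowers, hw, hz] at k
      exact absurd (Nat.Coprime.eq_one_of_dvd q2.symm (by simpa using k)) (by norm_num)
    have k := Agent.S0915.result 2 M hM (IsPSolvable.of_isSolvable 2 (C1 z))
      (Solv.pPrimeCore_eq_bot_of_centralizer_le (Local.charP_iff.1
        (Gomi.charP_C1 c2 (by rw [← sq, ← hz, pow_orderOf_eq_one]) z1)))
    exact (ne (hB.trans (Set.ext fun ψ => iff_of_true (k χ ψ) (k (triv _) ψ)))).elim)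
    _ ⟨α, rfl⟩ fun q => α1 (eq_triv_iff.2 (Agent.S0910.result 2 M hM (by
      by_contra k
      push Not at k
      exact na ⟨⟨k⟩⟩) α (q ▸ Block.mem_blockOf_self hM α) k (by rw [← deg_cast, hk]; simp)))
  have f1 : (Nat.card G).factorization 2 = b := by
    rw [e, Nat.factorization_mul hp.ne_zero (by positivity),
      Nat.factorization_mul (by positivity) (by positivity), Nat.prime_two.factorization_pow,
      Nat.prime_three.factorization_pow, hp.factorization]
    simp [show p ≠ 2 by omega]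
  have f2 := Nat.sInf_le (s := (fun χ : IrrCharacter G => (charDegree (χ : G → ℂ)).factorization 2) ''
    blockOf M (α : G → ℂ)) ⟨α, Block.mem_blockOf_self hM α, rfl⟩
  rw [blockDefect, f1] at d0
  have f3 : (charDegree (α : G → ℂ)).factorization 2 = k := by
    rw [show charDegree (α : G → ℂ) = 2 ^ k from hk, Nat.prime_two.factorization_pow]; simp
  simp only [f3] at f2
  obtain rfl : k = b := by omega
  have cS : Nat.card S = deg α := by
    rw [hk, ← f1]
    exact (hS.2.1.toSylow (relIndex_top_right S ▸ hS.2.2)).card_eq_multiplicity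
  rw [cS]
  exact αm

end Cfsg.Lib.K7
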