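import Cfsg.Agent.K7.Defs
import Cfsg.Agent.Class.PGL2Sub
import Cfsg.Agent.Block.ZhA7
import Cfsg.Agent.Bender.Groups
import Cfsg.Agent.S0245
import Cfsg.Agent.S0246
import Cfsg.Agent.S0255
import Cfsg.Agent.S0280

/-!
# Simple groups of order `p * 3 ^ a * 2 ^ b`: the infinite families
-/

set_option autoImplicit false

namespace Cfsg.Lib.K7

open Cfsg Subgroup
open Cfsg.Lib.K35 (PSL Alt)

universe u

namespace FamA

theorem c1 {a b : ℕ} (h : 2 ^ b + 1 = 3 ^ a) : b ≤ 3 := by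
  by_contra hb
  obtain ⟨c, rfl⟩ : ∃ c, b = c + 4 := ⟨b - 4, by omega⟩
  have h16 : 3 ^ a % 16 = 1 := by rw [← h, pow_add]; omega
  have per : ∀ k : ℕ, 3 ^ (4 * k) % 80 = 1 := by
    intro k
    induction k with
    | zero => norm_num
    | succ k ih => rw [show 4 * (k + 1) = 4 * k + 4 by ring, pow_add]; omega
  have h1 := per (a / 4)
  have h2 : a % 4 < 4 := Nat.mod_lt _ (by norm_num)
  have h3 : 3 ^ a = 3 ^ (4 * (a / 4)) * 3 ^ (a % 4) := by rw [← pow_add, Nat.div_add_mod]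
  have h5 : 5 ∣ 2 ^ (c + 4) := by
    generalize a % 4 = r at *
    generalize 3 ^ (4 * (a / 4)) = X at *
    interval_cases r <;> omega
  have := (Nat.prime_dvd_prime_iff_eq Nat.prime_five Nat.prime_two).1
    (Nat.prime_five.dvd_of_dvd_pow h5)
  omega

theorem c2 {a b : ℕ} (h : 3 ^ a + 1 = 2 ^ b) : b ≤ 2 := by
  by_contra hb
  obtain ⟨c, rfl⟩ : ∃ c, b = c + 3 := ⟨b - 3, by omega⟩
  have per : ∀ k : ℕ, 3 ^ k % 8 = 1 ∨ 3 ^ k % 8 = 3 := by
    intro k
    induction k with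
    | zero => norm_num
    | succ k ih => rw [pow_succ]; omega
  have := per a
  rw [pow_add] at h
  omega

theorem sm {m p a b : ℕ} (hp : p.Prime) (hm : ¬ p ∣ m) (h : m ∣ p * 3 ^ a * 2 ^ b) :
    ∃ i j, m = 3 ^ i * 2 ^ j := by
  have c : Nat.Coprime m p := ((hp.coprime_iff_not_dvd).2 hm).symm
  rw [mul_assoc] at h
  obtain ⟨x, y, hx, hy, rfl⟩ := exists_dvd_and_dvd_of_dvd_mul (c.dvd_of_dvd_mul_left h)
  obtain ⟨i, -, rfl⟩ := (Nat.dvd_prime_pow Nat.prime_three).1 hx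
  obtain ⟨j, -, rfl⟩ := (Nat.dvd_prime_pow Nat.prime_two).1 hy
  exact ⟨i, j, rfl⟩

/-- Consecutive numbers whose prime divisors are two and three. -/
theorem st {n p a b : ℕ} (hp : p.Prime) (h0 : ¬ p ∣ n) (h1 : ¬ p ∣ n + 1)
    (d0 : n ∣ p * 3 ^ a * 2 ^ b) (d1 : n + 1 ∣ p * 3 ^ a * 2 ^ b) :
    n = 1 ∨ n = 2 ∨ n = 3 ∨ n = 8 := by
  obtain ⟨i, j, e0⟩ := sm hp h0 d0
  obtain ⟨k, l, e1⟩ := sm hp h1 d1
  have hn : 0 < n := by rw [e0]; positivity
  rcases j with _ | j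
  · rcases i with _ | i
    · simp at e0; omega
    · rcases k with _ | k
      · have e : 3 ^ (i + 1) + 1 = 2 ^ l := by simpa [e0] using e1
        have := c2 e
        have : 2 ^ l ≤ 2 ^ 2 := Nat.pow_le_pow_right (by norm_num) this
        simp at e1
        omega
      · exfalso
        rw [pow_succ, mul_right_comm] at e0 e1
        omega
  · rcases l with _ | l
    · rcases i with _ | i
      · have e : 2 ^ (j + 1) + 1 = 3 ^ k := by simpa [e0] using e1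
        have hj := c1 e
        have hk : 3 ∣ 3 ^ k := dvd_pow_self 3 (by
          rintro rfl
          simp at e)
        rw [← e] at hk
        have hj' : j < 3 := by omega
        interval_cases j <;> simp at e0 hk <;> omega
      · rcases k with _ | k
        · simp at e1; omega
        · exfalso
          rw [pow_succ 3, mul_right_comm] at e0 e1
          omega
    · exfalso
      rw [pow_succ 2, ← mul_assoc] at e0 e1
      omega

theorem pr {t p a b : ℕ} (hp : p.Prime) (ht : t.Prime) (h5 : 5 ≤ t) (h : t ∣ p * 3 ^ a * 2 ^ b) :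
    t = p := by
  rcases (Nat.Prime.dvd_mul ht).1 h with h1 | h1
  · rcases (Nat.Prime.dvd_mul ht).1 h1 with h2 | h2
    · exact (Nat.prime_dvd_prime_iff_eq ht hp).1 h2
    · have := (Nat.prime_dvd_prime_iff_eq ht Nat.prime_three).1 (ht.dvd_of_dvd_pow h2)
      omega
  · have := (Nat.prime_dvd_prime_iff_eq ht Nat.prime_two).1 (ht.dvd_of_dvd_pow h1)
    omega

theorem n5 {p a b : ℕ} (hp : p.Prime) (h7 : 7 ≤ p) : ¬ 5 ∣ p * 3 ^ a * 2 ^ b := fun h => by
  have := pr hp Nat.prime_five le_rfl h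
  omega

theorem nsq {p a b : ℕ} (hp : p.Prime) (h7 : 7 ≤ p) : ¬ p * p ∣ p * 3 ^ a * 2 ^ b := fun h => by
  rw [mul_assoc] at h
  have h1 := Nat.dvd_of_mul_dvd_mul_left hp.pos h
  rcases (Nat.Prime.dvd_mul hp).1 h1 with h2 | h2
  · have := (Nat.prime_dvd_prime_iff_eq hp Nat.prime_three).1 (hp.dvd_of_dvd_pow h2)
    omega
  · have := (Nat.prime_dvd_prime_iff_eq hp Nat.prime_two).1 (hp.dvd_of_dvd_pow h2)
    omega

theorem l2 {p a b s d r k : ℕ} (hp : p.Prime) (h7 : 7 ≤ p) (hr : r.Prime) (hk : s + 1 = r ^ k)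
    (hs : 1 ≤ s) (hd : d ∣ 2) (h : d * (p * 3 ^ a * 2 ^ b) = (s + 1) * s * (s + 2)) :
    s + 1 = 7 ∨ s + 1 = 8 ∨ s + 1 = 17 := by
  have hN : (s + 1) * s * (s + 2) ∣ p * 3 ^ a * 2 ^ (b + 1) := by
    rw [← h, show p * 3 ^ a * 2 ^ (b + 1) = 2 * (p * 3 ^ a * 2 ^ b) by ring]
    exact Nat.mul_dvd_mul_right hd _
  have hpd : p ∣ (s + 1) * s * (s + 2) := by
    rw [← h]; exact ⟨d * 3 ^ a * 2 ^ b, by ring⟩
  have d0 : s ∣ p * 3 ^ a * 2 ^ (b + 1) := dvd_trans ((Dvd.intro_left _ rfl).mul_right _) hN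
  have d1 : s + 1 ∣ p * 3 ^ a * 2 ^ (b + 1) := dvd_trans ((Dvd.intro _ rfl).mul_right _) hN
  have d2 : s + 2 ∣ p * 3 ^ a * 2 ^ (b + 1) := dvd_trans (Dvd.intro_left _ rfl) hN
  have sml : ∀ m, 0 < m → m < 7 → ¬ p ∣ m := fun m h0 hm e => by
    have := Nat.le_of_dvd h0 e
    omega
  rcases (Nat.Prime.dvd_mul hp).1 hpd with e | e
  · rcases (Nat.Prime.dvd_mul hp).1 e with e | e
    · have hpr : p = r := (Nat.prime_dvd_prime_iff_eq hp hr).1 (hp.dvd_of_dvd_pow (hk ▸ e))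
      have ho : Odd (s + 1) := by
        rw [hk, ← hpr]
        exact (hp.odd_of_ne_two (by omega)).pow
      obtain ⟨t, ht⟩ := ho
      obtain rfl : s = 2 * t := by omega
      have q0 : ¬ p ∣ t := fun f => sml 1 (by norm_num) (by norm_num)
        ((Nat.dvd_add_right (f.mul_left 2)).1 e)
      have q1 : ¬ p ∣ t + 1 := fun f => sml 1 (by norm_num) (by norm_num) (by
        have := f.mul_left 2
        rw [show 2 * (t + 1) = 2 * t + 1 + 1 by ring] at this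
        exact (Nat.dvd_add_right e).1 this)
      have := st hp q0 q1 (dvd_trans (Dvd.intro_left _ rfl) d0) (dvd_trans ⟨2, by ring⟩ d2)
      have := Nat.le_of_dvd (by omega) e
      omega
    · have q1 : ¬ p ∣ s + 1 := fun f => sml 1 (by norm_num) (by norm_num) ((Nat.dvd_add_right e).1 f)
      have q2 : ¬ p ∣ s + 1 + 1 := fun f => sml 2 (by norm_num) (by norm_num)
        ((Nat.dvd_add_right e).1 f)
      have := st hp q1 q2 d1 d2
      have := Nat.le_of_dvd (by omega) e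
      omega
  · exfalso
    have q1 : ¬ p ∣ s + 1 := fun f => sml 1 (by norm_num) (by norm_num)
      ((Nat.dvd_add_right f).1 e)
    have q0 : ¬ p ∣ s := fun f => sml 2 (by norm_num) (by norm_num) ((Nat.dvd_add_right f).1 e)
    have h4 := st hp q0 q1 d0 d1
    have hle := Nat.le_of_dvd (by omega) e
    obtain rfl : s = 8 := by omega
    exact n5 hp h7 (dvd_trans (by norm_num) d2)

theorem l3 {p a b s d C : ℕ} (hp : p.Prime) (h7 : 7 ≤ p) (hd : d ∣ 3)
    (h : d * (p * 3 ^ a * 2 ^ b) = (s + 1) ^ 3 * (s * s) * (s + 2) * C) : s = 1 ∨ s = 2 := by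
  have hN : (s + 1) ^ 3 * (s * s) * (s + 2) * C ∣ p * 3 ^ (a + 1) * 2 ^ b := by
    rw [← h, show p * 3 ^ (a + 1) * 2 ^ b = 3 * (p * 3 ^ a * 2 ^ b) by ring]
    exact Nat.mul_dvd_mul_right hd _
  have d0 : s * s ∣ p * 3 ^ (a + 1) * 2 ^ b :=
    dvd_trans (((Dvd.intro_left _ rfl).mul_right _).mul_right _) hN
  have d1 : (s + 1) * (s + 1) ∣ p * 3 ^ (a + 1) * 2 ^ b :=
    dvd_trans ⟨(s + 1) * (s * s) * (s + 2) * C, by ring⟩ hN
  have d2 : s + 2 ∣ p * 3 ^ (a + 1) * 2 ^ b := dvd_trans ((Dvd.intro_left _ rfl).mul_right _) hN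
  have h4 := st hp (fun f => nsq hp h7 (dvd_trans (Nat.mul_dvd_mul f f) d0))
    (fun f => nsq hp h7 (dvd_trans (Nat.mul_dvd_mul f f) d1))
    (dvd_trans (Dvd.intro _ rfl) d0) (dvd_trans (Dvd.intro _ rfl) d1)
  have h5 : ¬ 5 ∣ s + 2 := fun f => n5 hp h7 (dvd_trans f d2)
  omega

theorem u3 {p a b s d : ℕ} (hp : p.Prime) (h7 : 7 ≤ p) (hs : 1 ≤ s) (hd : d ∣ 3)
    (h : d * (p * 3 ^ a * 2 ^ b) = (s + 1) ^ 3 * (s * (s + 2) * (s + 2)) * (s * s + s + 1)) :
    s = 2 := by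
  have hN : (s + 1) ^ 3 * (s * (s + 2) * (s + 2)) * (s * s + s + 1) ∣ p * 3 ^ (a + 1) * 2 ^ b := by
    rw [← h, show p * 3 ^ (a + 1) * 2 ^ b = 3 * (p * 3 ^ a * 2 ^ b) by ring]
    exact Nat.mul_dvd_mul_right hd _
  have hpd : p ∣ (s + 1) ^ 3 * (s * (s + 2) * (s + 2)) * (s * s + s + 1) := by
    rw [← h]; exact ⟨d * 3 ^ a * 2 ^ b, by ring⟩
  have d1 : (s + 1) * (s + 1) ∣ p * 3 ^ (a + 1) * 2 ^ b :=
    dvd_trans ⟨(s + 1) * (s * (s + 2) * (s + 2)) * (s * s + s + 1), by ring⟩ hN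
  have d2 : (s + 1 + 1) * (s + 1 + 1) ∣ p * 3 ^ (a + 1) * 2 ^ b :=
    dvd_trans ⟨(s + 1) ^ 3 * s * (s * s + s + 1), by ring⟩ hN
  have h4 := st hp (fun f => nsq hp h7 (dvd_trans (Nat.mul_dvd_mul f f) d1))
    (fun f => nsq hp h7 (dvd_trans (Nat.mul_dvd_mul f f) d2))
    (dvd_trans (Dvd.intro _ rfl) d1) (dvd_trans (Dvd.intro _ rfl) d2)
  by_contra h2
  rcases (by omega : s = 1 ∨ s = 7) with rfl | rfl
  · have e : p ∣ 6 ^ 3 := by simpa using hpd
    have := Nat.le_of_dvd (by norm_num) (hp.dvd_of_dvd_pow e)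
    omega
  · have e7 := pr hp (by norm_num : Nat.Prime 7) (by norm_num) (dvd_trans (by norm_num) hN)
    have e19 := pr hp (by norm_num : Nat.Prime 19) (by norm_num) (dvd_trans (by norm_num) hN)
    omega

theorem sz {G : Type u} [Group G] (h5 : ¬ 5 ∣ Nat.card G) : ¬ IsSuzuki G := by
  rintro ⟨-, m, -, hm⟩
  have per : ∀ k : ℕ, (2 ^ (2 * k + 1)) ^ 2 % 5 = 4 := by
    intro k
    induction k with
    | zero => norm_num
    | succ k ih =>
      rw [show (2 ^ (2 * (k + 1) + 1)) ^ 2 = (2 ^ (2 * k + 1)) ^ 2 * 16 by ring]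
      omega
  have := per m
  apply h5
  rw [hm]
  refine (Dvd.dvd.mul_left ?_ _).mul_right _
  omega

end FamA

theorem fam : StFam.{u} := by
  rintro G _ _ _ p hp h7 - ⟨a, b, hc⟩
  have h5 : ¬ 5 ∣ Nat.card G := hc ▸ FamA.n5 hp h7
  refine ⟨?_, ?_, ?_, ?_, fun h => FamA.sz h5 (Bender.isSuzuki_of_isoSuzuki h), FamA.sz h5, ?_⟩
  · rintro F _ _ ⟨e⟩
    have h := Class.gcd_mul_card_PSL2 (F := F)
    rw [← Nat.card_congr e.toEquiv, hc, Nat.card_eq_fintype_card] at h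
    obtain ⟨r, _, k, hr, hk⟩ := FiniteField.card' F
    have h2 : 2 ≤ Fintype.card F := Fintype.one_lt_card
    obtain ⟨s, hs⟩ : ∃ s, Fintype.card F = s + 1 := ⟨Fintype.card F - 1, by omega⟩
    rw [hs, Nat.add_sub_cancel] at h
    have := FamA.l2 hp h7 hr (hs.symm.trans hk) (by omega) (Nat.gcd_dvd_left 2 s) h
    exact Or.inr (Or.inr (Or.inr (Or.inl ⟨F, inferInstance, inferInstance, by omega, ⟨e⟩⟩)))
  · rintro F _ _ ⟨e⟩
    have h := Block.Zh.gcd_mul_card_psl3 F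
    rw [← Nat.card_congr e.toEquiv, hc] at h
    have h2 : 2 ≤ Fintype.card F := Fintype.one_lt_card
    obtain ⟨s, hs⟩ : ∃ s, Fintype.card F = s + 1 := ⟨Fintype.card F - 1, by omega⟩
    have e1 : (s + 1) ^ 2 - 1 = s * (s + 2) := Nat.sub_eq_of_eq_add (by ring)
    have e2 : (s + 1) ^ 3 - 1 = s * (s * s + 3 * s + 3) := Nat.sub_eq_of_eq_add (by ring)
    rw [hs, e1, e2, Nat.add_sub_cancel] at h
    rcases FamA.l3 (s := s) (C := s * s + 3 * s + 3) hp h7 (Nat.gcd_dvd_left 3 s)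
      (h.trans (by ring)) with h1 | h1
    · have : Fact (Nat.Prime 7) := ⟨by norm_num⟩
      have hK : Fintype.card (ZMod 7) = 7 := ZMod.card 7
      obtain ⟨f⟩ := Agent.S0255.result (K := F) hK (by omega)
      exact Or.inr (Or.inr (Or.inr (Or.inl
        ⟨ZMod 7, inferInstance, inferInstance, Or.inl hK, ⟨e.trans f.symm⟩⟩)))
    · exact Or.inr (Or.inr (Or.inr (Or.inr (Or.inr
        ⟨F, inferInstance, inferInstance, by omega, ⟨e⟩⟩))))
  · rintro F _ _ r hF ⟨e⟩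
    have h := Cfsg.Agent.S0280.result hF 3 (by norm_num)
    rw [← Nat.card_congr e.toEquiv, hc] at h
    have hr : 2 ≤ r := by
      have h1 : 1 < Fintype.card F := Fintype.one_lt_card
      by_contra h2
      have : r ^ 2 ≤ 1 ^ 2 := Nat.pow_le_pow_left (by omega) 2
      omega
    obtain ⟨s, rfl⟩ : ∃ s, r = s + 1 := ⟨r - 1, by omega⟩
    have e1 : (s + 1) ^ (1 + 1) - 1 = s * (s + 2) := Nat.sub_eq_of_eq_add (by ring)
    rw [Finset.prod_range_succ, Finset.prod_range_succ, Finset.prod_range_succ,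
      Finset.prod_range_zero, if_pos (by decide), if_neg (by decide), if_pos (by decide), e1] at h
    have h2 : s = 2 := by
      refine FamA.u3 (a := a) (b := b) (s := s) hp h7 (by omega) (Nat.gcd_dvd_left 3 (s + 1 + 1)) ?_
      apply Nat.eq_of_mul_eq_mul_left (show 0 < s + 1 + 1 by omega)
      rw [mul_left_comm, h]
      norm_num
      ring
    subst h2
    exact Or.inr (Or.inr (Or.inr (Or.inr (Or.inl ⟨F, inferInstance, inferInstance, hF, ⟨e⟩⟩))))
  · rintro F _ _ ⟨e⟩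
    have h1 := card_eq_card_quotient_mul_card_subgroup (center (Matrix.symplecticGroup (Fin 2) F))
    rw [Agent.S0245.result rfl, Agent.S0246.result rfl 2 (by omega)] at h1
    change _ = Nat.card (PSp 2 F) * _ at h1
    rw [← Nat.card_congr e.toEquiv] at h1
    have hr : 2 ≤ Fintype.card F := Fintype.one_lt_card
    obtain ⟨s, hs⟩ : ∃ s, Fintype.card F = s + 1 := ⟨Fintype.card F - 1, by omega⟩
    rw [hs] at h1
    have e1 : (s + 1) ^ (2 * (0 + 1)) - 1 = s * (s + 2) := Nat.sub_eq_of_eq_add (by ring)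
    have e2 : (s + 1) ^ (2 * (1 + 1)) - 1 = s * (s + 2) * (s * s + 2 * s + 2) :=
      Nat.sub_eq_of_eq_add (by ring)
    rw [Finset.prod_range_succ, Finset.prod_range_succ, Finset.prod_range_zero, e1, e2] at h1
    have h6 : 5 ∣ (s + 1) * (s * (s + 2) * (s * s + 2 * s + 2)) := by
      rw [Nat.dvd_iff_mod_eq_zero]
      have : s % 5 < 5 := Nat.mod_lt _ (by norm_num)
      simp only [Nat.mul_mod (s + 1), Nat.mul_mod (s * (s + 2)), Nat.mul_mod s (s + 2),
        Nat.add_mod (s * s + 2 * s), Nat.add_mod (s * s), Nat.mul_mod s s, Nat.mul_mod 2 s,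
        Nat.add_mod s]
      generalize s % 5 = t at *
      interval_cases t <;> simp
    have h8 : 5 ∣ Nat.card G * Nat.gcd 2 (s + 1 - 1) := by
      rw [← h1]
      exact dvd_trans h6 ⟨(s + 1) ^ 3 * (s * (s + 2)), by ring⟩
    rcases (Nat.Prime.dvd_mul Nat.prime_five).1 h8 with f | f
    · exact h5 f
    · have := Nat.le_of_dvd (by norm_num) (dvd_trans f (Nat.gcd_dvd_left 2 _))
      omega
  · rintro n hn ⟨e⟩
    have : Nontrivial (Fin n) := Fin.nontrivial_iff_two_le.2 (by omega)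
    have h2 : 2 * Nat.card G = n.factorial := by
      rw [Nat.card_congr e.toEquiv, two_mul_nat_card_alternatingGroup, Nat.card_perm,
        Nat.card_eq_fintype_card, Fintype.card_fin]
    have h7 : 5 ∣ 2 * Nat.card G := h2 ▸ Nat.dvd_factorial (by norm_num) hn
    omega

end Cfsg.Lib.K7
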