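import Cfsg.Agent.K7.L17a
import Cfsg.Agent.K7.A3c
import Cfsg.Agent.K7.Loc
import Cfsg.Agent.P8.PjB
import Cfsg.Agent.P8.Bas2
import Cfsg.Agent.L72.Kit
import Cfsg.Agent.Local.JBasic
import Cfsg.Agent.S1824

/-! # No maximal 2-local subgroup of odd index with quotient `L₂(17)` -/

set_option autoImplicit false

namespace Cfsg.Lib.K7

open Cfsg Subgroup Cfsg.Lib.Trans Cfsg.Lib.Gold
open Cfsg.Lib.P8 (O2 Om EA E9 Pj Ty Mx)
open Cfsg.Lib.K35 (A3)
open scoped commutatorElement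

universe u

namespace L17

variable {G : Type u} [Group G] [Finite G] {X : Type u} [Group X] {M Q V : Subgroup G} {π : G → X}

theorem quad {b c : G} (hV : EA V) (hb : b ∈ Ns V) (hc : c ∈ Ns V) (b2 : b * b ∈ Cs V)
    (c2 : c * c ∈ Cs V) (e : V ⊓ C1 b = V ⊓ C1 c) : ⁅b, c⁆ ∈ Cs V := by
  have k : ∀ {b c : G}, b ∈ Ns V → b * b ∈ Cs V → V ⊓ C1 b = V ⊓ C1 c →
      ⁅⁅V, zpowers b⁆, zpowers c⁆ = ⊥ := fun hb b2 e => by
    rw [commutator_eq_bot_iff_le_centralizer]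
    exact ((le_inf (le_normalizer_iff_commutator_le_left.1 (zpowers_le.2 hb))
      (P8.Bas1H.half hV hb b2).2.1).trans (e.le.trans inf_le_right)).trans (Cs_zpowers _).ge
  have := commutator_commutator_eq_bot_of_rotate (H₁ := zpowers b) (H₂ := zpowers c) (H₃ := V)
    (by rw [commutator_comm (zpowers c)]; exact k hc c2 e.symm) (k hb b2 e)
  exact commutator_eq_bot_iff_le_centralizer.1 this
    (commutator_mem_commutator (mem_zpowers b) (mem_zpowers c))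

theorem k16 (h : Pj M Q π) (hV : EA V) (ne : V ≠ ⊥) (n : M ≤ Ns V) (hC : M ⊓ Cs V = Q)
    (fp : ∀ u : G, orderOf u = 17 → V ⊓ C1 u = ⊥) {v : G} (hv : v ∈ M) (p : PP (π v)) :
    16 ≤ (C1 v).relIndex V := by
  have : Fact (Nat.Prime 17) := ⟨by norm_num⟩
  obtain ⟨r, o, hr⟩ := p.inv
  obtain ⟨g, hg, rfl⟩ := h.sur r
  obtain ⟨u, hu, e, o'⟩ := P8.PjBH.odd h g hg (by rw [o]; decide)
  replace hu : u ∈ M := zpowers_le.2 hg hu
  rw [o] at o'
  rw [← e] at hr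
  have q : (u⁻¹ ^ 2)⁻¹ * (v * (u * v⁻¹ * u⁻¹)) ∈ Q := by
    refine (P8.PjBH.eq_iff h (pow_mem (inv_mem hu) 2)
      (mul_mem hv (mul_mem (mul_mem hu (inv_mem hv)) (inv_mem hu)))).1 ?_
    rw [h.mul _ hv _ (mul_mem (mul_mem hu (inv_mem hv)) (inv_mem hu)), P8.PjBH.cj h hu (inv_mem hv),
      P8.PjBH.pow h (inv_mem hu), P8.PjBH.inv h hu, P8.PjBH.inv h hv, ← mul_assoc, ← mul_assoc, hr, pow_two]
  have o2 : orderOf (u⁻¹ ^ 2) = 17 := by
    rw [Nat.Coprime.orderOf_pow (by rw [orderOf_inv, o']; norm_num), orderOf_inv, o']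
  have := P8.Bas1H.fl (Q := V) (a := v) (b := u * v⁻¹ * u⁻¹) (eq_bot_iff.2 fun w hw =>
    (fp _ o2).le ⟨hw.1.1, mem_centralizer_singleton_iff.2 (by
      have a : Commute w (v * (u * v⁻¹ * u⁻¹)) :=
        Commute.mul_right (mem_centralizer_singleton_iff.1 hw.1.2) (mem_centralizer_singleton_iff.1 hw.2)
      have b : Commute w _ := mem_centralizer_iff.1 (hC.ge q).2 w hw.1.1
      simpa [mul_assoc] using (a.mul_right b.inv_right).eq)⟩)
  rw [← cj_C1, L72.Kit.C1_inv, ← cj_eq_of_mem_normalizer (n hu), relIndex_cj,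
    cj_eq_of_mem_normalizer (n hu)] at this
  have h1 := L72.Kit.modEq (p := 17) (o' ▸ pow_orderOf_eq_one u) (n hu)
  obtain ⟨k, hk⟩ := (show IsPGroup 2 V from fun a => ⟨1, Subtype.ext (hV.2 a a.2)⟩).exists_card_eq
  rw [fp u o', card_bot, hk] at h1
  have k8 : 8 ≤ k := by
    by_contra! c
    have : k ≠ 0 := fun e => ne (by rwa [e, pow_zero, card_eq_one] at hk)
    interval_cases k <;> first | exact this rfl | exact absurd h1 (by decide)
  have := Nat.pow_le_pow_right (by decide : 0 < 2) k8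
  by_contra! c
  nlinarith

theorem noB (h : Pj M Q π) (hV : EA V) (ne : V ≠ ⊥) (n : M ≤ Ns V) (hC : M ⊓ Cs V = Q)
    (fp : ∀ u : G, orderOf u = 17 → V ⊓ C1 u = ⊥) (hX : ∀ a : X, a * a = 1 → a ≠ 1 → PP a)
    {B : Subgroup G} (hB : B ≤ M) (i : InducesElemAbelianTwoGroupOn B V)
    (le : (V ⊓ Cs B).relIndex V ≤ (Cs V).relIndex B ^ 2) : False := by
  classical
  obtain ⟨i1, i2, i3⟩ := i
  have kr : ∀ g ∈ M, π g = 1 ↔ g ∈ Cs V := fun g hg =>
    (h.ker g hg).trans ⟨fun c => (hC.ge c).2, fun c => hC.le ⟨hg, c⟩⟩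
  have sq : ∀ v ∈ B, π v * π v = 1 := fun v hv => by
    rw [← h.mul v (hB hv) v (hB hv), kr _ (mul_mem (hB hv) (hB hv)), ← pow_two]
    exact i2 v hv
  have cm : ∀ v ∈ M, ∀ w ∈ M, π v * π w = π w * π v ↔ ⁅v, w⁆ ∈ Cs V := fun v hv w hw => by
    rw [commutatorElement_def, ← kr _ (mul_mem (mul_mem (mul_mem hv hw) (inv_mem hv)) (inv_mem hw)),
      h.mul _ (mul_mem (mul_mem hv hw) (inv_mem hv)) _ (inv_mem hw), P8.PjBH.cj h hv hw,
      P8.PjBH.inv h hw, mul_inv_eq_one, mul_inv_eq_iff_eq_mul]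
  obtain ⟨A, hA, cA⟩ := P8.PjBH.im h B hB
  rw [← hC, ← inf_relIndex_right, inf_assoc, inf_comm (Cs V), ← inf_assoc, inf_eq_right.2 hB, inf_comm,
    inf_relIndex_right] at cA
  rw [← cA, inf_comm, inf_relIndex_right] at le
  have lo : ∀ v ∈ B, π v ≠ 1 → 16 ≤ (C1 v).relIndex V ∧ (C1 v).relIndex V ≤ (Cs B).relIndex V :=
    fun v hv c => ⟨k16 h hV ne n hC fp (hB hv) (hX _ (sq v hv) c), relIndex_le_of_le_left
      (centralizer_le (Set.singleton_subset_iff.2 hv)) FiniteIndex.index_ne_zero⟩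
  have cd : ∀ s : Finset X, (∀ v ∈ B, π v ∈ s) → Nat.card A ≤ s.card := fun s hs => by
    rw [← Nat.card_eq_finsetCard]
    exact Nat.card_mono s.finite_toSet fun y hy => by
      obtain ⟨v, hv, rfl⟩ := (hA y).1 hy
      exact hs v hv
  obtain ⟨a, ha, a1⟩ := SetLike.not_le_iff_exists.1 i1
  rw [← kr a (hB ha)] at a1
  obtain ⟨b, hb, b1⟩ : ∃ b ∈ B, π b ∉ ({1, π a} : Finset X) := by
    by_contra! c
    have := (cd _ c).trans Finset.card_le_two
    have := lo a ha a1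
    nlinarith
  rw [Finset.mem_insert, Finset.mem_singleton, not_or] at b1
  obtain ⟨⟨c, c1, c2⟩, k⟩ := (hX _ (sq a ha) a1).four _ (sq b hb) b1.1 b1.2
    ((cm b (hB hb) a (hB ha)).2 (i3 b hb a ha))
  have c4 := (cd {1, π a, π b, π a * π b} fun v hv => by
    simpa using k _ (sq v hv) ((cm v (hB hv) a (hB ha)).2 (i3 v hv a ha))
      ((cm v (hB hv) b (hB hb)).2 (i3 v hv b hb))).trans Finset.card_le_four
  have W : ∀ v ∈ B, π v ≠ 1 → V ⊓ C1 v = V ⊓ Cs B := fun v hv c => by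
    have l : V ⊓ Cs B ≤ V ⊓ C1 v := inf_le_inf_left _ (centralizer_le (Set.singleton_subset_iff.2 hv))
    refine (eq_of_le_of_card_ge l ?_).symm
    have e1 := card_mul_relIndex (inf_le_left : V ⊓ C1 v ≤ V)
    have e2 := card_mul_relIndex (inf_le_left : V ⊓ Cs B ≤ V)
    rw [inf_comm, inf_relIndex_right, inf_comm] at e1 e2
    have := lo v hv c
    have e3 : (Cs B).relIndex V = 16 := by nlinarith
    rw [e3] at e2 this
    rw [show (C1 v).relIndex V = 16 by omega] at e1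
    omega
  obtain ⟨g, hg, rfl⟩ := h.sur c
  have gb := mul_mem (mul_mem hg (hB hb)) (inv_mem hg)
  rw [← P8.PjBH.cj h hg (hB hb)] at c2
  refine c2 ((cm _ (hB hb) _ gb).2 (quad hV (n (hB hb)) (n gb) (pow_two b ▸ i2 b hb) ?_ ?_))
  · rw [conj_mul, ← kr _ (mul_mem (mul_mem hg (mul_mem (hB hb) (hB hb))) (inv_mem hg)),
      P8.PjBH.cj h hg (mul_mem (hB hb) (hB hb)), h.mul _ (hB hb) _ (hB hb), sq b hb, mul_one, mul_inv_cancel]
  have e : V ⊓ C1 b = V ⊓ C1 a := (W b hb b1.1).trans (W a ha a1).symm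
  rw [← cj_C1, ← cj_eq_of_mem_normalizer (n hg), ← cj_inf, cj_eq_of_mem_normalizer (n hg), e, cj_inf,
    cj_eq_of_mem_normalizer (n hg), cj_C1]
  have q := (cm g hg a (hB ha)).1 c1
  ext w
  refine and_congr_right fun hw => ?_
  have b : Commute w ⁅g, a⁆ := mem_centralizer_iff.1 q w hw
  refine ⟨fun c => mem_centralizer_singleton_iff.2 ?_, fun c => mem_centralizer_singleton_iff.2 ?_⟩
  · simpa [commutatorElement_def] using (b.mul_right (mem_centralizer_singleton_iff.1 c)).eq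
  · simpa [commutatorElement_def, mul_assoc] using
      (b.inv_right.mul_right (mem_centralizer_singleton_iff.1 c)).eq

theorem qt {p : ℕ} (gl : Gl G p) (a3 : A3 M) : IsQTKE G := by
  refine ⟨fun q hq q2 H ⟨T, t1, t2, e⟩ A hA ex => ?_, gl.kp, fun H ⟨T, t1, t2, e⟩ _ => e ▸ gl.c2.2 T t1 t2⟩
  have := Fact.mk hq
  by_cases q3 : q = 3
  · subst q3 e
    by_cases c : ∃ a ∈ Ns T, ∃ b ∈ Ns T, E9 a b
    · obtain ⟨a, ha, b, hb, c⟩ := c
      obtain ⟨R, hR⟩ := exists_isSylowIn (p := 3) (⊤ : Subgroup G)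
      rw [← card_map_of_injective (Ns T).subtype_injective]
      refine gl.n3 R hR (fun Y => a3.no2 R Y hR) T a b t1 t2 ha hb c _ inferInstance ?_
      rintro _ ⟨x, hx, rfl⟩
      rw [← map_pow, ex x hx, map_one]
    · rcases A.bot_or_exists_ne_one with rfl | ⟨a, ha, a1⟩
      · simp
      have o := orderOf_eq_prime (ex a ha) a1
      refine (card_le_of_le (U := zpowers a) fun b hb => by_contra fun n => c ⟨a, a.2, b, b.2,
        (orderOf_coe a).trans o, (orderOf_coe b).trans (orderOf_eq_prime (ex b hb) ?_),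
        congrArg Subtype.val (setLike_mul_comm ha hb), fun ⟨k, hk⟩ => n ⟨k, Subtype.ext hk⟩⟩).trans ?_
      · rintro rfl
        exact n (one_mem _)
      · rw [Nat.card_zpowers, o]
        decide
  · obtain ⟨k, hk⟩ := (show IsPGroup q A from fun a => ⟨1, Subtype.ext (by
      simpa using ex a a.2)⟩).exists_card_eq
    obtain ⟨a, b, e⟩ := gl.ord
    have d := (card_subgroup_dvd_card A).trans (card_subgroup_dvd_card H)
    rw [hk, e] at d
    have d := ((((Nat.coprime_primes hq Nat.prime_three).2 q3).pow k a).dvd_mul_right.1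
      ((((Nat.coprime_primes hq Nat.prime_two).2 q2).pow k b).dvd_mul_right.1 d))
    rw [hk]
    refine Nat.pow_le_pow_right hq.pos (by_contra fun c => ?_)
    obtain rfl := (Nat.prime_dvd_prime_iff_eq hq gl.pp).1 ((dvd_pow_self q (by omega)).trans d)
    have := (Nat.pow_dvd_pow_iff_le_right hq.one_lt).1 (d.trans (pow_one q).symm.dvd)
    omega

theorem main : StL17.{u} := by
  intro G _ _ gl M S mx ⟨X, _, _, π, ty, l2⟩ hS syl
  have := gl.sim
  have : Fact (Nat.Prime 2) := ⟨Nat.prime_two⟩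
  obtain ⟨sX, ⟨r, o⟩, hX⟩ := of_l2 l2
  have h := ty.toPj
  have fq : ∀ u : G, orderOf u = 17 → O2 M ⊓ C1 u = ⊥ := fun u hu => eq_bot_iff.2 fun g hg => by
    obtain ⟨k, hk⟩ := P8.Bas1H.ord_pow h.two hg.1
    have := orderOf_dvd_of_mem_zpowers (gl.cp u hu ▸ hg.2 : g ∈ zpowers u)
    rw [hu] at this
    exact orderOf_eq_one_iff.1 (Nat.eq_one_of_dvd_coprimes
      (Nat.Coprime.pow_left k (by norm_num : Nat.Coprime 2 17)) hk.dvd this)
  have lV := Local.JC.oc_le (O2 M)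
  have fp : ∀ u : G, orderOf u = 17 → Om (O2 M) ⊓ C1 u = ⊥ := fun u hu =>
    eq_bot_iff.2 ((inf_le_inf_right _ lV).trans (fq u hu).le)
  have ne := Local.JC.oc_ne_bot h.two mx.ne
  have n := (P8.PjBH.nor h).trans (Local.JC.normalizer_le_normalizer_oc (O2 M))
  have lift : ∀ g ∈ M, π g = r → ∃ u ∈ zpowers g, orderOf u = 17 := fun g hg e => by
    obtain ⟨u, hu, -, o'⟩ := P8.PjBH.odd h g hg (by rw [e, o]; decide)
    exact ⟨u, hu, by rw [o', e, o]⟩
  have hC : M ⊓ Cs (Om (O2 M)) = O2 M := by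
    refine le_antisymm ?_ (le_inf h.le (Local.JC.le_centralizer_oc _))
    obtain ⟨K, hK, -⟩ := P8.PjBH.im h (M ⊓ Cs (Om (O2 M))) inf_le_left
    have : K.Normal := ⟨fun y hy x => by
      obtain ⟨a, ha, rfl⟩ := (hK y).1 hy
      obtain ⟨m, hm, rfl⟩ := h.sur x
      exact (hK _).2 ⟨m * a * m⁻¹, mem_inf.2 ⟨mul_mem (mul_mem hm ha.1) (inv_mem hm),
        mem_normalizer_conj (L72.Kit.ns_Cs (n hm)) ha.2⟩, P8.PjBH.cj h hm ha.1⟩⟩
    rcases this.eq_bot_or_eq_top with e | e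
    · exact fun g hg => (h.ker g hg.1).1 (mem_bot.1 (e ▸ (hK _).2 ⟨g, hg, rfl⟩))
    · obtain ⟨g, hg, e⟩ := (hK r).1 (e ▸ mem_top r)
      obtain ⟨u, hu, o'⟩ := lift g hg.1 e
      exact absurd (fp u o' ▸ inf_eq_left.2 fun w hw => mem_centralizer_singleton_iff.2
        (mem_centralizer_iff.1 (zpowers_le.2 hg.2 hu) w hw)).symm ne
  obtain ⟨g, hg, e⟩ := h.sur r
  obtain ⟨u, hu, o'⟩ := lift g hg e
  replace hu : u ∈ M := zpowers_le.2 hg hu
  have hM : M ≠ ⊤ := fun e => by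
    rcases (normalizer_eq_top_iff.1 (top_unique (e.ge.trans (P8.PjBH.nor h)))).eq_bot_or_eq_top with c | c
    · exact mx.ne c
    · have := (fq u o').le ⟨c ▸ mem_top u, mem_centralizer_singleton_iff.2 rfl⟩
      rw [mem_bot.1 this, orderOf_one] at o'
      omega
  obtain ⟨C, c1, c2, c3, c4⟩ := gl.gct S M syl hM
  obtain ⟨T, rfl⟩ := syl.exists_sylow_eq
  obtain ⟨H, hH⟩ := exists_minimal_of_wellFoundedLT (· ∈ calHOverNotLE (T : Subgroup G) M)
    ⟨Ns C, ⟨fun e => (P8.Bas2H.chl gl.c2 ⟨C, syl.isPGroup.to_le c1, c2, rfl⟩).2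
      (Local.pCoreOf_eq_bot_iff.2 e), le_normalizer.trans c3⟩, c4⟩
  rcases Agent.S1824.result (fun c => hM (top_unique fun x _ => mx.mx.2 (Ns (O2 M)) ⟨_, h.two, mx.ne, rfl⟩
      (P8.PjBH.nor h) ▸ L72.Kit.ns_of fun t ht => by rwa [c.is_comm.comm x, mul_inv_cancel_right]))
    (qt gl (A3c.one gl hM hS syl (o' ▸ M.orderOf_dvd_natCard hu))) T M M H (Om (O2 M)) ⟨mx.mx, hS⟩ hS le_rfl
    ⟨hH.1, fun K hK le => le.antisymm (hH.2 hK le)⟩
    ⟨lV.trans h.le, n, Local.JC.ea_oc _, fun N n1 n2 n3 ⟨k, hk⟩ => by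
      rw [hC] at n3 hk ⊢
      obtain ⟨l, hl⟩ := h.two.exists_card_eq
      exact le_antisymm (Local.le_pCoreOf n1 n2 (.of_card (n := l + k) (by
        rw [← card_mul_relIndex n3, hl, hk, pow_add]))) n3⟩
    (le_antisymm (le_inf (Local.pCoreOf_le_sylowIn (syl.mono hS le_top)) (Local.JC.le_centralizer_oc _))
      ((inf_le_inf_right _ hS).trans hC.le)) (.inr (inf_le_right.trans n)) with
    ⟨R, r1, r2, r3⟩ | ⟨-, B, b1, b2, -, b3⟩ | ⟨B, b1, b2, -, b3⟩
  · exact hH.1.2 ((le_sup_right.trans r3).trans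
      (mx.mx.2 _ ⟨R, h.two.to_le r2, r1, rfl⟩ (le_sup_left.trans r3)).le)
  all_goals exact noB h (Local.JC.ea_oc _) ne n hC fp hX b1 b2 b3

end L17

theorem l17 (_hA3 : StA3'.{u}) : StL17.{u} := L17.main

end Cfsg.Lib.K7
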