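import Cfsg.Agent.K7.Loc2
import Cfsg.Agent.P8.BasJ

/-!
# The case `L₃(2)` with a full Sylow 2-subgroup: the induction
-/

set_option autoImplicit false
set_option linter.unusedVariables false

namespace Cfsg.Lib.K7

open Cfsg Subgroup Cfsg.Lib.Trans Cfsg.Lib.Gold
open Cfsg.Lib.P8 (L32 V3 O2 Om Jt Phi EA SR4 Ch E9 Pj Ty Sec SecOK Mx Crd)
open scoped commutatorElement

universe u

theorem l7 (hV8 : StV8.{u}) (hCo : StCo.{u}) (hSB : StSB.{u}) (hSU : StSU.{u}) (hT1 : StT1.{u})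
    (hT2 : StT2.{u}) (hT3 : StT3.{u}) (hT4 : StT4.{u}) (hLb : StLb.{u}) (hQ8 : StQ8.{u})
    (hZa : StZa.{u}) (hZb : StZb.{u}) (hPr : StPr.{u}) (hPa : StPa.{u}) (hPb : StPb.{u})
    (hCF : StCF.{u}) : StL7.{u} := by
  intro G _ _ gl M S mx ty SM syl
  have o2 := fun N : Subgroup G => P8.pf_BasJ.o2 N
  suffices H : ∀ (n : ℕ) (M V : Subgroup G) (π : G → L32) (c : G → V3) (z : G), SL M S V π c z →
      Nat.card (Uz V z) = n → False by
    obtain ⟨V, h1, h2, h3⟩ := hV8 G gl M ty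
    obtain ⟨π, c, z, hL⟩ := hCo G gl M S V mx ty SM syl h1 h2 h3
    exact H _ M V π c z hL rfl
  intro n
  induction n using Nat.strong_induction_on with
  | _ n ih =>
    intro M V π c z hL hn
    obtain ⟨y, hB⟩ := hSB G M S V π c z hL
    have hU := hSU G M S V π c z y hL hB
    by_cases hC : C1 z ≤ M
    · obtain ⟨ti, nS⟩ := hT1 G M S V π c z y hL hB hC
      obtain ⟨H, SH, sv, nH⟩ := hT2 G M S V π c z y hL hB nS
      exact hT3 G M S V H π c z y hL hB ti SH sv nH (hT4 G M S V H π c z y hL hB ti SH sv)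
    by_cases hUT : Uz V z ≤ O2 M
    swap
    · have k : (Qz z).relIndex (Q1 M z) ≤ 2 → False := fun h => by
        obtain ⟨hT, w, x, t, w1, w2, hSw, xM, ox, xw, ht, tQ⟩ := hZa G M S V π c z y hL hB hU hUT h
        exact tQ (hZb G M S V π c z y w x t hL hB hU hT w1 w2 hSw xM ox xw ht)
      rcases hLb G (C1 z) (Q1 M z) y hU.svC hB.yz hB.oy (hB.nc y hB.yM hB.oy _ hU.svC.ne hB.yz)
        hU.QQ ((o2 _).1.trans inf_le_right) (o2 _).2.1
        ((o2 _).2.2.1 (le_normalizer ⟨hB.yM, hB.yz⟩)) with h | h | h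
      · exact k ((relIndex_eq_one.2 h).le.trans one_le_two)
      · exact k h.le
      · exact hQ8 G M S V π c z y hL hB hU hUT h
    obtain ⟨h, h1, h2, h3⟩ := hPr G M S V π c z y hL hB hU hC hUT
    obtain ⟨F, pa⟩ := hPa G M S V π c z y h hL hB hU hUT h1 h2 h3
    obtain ⟨mx', ty', le'⟩ := hPb G M S V F π c z y h hL hB pa
    have SP : S ≤ M ⊓ C1 z := le_inf hB.le hB.zS
    obtain ⟨π', c', z', hL'⟩ := hCo G gl (Ns F) S F mx' ty' (SP.trans pa.nP) syl le' le_rfl pa.card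
    obtain ⟨y', hB'⟩ := hSB G _ S F π' c' z' hL'
    obtain rfl : z = z' := (hB'.zu z pa.zF hB.zS).resolve_left fun e => by
      have := hB.oz
      rw [e, orderOf_one] at this
      exact absurd this (by norm_num)
    have le : Uz F z ≤ Uz V z := iSup_le fun k =>
      (cj_mono (k : G) pa.le).trans (mem_Ns_iff.1 (hU.nU k.2)).le
    rcases (Subgroup.card_le_of_le le).lt_or_eq with lt | e
    · exact ih _ (hn ▸ lt) _ F π' c' z hL' rfl
    have e' : Uz F z = Uz V z := Subgroup.eq_of_le_of_card_ge le e.ge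
    have le1 : M ⊓ C1 z ≤ Ns F ⊓ C1 z := le_inf pa.nP inf_le_right
    have e1 : Ns F ⊓ C1 z = M ⊓ C1 z := by
      have := relIndex_mul_relIndex S _ _ SP le1
      rw [hB.c3, hB'.c3] at this
      exact le_antisymm (relIndex_eq_one.1 (by omega)) le1
    refine hCF G _ S F π' c' z y' h hL' hB' (hSU G _ S F π' c' z y' hL' hB') ?_ ?_ pa.hN ?_
    · rw [e', ← hB'.cV]
      exact fun a ha => mem_Cs.2 fun b hb =>
        congrArg Subtype.val ((hU.ab hUT).1.1.1 ⟨b, pa.le hb⟩ ⟨a, ha⟩)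
    · change (Qz z).relIndex (O2 (Ns F ⊓ C1 z)) = 2
      rw [e1]
      exact pa.i2
    · rw [e']
      exact pa.cm

end Cfsg.Lib.K7
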