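import Cfsg.Agent.K7.Loc2
import Cfsg.Agent.K35.K0d
import Cfsg.Agent.P8.PjB

/-!
# Two-subgroups of solvable `{2,3}`-groups of 3-rank at most two
-/

set_option autoImplicit false
set_option linter.unusedSectionVars false

namespace Cfsg.Lib.K7

open Cfsg Subgroup Cfsg.Lib.Trans Cfsg.Lib.Gold
open Cfsg.Lib.P8 (O2 EA E9 Pj)
open Cfsg.Lib.K35.K0d
open scoped commutatorElement

universe u

namespace Lb

open Ngrp Ngrp.G48

theorem c4 : ∀ y : G48, y ^ 3 = 1 → y ≠ 1 → ∀ g : G48, g * g = neg1 → y * g * y⁻¹ ≠ g := by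
  decide +kernel

set_option synthInstance.maxSize 2000 in
theorem c5 : ∀ a : G48, a * a = 1 → a ≠ 1 → ∀ b : G48, b * b = 1 → a * b = b * a → b ≠ 1 → b ≠ a →
    ∀ c : G48, c * c = 1 → a * c = c * a → b * c = c * b → c = 1 ∨ c = a ∨ c = b ∨ c = a * b := by
  decide +kernel

variable {X : Type u} [Group X] {E R : Subgroup X} {φ : X →* G48} {y : X}

theorem card_le {A : Subgroup X} (s : Finset X) (h : ∀ x ∈ A, x ∈ s) : Nat.card A ≤ s.card := by
  rw [← Nat.card_eq_finsetCard]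
  exact Nat.card_le_card_of_injective (fun x => ⟨x.1, h x x.2⟩)
    fun x x' e => Subtype.ext (congrArg (fun w : s => w.1) e)

theorem card_two {A : Subgroup X} (h : ∀ r ∈ A, ∀ r' ∈ A, r ≠ 1 → r' ≠ 1 → r * r' = 1) :
    Nat.card A ≤ 2 := by
  classical
  by_cases e : ∃ r ∈ A, r ≠ 1
  · obtain ⟨r, hr, r1⟩ := e
    refine (card_le {1, r⁻¹} fun x hx => ?_).trans Finset.card_le_two
    by_cases e : x = 1
    · simp [e]
    · simp [eq_inv_of_mul_eq_one_left (h x hx r hr e r1)]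
  · push Not at e
    exact (card_le {1} fun x hx => by simp [e x hx]).trans (by simp)

theorem one23 {t : X} {j k : ℕ} (h2 : t ^ 2 ^ j = 1) (h3 : t ^ 3 ^ k = 1) : t = 1 :=
  (pow_eq_one_iff_of_coprime (Nat.Coprime.pow j k (by decide))).1 ⟨h2, h3⟩

theorem one23' (hR : IsPGroup 2 R) {t : X} (ht : t ∈ R) (h3 : t ^ 3 = 1) : t = 1 := by
  obtain ⟨j, hj⟩ := Solv.PG.exists_pow_prime_pow_eq_one hR ht
  exact one23 (k := 1) hj h3

variable [Finite X]

/-- The sign argument. -/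
theorem sgn [hE : E.Normal] {Y : Subgroup X} (cm : ∀ a ∈ E, ∀ b ∈ E, a * b = b * a)
    (e3 : ∀ a ∈ E, a ^ 3 = 1) (hR : IsPGroup 2 R) (fa : ∀ t ∈ R, t ∈ Cs E → t = 1) (hY : Y ≤ E)
    (hc : Nat.card E ≤ 3 * Nat.card Y) (cY : ∀ t ∈ R, ∀ u ∈ Y, t * u = u * t) :
    ∀ r ∈ R, ∀ r' ∈ R, r ≠ 1 → r' ≠ 1 → r * r' = 1 := by
  have := Fact.mk Nat.prime_three
  by_cases le : E ≤ Y
  · exact fun r hr _ _ r1 => absurd (fa r hr (mem_Cs.2 fun u hu => (cY r hr u (le hu)).symm)) r1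
  obtain ⟨d, hd, dY⟩ := SetLike.not_le_iff_exists.1 le
  have l1 : Y ⊔ zpowers d ≤ E := sup_le hY (zpowers_le.2 hd)
  have eE : Y ⊔ zpowers d = E := Subgroup.eq_of_le_of_card_ge l1 (hc.trans
    (Solv.PG.prime_mul_card_le_of_lt ((Solv.PG.isPGroup_of_forall_mem
      fun a ha => ⟨1, e3 a ha⟩).to_le l1)
      (le_sup_left.lt_of_ne fun e => dY (e.ge (mem_sup_right (mem_zpowers d))))))
  have dec : ∀ e ∈ E, ∃ u ∈ Y, e = u ∨ e = u * d ∨ e = u * d⁻¹ := fun e he => by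
    obtain ⟨u, hu, w, hw, rfl⟩ := (Solv.PG.mem_sup_iff_of_le_normalizer (K := Y) (H := zpowers d)
      (zpowers_le.2 (Cs_le_Ns (mem_Cs.2 fun u hu => cm u (hY hu) d hd)))).1 (eE.ge he)
    refine ⟨u, hu, ?_⟩
    rcases ord3 (e3 d hd) hw with rfl | rfl | rfl <;> simp
  have k1 : ∀ t ∈ R, ∀ u ∈ Y, t * d * t⁻¹ = u * d → t = 1 := fun t ht u hu e => by
    have p : ∀ n : ℕ, t ^ n * d * (t ^ n)⁻¹ = u ^ n * d := fun n => by
      induction n with
      | zero => simp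
      | succ n ih =>
        rw [pow_succ' t, show t * t ^ n * d * (t * t ^ n)⁻¹ = t * (t ^ n * d * (t ^ n)⁻¹) * t⁻¹ by
          group, ih, ← mul_assoc, cY t ht _ (pow_mem hu n), mul_assoc (u ^ n), mul_assoc (u ^ n), e,
          pow_succ, mul_assoc]
    have q := p 3
    rw [e3 u (hY hu), one_mul, mul_inv_eq_iff_eq_mul] at q
    refine one23' hR ht (fa _ (pow_mem ht 3) (mem_Cs.2 fun e he => ?_))
    obtain ⟨v, hv, k⟩ := dec e he
    have c1 : Commute (t ^ 3) v := cY _ (pow_mem ht 3) v hv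
    have c2 : Commute (t ^ 3) d := q
    rcases k with rfl | rfl | rfl
    exacts [c1.symm, (c1.mul_right c2).symm, (c1.mul_right c2.inv_right).symm]
  have k2 : ∀ t ∈ R, t ≠ 1 → ∃ u ∈ Y, t * d * t⁻¹ = u * d⁻¹ := fun t ht t1 => by
    obtain ⟨u, hu, e | e | e⟩ := dec _ (hE.conj_mem d hd t)
    · refine absurd ?_ dY
      rw [mul_inv_eq_iff_eq_mul, ← cY t ht u hu] at e
      rwa [mul_left_cancel e]
    · exact absurd (k1 t ht u hu e) t1
    · exact ⟨u, hu, e⟩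
  intro r hr r' hr' r1 r1'
  obtain ⟨u, hu, e⟩ := k2 r hr r1
  obtain ⟨u', hu', e'⟩ := k2 r' hr' r1'
  refine k1 _ (mul_mem hr hr') _ (mul_mem hu' (inv_mem hu)) ?_
  calc r * r' * d * (r * r')⁻¹ = r * (r' * d * r'⁻¹) * r⁻¹ := by group
    _ = r * u' * r⁻¹ * (r * d * r⁻¹)⁻¹ := by rw [e']; group
    _ = u' * (d * u⁻¹) := by rw [cY r hr u' hu', e]; group
    _ = _ := by rw [cm d hd _ (inv_mem (hY hu)), mul_assoc]

omit [Finite X] in
theorem inj (h : Cr E φ) (hR : IsPGroup 2 R) {t t' : X} (ht : t ∈ R) (ht' : t' ∈ R)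
    (e : φ t = φ t') : t = t' := by
  obtain ⟨k, hk⟩ := h.k3 (t⁻¹ * t') (by rw [map_mul, map_inv, e, inv_mul_cancel])
  obtain ⟨j, hj⟩ := Solv.PG.exists_pow_prime_pow_eq_one hR (mul_mem (inv_mem ht) ht')
  exact inv_mul_eq_one.1 (one23 hj hk)

/-- The sign argument modulo the commutator subgroup. -/
theorem sgn' (h : Cr E φ) (hR : IsPGroup 2 R) {Y : Subgroup X} (hY : Y ≤ E)
    (hc : (⁅E, E⁆ : Subgroup X).relIndex E ≤ 3 * (⁅E, E⁆ : Subgroup X).relIndex Y)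
    (cY : ∀ t ∈ R, ∀ u ∈ Y, t * u = u * t) : Nat.card R ≤ 2 := by
  have := h.nor
  let q := QuotientGroup.mk' (⁅E, E⁆ : Subgroup X)
  have hq : q.ker = ⁅E, E⁆ := QuotientGroup.ker_mk' _
  have : (E.map q).Normal := h.nor.map q (QuotientGroup.mk'_surjective _)
  have q1 : ∀ t ∈ R, q t = 1 → t = 1 := fun t ht e =>
    one23' hR ht (h.e3 t (commutator_le_left E E (hq ▸ (MonoidHom.mem_ker.2 e))))
  have cq : ∀ {a b : X}, q a * q b = q b * q a ↔ ⁅a, b⁆ ∈ ⁅E, E⁆ := fun {a b} => by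
    rw [← commutatorElement_eq_one_iff_mul_comm, ← map_commutatorElement, ← MonoidHom.mem_ker, hq]
  have k := sgn (E := E.map q) (R := R.map q) (Y := Y.map q)
    (by
      rintro _ ⟨a, ha, rfl⟩ _ ⟨b, hb, rfl⟩
      exact cq.2 (commutator_mem_commutator ha hb))
    (by
      rintro _ ⟨a, ha, rfl⟩
      rw [← map_pow, h.e3 a ha, map_one])
    (hR.map q)
    (by
      rintro _ ⟨t, ht, rfl⟩ c
      rw [inj h hR ht (one_mem R) (((h.ker t).2 fun e he =>
        cq.1 (mem_Cs.1 c _ ⟨e, he, rfl⟩).symm).trans φ.map_one.symm), map_one])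
    (map_mono hY) (by rwa [← relIndex_ker, ← relIndex_ker, hq])
    (by
      rintro _ ⟨t, ht, rfl⟩ _ ⟨u, hu, rfl⟩
      rw [← map_mul, cY t ht u hu, map_mul])
  refine card_two fun r hr r' hr' r1 r1' => q1 _ (mul_mem hr hr') ?_
  rw [map_mul]
  exact k _ ⟨r, hr, rfl⟩ _ ⟨r', hr', rfl⟩ (fun e => r1 (q1 r hr e)) fun e => r1' (q1 r' hr' e)

theorem ex_nmem {A B : Subgroup X} (h : Nat.card A < Nat.card B) : ∃ b ∈ B, b ∉ A :=
  SetLike.not_le_iff_exists.1 fun k => absurd (Trans.card_le_of_le k) (not_le.2 h)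

/-- `y` acts trivially on `E / [E, E]`: it lies in `E` but not in `[E, E]`. -/
theorem mem (h : Cr E φ) (hr : PRankLE 3 2 X) (oy : orderOf y = 3) (nc : Nc ⊤ y) (e : φ y = 1)
    (hc : 3 < Nat.card E) : y ∈ E ∧ y ∉ ⁅E, E⁆ := by
  have := Fact.mk Nat.prime_three
  have := h.nor
  have y3 : y ^ 3 = 1 := oy ▸ pow_orderOf_eq_one y
  have y1 : y ≠ 1 := fun e => by simp [e] at oy
  have ky := (h.ker y).1 e
  have cz : ∀ {a : X}, a ∈ E → a ≠ 1 → Nat.card (zpowers a) = 3 := fun ha a1 => by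
    rw [Nat.card_zpowers, orderOf_eq_prime (h.e3 _ ha) a1]
  rcases h.cs with k | ⟨k, k0⟩ | ⟨k, k0, k1⟩
  · omega
  · rw [k0] at ky ⊢
    refine ⟨by_contra fun n => ?_, y1⟩
    obtain ⟨a, ha, a1⟩ := ex_nmem (A := ⊥) (B := E) (by rw [card_bot]; omega)
    obtain ⟨b, hb, n'⟩ := ex_nmem (A := zpowers a) (B := E) (by rw [cz ha a1]; omega)
    exact e27 hr (h.e3 a ha) (h.e3 b hb) y3
      (commutatorElement_eq_one_iff_mul_comm.1 (k0.le (commutator_mem_commutator ha hb)))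
      (commutatorElement_eq_one_iff_mul_comm.1 (ky a ha)).symm
      (commutatorElement_eq_one_iff_mul_comm.1 (ky b hb)).symm a1 (mem_zpowers a) n' ha hb n
  · obtain ⟨a, ha, b, hb, z1⟩ : ∃ a ∈ E, ∃ b ∈ E, ⁅a, b⁆ ≠ 1 := by
      by_contra! n
      have : (⁅E, E⁆ : Subgroup X) = ⊥ := eq_bot_iff.2 (commutator_le.2 n)
      rw [this, card_bot] at k0
      omega
    have m := commutator_mem_commutator ha hb
    have mE := commutator_le_left E E m
    have eZ : zpowers ⁅a, b⁆ = ⁅E, E⁆ :=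
      Subgroup.eq_of_le_of_card_ge (zpowers_le.2 m) (by rw [cz mE z1, k0])
    refine ⟨by_contra fun n => ?_, fun m' => ?_⟩
    · let f : E →* X := MonoidHom.mk' (fun u => ⁅y, (u : X)⁆) fun u v => by
        have c := mem_Cs.1 (h.cl (ky v v.2)) u u.2
        calc ⁅y, ((u * v : E) : X)⁆ = ⁅y, (u : X)⁆ * (u * ⁅y, (v : X)⁆) * (u : X)⁻¹ := by
              simp only [commutatorElement_def, coe_mul]; group
          _ = _ := by rw [c]; group
      have f1 : Nat.card f.range ≤ 3 := k0 ▸ Trans.card_le_of_le (by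
        rintro _ ⟨u, rfl⟩
        exact ky u u.2)
      have f2 := f.ker.card_mul_index
      rw [index_ker, k] at f2
      obtain ⟨_, ⟨u, hu, rfl⟩, n'⟩ := ex_nmem (A := ⁅E, E⁆) (B := f.ker.map E.subtype) (by
        rw [card_subtype, k0]
        by_contra! l
        have := Nat.mul_le_mul l f1
        omega)
      exact e27 hr (h.e3 _ mE) (h.e3 _ u.2) y3 (mem_Cs.1 (h.cl m) _ u.2).symm
        (cx y3 (h.e3 _ mE) (eZ ▸ Normal.conj_mem inferInstance _ m y)).symm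
        (commutatorElement_eq_one_iff_mul_comm.1 (show ⁅y, (u : X)⁆ = 1 from hu)).symm z1 m n' mE
        u.2 n
    · have c := mem_Cs.1 (h.cl m')
      rcases ord3 (h.e3 _ mE) (eZ.ge m') with e | e | e
      · exact y1 e
      · exact nc a trivial b trivial (h.e3 _ ha) (h.e3 _ hb) (c _ ha) (c _ hb) e.symm
      · exact nc b trivial a trivial (h.e3 _ hb) (h.e3 _ ha) (c _ hb) (c _ ha)
          (by rw [e, commutatorElement_inv])

theorem triv (h : Cr E φ) (hr : PRankLE 3 2 X) (hR : IsPGroup 2 R) (oy : orderOf y = 3)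
    (nc : Nc ⊤ y) (hn : y ∈ Ns R) (e : φ y = 1) : Nat.card R ≤ 2 := by
  have := Fact.mk Nat.prime_three
  have := h.nor
  have hZ := card_mul_relIndex (commutator_le_left E E)
  have p0 : 0 < Nat.card ↥(⁅E, E⁆ : Subgroup X) := Nat.card_pos
  by_cases hc : Nat.card E ≤ 3
  · refine sgn' h hR bot_le ?_ fun t _ u hu => by rw [mem_bot.1 hu, mul_one, one_mul]
    rw [relIndex_bot_right]
    exact (Nat.le_mul_of_pos_left _ p0).trans (hZ.le.trans hc)
  obtain ⟨m, n⟩ := mem h hr oy nc e (not_le.1 hc)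
  refine sgn' h hR (zpowers_le.2 m) ?_ fun t ht u hu => ?_
  · have d : (⁅E, E⁆ : Subgroup X).relIndex (zpowers y) ∣ 3 := by
      rw [← oy, ← Nat.card_zpowers]
      exact relIndex_dvd_card _ _
    rcases (Nat.dvd_prime Nat.prime_three).1 d with d | d
    · exact absurd (relIndex_eq_one.1 d (mem_zpowers y)) n
    rw [d]
    rcases h.cs with k | ⟨k, k0⟩ | ⟨k, k0, -⟩
    · omega
    · exact (Nat.le_mul_of_pos_left _ p0).trans (hZ.trans k).le
    · rw [k0, k] at hZ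
      omega
  · have c : Commute t y := by
      have := inj h hR (mem_normalizer_conj hn ht) ht (by simp [e])
      exact (mul_inv_eq_iff_eq_mul.1 this).symm
    obtain ⟨i, rfl⟩ := hu
    exact c.zpow_right i

theorem nontriv (h : Cr E φ) (hR : IsPGroup 2 R) (oy : orderOf y = 3) (hn : y ∈ Ns R)
    (y1 : φ y ≠ 1) : Nat.card R ≤ 2 ∨ Nonempty (R ≃* QuaternionGroup 2) := by
  have := Fact.mk Nat.prime_two
  have y3 : φ y ^ 3 = 1 := by rw [← map_pow, ← oy, pow_orderOf_eq_one, map_one]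
  have k8 : ∀ t ∈ R, φ t ^ 8 = 1 := fun t ht => by
    obtain ⟨k, hk⟩ := Solv.PG.exists_pow_prime_pow_eq_one hR ht
    exact p8 (by rw [← map_pow, hk, map_one])
  have kq : ∀ t ∈ R, φ t = 1 ∨ φ t = neg1 ∨ φ t * φ t = neg1 := fun t ht => c1 _ y3 y1 _ (k8 t ht)
    (by simpa only [map_mul, map_inv] using k8 _ (mul_mem ht (mem_normalizer_conj hn ht)))
  by_cases ex : ∃ t ∈ R, φ t * φ t = neg1
  swap
  · push Not at ex
    have k : ∀ t ∈ R, t ≠ 1 → φ t = neg1 := fun t ht t1 => ((kq t ht).resolve_left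
      fun e => t1 (inj h hR ht (one_mem _) (e.trans φ.map_one.symm))).resolve_right (ex t ht)
    refine Or.inl (card_two fun r hr r' hr' r1 r1' => inj h hR (mul_mem hr hr') (one_mem _) ?_)
    rw [map_mul, k r hr r1, k r' hr' r1', map_one]
    decide
  obtain ⟨t, ht, q0⟩ := ex
  have ht' := mem_normalizer_conj hn ht
  obtain ⟨r1, r2⟩ := c3 _ y3 (φ t) q0 (c4 _ y3 y1 _ q0)
  obtain ⟨s, q1⟩ : ∃ s, t * t = s := ⟨_, rfl⟩
  have sR : s ∈ R := q1 ▸ mul_mem ht ht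
  have ks : φ s = neg1 := by rw [← q1, map_mul, q0]
  have s1 : s ≠ 1 := fun e => by rw [e, map_one] at ks; exact absurd ks (by decide)
  have s2 : s * s = 1 := inj h hR (mul_mem sR sR) (one_mem _) (by
    rw [map_mul, ks, map_one]; decide)
  have q2 : y * t * y⁻¹ * (y * t * y⁻¹) = s := inj h hR (mul_mem ht' ht') sR (by
    rw [conj_mul, q1, map_mul, map_mul, map_inv, ks, (c0 _).2])
  have q3 : t * (y * t * y⁻¹) * t = y * t * y⁻¹ :=
    inj h hR (mul_mem (mul_mem ht ht') ht) ht' (by simpa only [map_mul, map_inv] using r1)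
  have eS : zpowers t ⊔ zpowers (y * t * y⁻¹) = R :=
    (sup_le (zpowers_le.2 ht) (zpowers_le.2 ht')).antisymm fun k hk => by
      obtain ⟨i, j, e⟩ := r2 _ (kq k hk)
      rw [inj h hR hk (mul_mem (pow_mem ht i.1) (pow_mem ht' j.1))
        (by simpa only [map_mul, map_inv, map_pow] using e)]
      exact mul_mem_sup (pow_mem (mem_zpowers _) _) (pow_mem (mem_zpowers _) _)
  generalize y * t * y⁻¹ = j at q2 q3 eS
  refine Or.inr (eS ▸ Solv.PG.nonempty_sup_mulEquiv_quaternionGroup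
    (orderOf_eq_prime_pow (p := 2) (n := 1) (by rw [pow_one, pow_two, q1]; exact s1)
      (by rw [show 2 ^ (1 + 1) = 2 * 2 from rfl, pow_mul, pow_two t, q1, pow_two, s2]))
    (by rw [q2, pow_two, q1]) (by
      calc _ = t⁻¹ * (t * j * t) * j⁻¹ := by group
        _ = _ := by rw [q3]; group) ?_)
  rintro ⟨n, rfl⟩
  simp only at q3
  rw [mul_assoc, ((Commute.refl t).zpow_left n).eq, ← mul_assoc, q1, mul_eq_right] at q3
  exact s1 q3

omit [Finite X] in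
theorem four (h : Cr E φ) (sq : ∀ r ∈ R, r * r = 1) (cm : ∀ a ∈ R, ∀ b ∈ R, a * b = b * a) :
    Nat.card R ≤ 4 := by
  classical
  have hR : IsPGroup 2 R := Solv.PG.isPGroup_of_forall_mem fun a ha =>
    ⟨1, by rw [pow_one, pow_two, sq a ha]⟩
  by_cases e : ∃ a ∈ R, ∃ b ∈ R, a ≠ 1 ∧ b ≠ 1 ∧ b ≠ a
  · obtain ⟨a, ha, b, hb, a1, b1, ab⟩ := e
    have s : ∀ r ∈ R, φ r * φ r = 1 := fun r hr => by rw [← map_mul, sq r hr, map_one]
    have c : ∀ r ∈ R, ∀ r' ∈ R, φ r * φ r' = φ r' * φ r := fun r hr r' hr' => by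
      rw [← map_mul, cm r hr r' hr', map_mul]
    have o : ∀ r ∈ R, φ r = 1 → r = 1 := fun r hr e =>
      inj h hR hr (one_mem _) (e.trans φ.map_one.symm)
    refine (card_le {1, a, b, a * b} fun x hx => ?_).trans Finset.card_le_four
    simp only [Finset.mem_insert, Finset.mem_singleton]
    exact (c5 _ (s a ha) (fun e => a1 (o a ha e)) _ (s b hb) (c a ha b hb) (fun e => b1 (o b hb e))
      (fun e => ab (inj h hR hb ha e)) _ (s x hx) (c a ha x hx) (c b hb x hx)).imp (o x hx)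
      (.imp (inj h hR hx ha) (.imp (inj h hR hx hb)
        fun e => inj h hR hx (mul_mem ha hb) (e.trans (map_mul φ a b).symm)))
  · push Not at e
    exact (card_two fun r hr r' hr' r1 r1' => by rw [e r hr r' hr' r1 r1', sq r hr]).trans
      (by decide)

end Lb

open Lb P8.PjBH

theorem lb (hCr : StCr.{u}) (hBr : StBr.{u}) : StLb.{u} := fun G _ _ H R y hH hy oy nc h1 h2 hR hn => by
  obtain ⟨X, _, _, π, pj, sx, k1, -⟩ := hBr G H hH
  obtain ⟨E, φ, h⟩ := hCr X sx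
  obtain ⟨oy', nc'⟩ := k1 y hy oy nc
  obtain ⟨B, hB, cB⟩ := im pj R h2
  have B2 : IsPGroup 2 B := Solv.PG.isPGroup_of_forall_mem fun b hb => by
    obtain ⟨a, ha, rfl⟩ := (hB b).1 hb
    obtain ⟨k, hk⟩ := Solv.PG.exists_pow_prime_pow_eq_one hR ha
    exact ⟨k, by rw [← pow pj (h2 ha), hk, one pj]⟩
  have nB : π y ∈ Ns B := mem_normalizer_of_cj_le (cj_le_iff.2 fun b hb => by
    obtain ⟨a, ha, rfl⟩ := (hB b).1 hb
    exact (hB _).2 ⟨_, mem_normalizer_conj hn ha, P8.PjBH.cj pj hy (h2 ha)⟩)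
  have k : Nat.card B ≤ 2 ∨ Nonempty (B ≃* QuaternionGroup 2) := by
    by_cases e : φ (π y) = 1
    exacts [Or.inl (triv h sx.r3 B2 oy' nc' nB e), nontriv h B2 oy' nB e]
  rcases k with k | ⟨⟨f⟩⟩
  · have : 0 < Nat.card B := Nat.card_pos
    by_cases e : (O2 H).relIndex R = 1
    · exact Or.inl (relIndex_eq_one.1 e)
    · exact Or.inr (Or.inl (by omega))
  · let g : R →* B := MonoidHom.mk' (fun r => ⟨π r, (hB _).2 ⟨r, r.2, rfl⟩⟩)
      fun a b => Subtype.ext (pj.mul _ (h2 a.2) _ (h2 b.2))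
    refine Or.inr (Or.inr ⟨f.toMonoidHom.comp g, f.surjective.comp fun b => ?_, ?_⟩)
    · obtain ⟨a, ha, e⟩ := (hB b).1 b.2
      exact ⟨⟨a, ha⟩, Subtype.ext e⟩
    · ext r
      rw [MonoidHom.mem_ker, MonoidHom.comp_apply, MulEquiv.coe_toMonoidHom,
        EmbeddingLike.map_eq_one_iff, mem_subgroupOf, ← pj.ker _ (h2 r.2), Subtype.ext_iff]
      rfl

theorem le (hCr : StCr.{u}) (hBr : StBr.{u}) : StLe.{u} := fun G _ _ H A hH h1 hA => by
  obtain ⟨X, _, _, π, pj, sx, -, -⟩ := hBr G H hH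
  obtain ⟨E, φ, h⟩ := hCr X sx
  obtain ⟨B, hB, cB⟩ := im pj A h1
  have := hA.1
  rw [← cB]
  refine four h (fun b hb => ?_) fun b hb b' hb' => ?_
  · obtain ⟨a, ha, rfl⟩ := (hB b).1 hb
    rw [← pj.mul _ (h1 ha) _ (h1 ha), ← pow_two, hA.2 a ha, one pj]
  · obtain ⟨a, ha, rfl⟩ := (hB b).1 hb
    obtain ⟨a', ha', rfl⟩ := (hB b').1 hb'
    rw [← pj.mul _ (h1 ha) _ (h1 ha'), Solv.PG.mul_comm_of_mem ha ha', pj.mul _ (h1 ha') _ (h1 ha)]

end Cfsg.Lib.K7
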