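import Cfsg.Agent.K7.Lq

/-!
# An involution commuting with an element of order three on a faithful module
-/

set_option autoImplicit false
set_option linter.unusedSectionVars false
set_option linter.style.haveILetI false

namespace Cfsg.Lib.K7

open Cfsg Subgroup Cfsg.Lib.Trans Cfsg.Lib.Gold
open Cfsg.Lib.P8 (L32 V3 O2 Om Jt Phi EA SR4 Ch E9 Pj Ty Sec SecOK Mx Crd)
open Cfsg.Lib.K35.FQ8
open scoped commutatorElement

universe u v

namespace Lc

variable {X : Type v} [Group X] [Finite X] {E N A : Subgroup X} {a b d e t y : X}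

theorem c4 (h3 : e ^ 3 = 1) : e * e * (e * e) = e := by
  rw [show e * e * (e * e) = e ^ 3 * e by simp only [pow_succ, pow_zero, one_mul, mul_assoc], h3,
    one_mul]

theorem inv3 (h3 : e ^ 3 = 1) : e⁻¹ = e * e :=
  inv_eq_of_mul_eq_one_right (by rw [← mul_assoc, ← pow_two, ← pow_succ, h3])

theorem one_of (h3 : e ^ 3 = 1) (h : e * e = 1) : e = 1 := by
  rwa [pow_succ, pow_two, h, one_mul] at h3

theorem fixp' (hN : ∀ n ∈ N, y * n * y⁻¹ ∈ N) (hy : y ^ 3 = 1) (h : 3 ∣ Nat.card N) :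
    ∃ n ∈ N, n ≠ 1 ∧ y * n * y⁻¹ = n := by
  have yN : y ∈ Ns N := mem_normalizer_fintype hN
  obtain ⟨n, hn, n1, k⟩ := Lq.fixp (X := Ns N) (N := N.subgroupOf (Ns N)) (y := ⟨y, yN⟩)
    normal_in_normalizer (Subtype.ext hy)
    (by rwa [Nat.card_congr (subgroupOfEquivOfLe le_normalizer).toEquiv])
  exact ⟨n, hn, fun k => n1 (Subtype.ext k), congrArg Subtype.val k⟩

theorem inv_fix (hA : A.Normal) (cm : ∀ a ∈ A, ∀ b ∈ A, a * b = b * a) (e3 : ∀ a ∈ A, a ^ 3 = 1)
    (t2 : t * t = 1) (ty : t * y = y * t) (y3 : y ^ 3 = 1) (hn : ∃ a ∈ A, t * a ≠ a * t) :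
    ∃ d ∈ A, d ≠ 1 ∧ t * d * t⁻¹ = d⁻¹ ∧ y * d * y⁻¹ = d := by
  haveI : Fact (Nat.Prime 3) := ⟨Nat.prime_three⟩
  let I : Subgroup X :=
    { carrier := {a | a ∈ A ∧ t * a * t⁻¹ = a⁻¹}
      one_mem' := ⟨one_mem _, by simp⟩
      mul_mem' := fun {a b} ha hb => ⟨mul_mem ha.1 hb.1, by
        rw [← conj_mul, ha.2, hb.2, ← mul_inv_rev, cm _ ha.1 _ hb.1]⟩
      inv_mem' := fun {a} ha => ⟨inv_mem ha.1, by rw [← conj_inv, ha.2]⟩ }
  obtain ⟨a, ha, k⟩ := hn
  have m := hA.conj_mem a ha t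
  have c1 : a * (t * a * t⁻¹)⁻¹ ∈ I := ⟨mul_mem ha (inv_mem m), by
    rw [← conj_mul, mul_inv_rev (a := a), inv_inv,
      show t * (t * a * t⁻¹)⁻¹ * t⁻¹ = t * t * a⁻¹ * (t * t)⁻¹ by group, t2, one_mul, inv_one, mul_one]⟩
  have c2 : a * (t * a * t⁻¹)⁻¹ ≠ 1 := fun h =>
    k (mul_inv_eq_iff_eq_mul.1 (mul_inv_eq_one.1 h).symm)
  obtain ⟨n, hn, n1, k⟩ := fixp' (N := I) (fun n hn => ⟨hA.conj_mem n hn.1 y, by
      rw [show t * (y * n * y⁻¹) * t⁻¹ = t * y * n * (t * y)⁻¹ by group, ty,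
        show y * t * n * (y * t)⁻¹ = y * (t * n * t⁻¹) * y⁻¹ by group, hn.2]
      group⟩) y3 (by
    rw [← orderOf_eq_prime (e3 _ c1.1) c2]
    exact orderOf_dvd_natCard _ c1)
  exact ⟨n, hn.1, n1, hn.2, k⟩

theorem no27 {φ : X →* Ngrp.G48} (h : Cr E φ) (r3 : PRankLE 3 2 X)
    (c3 : Nat.card ↥⁅E, E⁆ = 3) (t2 : t * t = 1) (tZ : ∀ z ∈ ⁅E, E⁆, t * z = z * t)
    (ht : φ t ≠ 1) (oy : orderOf y = 3) (ty : t * y = y * t) (nc : Nc ⊤ y) : False := by
  haveI := h.nor
  have ZE : ⁅E, E⁆ ≤ E := commutator_le_left _ _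
  have Z3 : ∀ z ∈ ⁅E, E⁆, z ^ 3 = 1 := fun z hz => h.e3 z (ZE hz)
  have y3 : y ^ 3 = 1 := oy ▸ pow_orderOf_eq_one y
  have yZ : ∀ z ∈ ⁅E, E⁆, y * z = z * y := fun z hz => by
    have := Lq.cyc3 inferInstance c3.le Z3 hz (y * y)
    rwa [c4 y3] at this
  have EZ : ∀ e ∈ E, ∀ z ∈ ⁅E, E⁆, e * z = z * e := fun e he z hz => h.cl hz e he
  obtain ⟨_, ⟨e, he, rfl⟩, e1, et, ey⟩ := inv_fix (A := E.map (QuotientGroup.mk' ⁅E, E⁆))
    (t := QuotientGroup.mk' ⁅E, E⁆ t)
    (y := QuotientGroup.mk' ⁅E, E⁆ y) (Normal.map inferInstance _ (QuotientGroup.mk'_surjective _))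
    (by
      rintro _ ⟨a, ha, rfl⟩ _ ⟨b, hb, rfl⟩
      rw [← commutatorElement_eq_one_iff_mul_comm, ← map_commutatorElement]
      exact (QuotientGroup.eq_one_iff _).2 (commutator_mem_commutator ha hb))
    (by rintro _ ⟨a, ha, rfl⟩; rw [← map_pow, h.e3 a ha, map_one])
    (by rw [← map_mul, t2, map_one]) (by rw [← map_mul, ty, map_mul])
    (by rw [← map_pow, y3, map_one]) (by
      by_contra k
      push Not at k
      refine ht ((h.ker t).2 fun e he => (QuotientGroup.eq_one_iff _).1 ?_)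
      have := k _ (mem_map_of_mem _ he)
      rwa [← commutatorElement_eq_one_iff_mul_comm, ← map_commutatorElement] at this)
  have nZ : e ∉ ⁅E, E⁆ := fun k => e1 ((QuotientGroup.eq_one_iff _).2 k)
  have m1 : e⁻¹ * (y * e * y⁻¹) ∈ ⁅E, E⁆ := by
    rw [← map_inv, ← map_mul, ← map_mul] at ey
    exact QuotientGroup.eq.1 ey.symm
  have m0 : t * e * t⁻¹ * e ∈ ⁅E, E⁆ := by
    refine (QuotientGroup.eq_one_iff _).1 ?_
    change QuotientGroup.mk' ⁅E, E⁆ _ = 1
    rw [map_mul, map_mul, map_mul, map_inv, et, inv_mul_cancel]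
  obtain ⟨a, ha, aZ, ta, ya⟩ : ∃ a ∈ E, a ∉ ⁅E, E⁆ ∧ t * a * t⁻¹ = a⁻¹ ∧
      a⁻¹ * (y * a * y⁻¹) ∈ ⁅E, E⁆ := by
    generalize hz : t * e * t⁻¹ * e = z at m0
    refine ⟨e * z, mul_mem he (ZE m0), fun k => nZ ((mul_mem_cancel_right m0).1 k), ?_, ?_⟩
    · rw [← conj_mul, tZ z m0, mul_inv_cancel_right, eq_mul_inv_of_mul_eq hz, mul_inv_rev,
        mul_assoc, EZ _ (inv_mem he) z m0, ← mul_assoc, eq_inv_of_mul_eq_one_left
          (show z * z * z = 1 by rw [← pow_two, ← pow_succ, Z3 z m0])]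
    · rw [← conj_mul, yZ z m0, mul_inv_cancel_right,
        show (e * z)⁻¹ * (y * e * y⁻¹ * z) = z⁻¹ * (e⁻¹ * (y * e * y⁻¹)) * z by group]
      exact mul_mem (mul_mem (inv_mem m0) m1) m0
  have ay : y * a * y⁻¹ = a := by
    generalize hz : a⁻¹ * (y * a * y⁻¹) = z at ya
    have k1 : y * a * y⁻¹ = a * z := by rw [← hz, mul_inv_cancel_left]
    have k2 : t * (y * a * y⁻¹) * t⁻¹ = (y * a * y⁻¹)⁻¹ := by
      rw [show t * (y * a * y⁻¹) * t⁻¹ = t * y * a * (t * y)⁻¹ by group, ty,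
        show y * t * a * (y * t)⁻¹ = y * (t * a * t⁻¹) * y⁻¹ by group, ta]
      group
    rw [k1, ← conj_mul, ta, tZ z ya, mul_inv_cancel_right, mul_inv_rev, ← EZ _ (inv_mem ha) _ (inv_mem ya),
      mul_right_inj] at k2
    rw [k1, one_of (Z3 z ya) (by nth_rw 2 [k2]; exact mul_inv_cancel z), mul_one]
  obtain ⟨z, hz, z1⟩ : ∃ z ∈ ⁅E, E⁆, z ≠ 1 := by
    by_contra k
    push Not at k
    rw [(eq_bot_iff_forall _).2 k, card_bot] at c3
    omega
  have hZ : zpowers z = ⁅E, E⁆ := eq_of_le_of_card_ge (zpowers_le.2 hz)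
    (by rw [card_zp (Z3 z hz) z1, c3])
  haveI : Fact (Nat.Prime 3) := ⟨Nat.prime_three⟩
  have a1 : a ≠ 1 := fun k => aZ (k ▸ one_mem _)
  have n9 := n9_of (show E9 z a from ⟨orderOf_eq_prime (Z3 z hz) z1, orderOf_eq_prime (h.e3 a ha)
    a1, (EZ a ha z hz).symm, hZ ▸ aZ⟩)
  have ya' : y * a = a * y := mul_inv_eq_iff_eq_mul.1 ay
  have ea : IsElementaryAbelian 3 (closure ({z, a, y} : Set X)) := TJ.ea_closure (by
    rintro x (rfl | rfl | rfl) w (rfl | rfl | rfl)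
    exacts [rfl, (EZ _ ha _ hz).symm, (yZ _ hz).symm, EZ _ ha _ hz, rfl, ya'.symm, yZ _ hz, ya', rfl])
    (by
    rintro x (rfl | rfl | rfl)
    exacts [Z3 _ hz, h.e3 _ ha, y3])
  have le : closure ({z, a} : Set X) ≤ closure {z, a, y} := closure_mono (by
    rintro x (rfl | rfl)
    exacts [.inl rfl, .inr (.inl rfl)])
  have yE : y ∈ closure ({z, a} : Set X) := by
    have : y ∈ closure ({z, a, y} : Set X) := subset_closure (.inr (.inr rfl))
    rwa [← eq_of_le_of_card_ge le (by rw [n9.card]; exact r3 _ ea.1 ea.2)] at this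
  have ty' : t * y * t⁻¹ = y := by rw [ty, mul_inv_cancel_right]
  have yZ' : y ∈ ⁅E, E⁆ := by
    obtain ⟨c, hc, k⟩ := n9.span (subset_closure (.inl rfl)) z1 (subset_closure (.inr rfl))
      (hZ ▸ aZ) yE
    rw [hZ] at hc
    have tc : t * c * t⁻¹ = c := by rw [tZ c hc, mul_inv_cancel_right]
    rcases k with k | k | k
    · exact k ▸ hc
    · rw [k, ← conj_mul, tc, ta, mul_right_inj] at ty'
      exact absurd (one_of (h.e3 a ha) (by nth_rw 1 [← ty']; exact inv_mul_cancel a)) a1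
    · rw [k, ← conj_mul, ← conj_mul, tc, ta, mul_right_inj, inv3 (h.e3 a ha), c4 (h.e3 a ha),
        left_eq_mul] at ty'
      exact absurd ty' a1
  have y1 : y ≠ 1 := fun k => by rw [k, orderOf_one] at oy; omega
  have hY : zpowers y = ⁅E, E⁆ := eq_of_le_of_card_ge (zpowers_le.2 yZ')
    (by rw [card_zp y3 y1, c3])
  refine z1 ((eq_bot_iff_forall _).1 (le_bot_iff.1 (commutator_le.2 fun b hb c hc => ?_)) z hz)
  have nc' := fun b hb c hc => nc b trivial c trivial (h.e3 b hb) (h.e3 c hc) (EZ b hb y yZ')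
    (EZ c hc y yZ')
  rcases (mem_zp y3).1 (hY ▸ commutator_mem_commutator hb hc) with k | k | k
  · exact mem_bot.2 k
  · exact absurd k (nc' b hb c hc)
  · refine absurd ?_ (nc' c hc b hb)
    rw [← commutatorElement_inv, k]
    exact inv_eq_of_mul_eq_one_right (by rw [← pow_two, ← pow_succ, y3])

variable {M : Type u} [AddCommGroup M] [DistribMulAction X M] {m : M}

theorem s3 (h3 : e ^ 3 = 1) (m : M) : e • e • e • m = m := by
  rw [smul_smul, smul_smul, ← pow_two, ← pow_succ, h3, one_smul]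

theorem T_sq (h3 : e ^ 3 = 1) (m : M) : T (e * e) m = T e m := by
  simp only [T_ap, mul_smul, s3 h3]
  abel

theorem T_self (h3 : e ^ 3 = 1) (m : M) : T e (e • m) = T e m := by
  rw [← smul_T rfl, fix_T h3]

variable (two : ∀ m : M, m + m = 0)
include two

theorem Tu (h3 : e ^ 3 = 1) (m : M) : T e (e • m + e • e • m) = 0 := by
  rw [map_add, T_self h3, T_self h3, T_self h3, two]

theorem fix_of (h : e • m + e • e • m = 0) : e • m = m :=
  (smul_left_cancel_iff e).1 (by linear_combination (norm := abel1) h - two (e • m))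

theorem triv (h3 : a ^ 3 = 1) (h1 : ∀ m : M, a • m = m → b • m = m)
    (h2 : ∀ m : M, T a m = 0 → b • m = m) (m : M) : b • m = m := by
  have e : m = T a m + (a • m + a • a • m) := by
    rw [T_ap]
    linear_combination (norm := abel1) - two (a • m) - two (a • a • m)
  rw [e, smul_add, h1 _ (fix_T h3 m), h2 _ (Tu two h3 m)]

theorem stB (d3 : d ^ 3 = 1) (td : t * d * t⁻¹ = d⁻¹) (ty : t * y = y * t) (yd : y * d = d * y)
    (hy : ∀ m : M, y • (m + t • m) = m + t • m) :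
    (∀ m : M, T d m = 0 → y • m = m) ∧ ∀ m : M, T y m = 0 → d • m = m := by
  have c1 : ∀ m : M, t • d • m = d • d • t • m := fun m => by
    rw [smul_smul, show t * d = d * d * t by rw [← inv3 d3, ← td, inv_mul_cancel_right], mul_smul,
      mul_smul]
  have c2 : ∀ m : M, y • d • m = d • y • m := fun m => by rw [smul_smul, yd, mul_smul]
  have k1 : ∀ m : M, T d m = 0 → y • m = m := fun w hw => by
    have e : t • w = w + t • w + d • (d • w + t • d • w) + d • d • (d • d • w + t • d • d • w) := by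
      rw [T_ap] at hw
      simp only [smul_add, c1, s3 d3]
      linear_combination (norm := abel1) - hw - two (t • w)
    have e' : y • t • w = t • w := by
      rw [e, smul_add, smul_add, c2, c2, c2, hy, hy, hy]
    rw [smul_smul, ← ty, mul_smul] at e'
    exact (smul_left_cancel_iff t).1 e'
  refine ⟨k1, fun m hm => fix_of two ?_⟩
  rw [← T_fix two (k1 _ (Tu two d3 m)), map_add, ← smul_T yd.symm, ← smul_T yd.symm,
    ← smul_T yd.symm, hm, smul_zero, smul_zero, add_zero]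

theorem core {φ : X →* Ngrp.G48} (cr : Cr E φ) (r3 : PRankLE 3 2 X) (t2 : t * t = 1) (t1 : t ≠ 1)
    (oy : orderOf y = 3) (ty : t * y = y * t) (nc : Nc ⊤ y)
    (fa : ∀ g : X, (∀ m : M, g • m = m) → g = 1) (S : Sylow 2 X)
    (hS : ∀ s ∈ (S : Subgroup X), s * y * s⁻¹ ∈ zpowers y)
    (gen : ∀ A : AddSubgroup M, (∀ (g : X), ∀ m ∈ A, g • m ∈ A) → (∀ m, T y m = 0 → m ∈ A) →
      ∀ m, m ∈ A)
    (hy : ∀ m : M, y • (m + t • m) = m + t • m) : False := by
  haveI := cr.nor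
  have y3 : y ^ 3 = 1 := oy ▸ pow_orderOf_eq_one y
  have y1 : y ≠ 1 := fun k => by rw [k, orderOf_one] at oy; omega
  have kill : ∀ d : X, (∀ (g : X) (m : M), T y m = 0 → (g * d * g⁻¹) • m = m) → d = 1 := fun d hd => by
    refine fa d fun m => ?_
    have := gen
      { carrier := {m | ∀ g : X, (g * d * g⁻¹) • m = m}
        zero_mem' := fun g => smul_zero _
        add_mem' := fun ha hb g => by rw [smul_add, ha g, hb g]
        neg_mem' := fun ha g => by rw [smul_neg, ha g] } (fun k m hm g => by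
          have := hm (k⁻¹ * g)
          rw [smul_smul, show g * d * g⁻¹ * k = k * (k⁻¹ * g * d * (k⁻¹ * g)⁻¹) by group, mul_smul,
            this]) (fun m hm g => hd g m hm) m 1
    simpa using this
  have small : ∀ N : Subgroup X, N.Normal → Nat.card N ≤ 3 → (∀ e ∈ N, e ^ 3 = 1) → ∀ a ∈ N,
      t * a = a * t := fun N hN c e3 a ha => by
    by_contra k
    have a1 : a ≠ 1 := fun k' => k (by rw [k', mul_one, one_mul])
    have hz : zpowers a = N := eq_of_le_of_card_ge (zpowers_le.2 ha) (by rwa [card_zp (e3 a ha) a1])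
    have ya := Lq.cyc3 hN c e3 ha (y * y)
    rw [c4 y3] at ya
    rcases (mem_zp (e3 a ha)).1 (hz ▸ hN.conj_mem a ha t) with k' | k' | k'
    · exact a1 (conj_eq_one_iff.1 k')
    · exact k (mul_inv_eq_iff_eq_mul.1 k')
    · exact a1 (kill a fun g m hm => zp_fix ((stB two (e3 a ha) (k'.trans (inv3 (e3 a ha)).symm) ty ya
        hy).2 m hm) (hz ▸ hN.conj_mem a ha g))
  have p1 : φ t ≠ 1 := fun k => by
    obtain ⟨n, hn⟩ := cr.k3 _ k
    exact t1 ((pow_eq_one_iff_of_coprime (show Nat.Coprime 2 (3 ^ n) from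
      Nat.Coprime.pow_right _ (by norm_num))).1 ⟨by rw [pow_two, t2], hn⟩)
  have hn : ∃ a ∈ E, t * a ≠ a * t := by
    by_contra k
    push Not at k
    exact p1 ((cr.ker _).2 fun e he => by
      rw [commutatorElement_eq_one_iff_mul_comm.2 (k e he)]; exact one_mem _)
  rcases cr.cs with c | ⟨c9, cb⟩ | ⟨-, c3, -⟩
  · obtain ⟨a, ha, k⟩ := hn
    exact k (small E cr.nor c cr.e3 a ha)
  swap
  · exact no27 cr r3 c3 t2 (small _ inferInstance c3.le fun e he =>
      cr.e3 e (commutator_le_left _ _ he)) p1 oy ty nc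
  have n9 : N9 E := ⟨c9, cr.e3, fun a ha b hb => commutatorElement_eq_one_iff_mul_comm.1
    (mem_bot.1 (cb ▸ commutator_mem_commutator ha hb))⟩
  obtain ⟨d, hd, d1, td, yd'⟩ := inv_fix cr.nor n9.comm cr.e3 t2 ty y3 hn
  have yd : y * d = d * y := mul_inv_eq_iff_eq_mul.1 yd'
  have d3 := cr.e3 d hd
  obtain ⟨B1, B2⟩ := stB two d3 td ty yd hy
  have W0 : ¬ ∀ m : M, T d m = 0 → d • m = m := fun k =>
    d1 (fa d (triv two d3 (fun _ h => h) k))
  have yE : ∀ f ∈ E, y * f = f * y := fun f hf => by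
    by_contra k
    have f2 : f ∉ zpowers d := fun k' => k (by
      obtain ⟨n, rfl⟩ := mem_zpowers_iff.1 k'
      exact ((show Commute y d from yd).zpow_right n).eq)
    obtain ⟨a, ha, k'⟩ := n9.span hd d1 hf f2 (cr.nor.conj_mem f hf y)
    have aE : a ∈ E := zpowers_le.2 hd ha
    have ya : y * a * y⁻¹ = a := by
      obtain ⟨n, rfl⟩ := mem_zpowers_iff.1 ha
      rw [((show Commute y d from yd).zpow_right n).eq, mul_inv_cancel_right]
    rcases k' with k' | k' | k'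
    · rw [← ya, mul_left_inj, mul_right_inj] at k'
      exact f2 (k' ▸ ha)
    · have a1 : a ≠ 1 := fun k'' => k (by rwa [k'', one_mul, mul_inv_eq_iff_eq_mul] at k')
      refine W0 fun m hm => zp_fix ?_ (zp_symm d3 ha a1)
      have k1 := B1 (f • m) (by rw [← smul_T (n9.comm f hf d hd), hm, smul_zero])
      rw [smul_smul, mul_inv_eq_iff_eq_mul.1 k', mul_smul, B1 m hm, n9.comm a aE f hf, mul_smul] at k1
      exact (smul_left_cancel_iff f).1 k1
    · have k1 : y * y * f * (y * y)⁻¹ = f := by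
        rw [show y * y * f * (y * y)⁻¹ = y * (y * f * y⁻¹) * y⁻¹ by group, k', ← conj_mul, ← conj_mul,
          ya, k', mul_assoc a (f * f), ← mul_assoc (f * f) a, ← n9.comm a aE _ (mul_mem hf hf),
          mul_assoc a (f * f), c4 (cr.e3 f hf), ← mul_assoc, ← mul_assoc, ← pow_two, ← pow_succ,
          cr.e3 a aE, one_mul]
      have k2 : Commute (y * y) f := mul_inv_eq_iff_eq_mul.1 k1
      exact k (c4 y3 ▸ (k2.mul_left k2).eq)
  have hyE : y ∈ E := by
    have ea : IsElementaryAbelian 3 (closure (insert y (E : Set X))) := TJ.ea_closure (by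
      rintro x (rfl | hx) w (rfl | hw)
      exacts [rfl, yE _ hw, (yE _ hx).symm, n9.comm _ hx _ hw]) (by
      rintro x (rfl | hx)
      exacts [y3, cr.e3 _ hx])
    have le : E ≤ closure (insert y (E : Set X)) := fun x hx => subset_closure (.inr hx)
    rw [eq_of_le_of_card_ge le (by rw [c9]; exact r3 _ ea.1 ea.2)]
    exact subset_closure (.inl rfl)
  have dy : d ∉ zpowers y := fun k => by
    obtain ⟨n, rfl⟩ := mem_zpowers_iff.1 k
    rw [((show Commute t y from ty).zpow_right n).eq, mul_inv_cancel_right] at td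
    exact d1 (one_of d3 (by nth_rw 2 [td]; exact mul_inv_cancel _))
  have F : ∀ e ∈ E, e ∉ zpowers y → e ∉ zpowers d → ∀ m : M, e • m = m → ∀ f ∈ E, f • m = m := by
    intro e he e1 e2 m hm
    obtain ⟨a, ha, k⟩ := n9.span hyE y1 hd dy he
    have hu := B1 _ (Tu two d3 m)
    have eu : e • (d • m + d • d • m) = d • m + d • d • m := by
      have : ∀ v : M, e • d • v = d • e • v := fun v => by rw [smul_smul, n9.comm e he d hd, mul_smul]
      rw [smul_add, this, this, this, hm]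
    have aE : a ∈ E := zpowers_le.2 hyE ha
    have dm : d • m = m := by
      refine fix_of two ?_
      rw [← Tu two d3 m, T_fix two]
      rcases k with k | k | k
      · exact absurd (k ▸ ha) e1
      · rwa [k, n9.comm a aE d hd, mul_smul, zp_fix hu ha] at eu
      · rw [k, n9.comm a aE _ (mul_mem hd hd), mul_smul, zp_fix hu ha] at eu
        exact sq_mem (H := MulAction.stabilizer X _) d3 eu
    have ym : y • m = m := by
      refine zp_fix ?_ (zp_symm y3 ha fun a1 => e2 ?_)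
      · rcases k with k | k | k
        · exact k ▸ hm
        · rwa [k, mul_smul, dm] at hm
        · rwa [k, mul_smul, mul_smul, dm, dm] at hm
      · rw [a1, one_mul, one_mul] at k
        exact (mem_zp d3).2 k
    intro f hf
    obtain ⟨b, hb, k⟩ := n9.span hyE y1 hd dy hf
    rcases k with k | k | k <;> rw [k]
    · exact zp_fix ym hb
    · rw [mul_smul, dm, zp_fix ym hb]
    · rw [mul_smul, mul_smul, dm, dm, zp_fix ym hb]
  have G1 : ∀ e ∈ E, ∀ f ∈ E, f ≠ 1 → (∀ m : M, T e m = 0 → f • m = m) → ∀ g : X,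
      g * e * g⁻¹ ∈ zpowers y ∨ g * e * g⁻¹ ∈ zpowers d := fun e he f hf f1 h g => by
    by_contra k
    push Not at k
    refine f1 (fa f (triv two (cr.e3 e he) (fun m hm => ?_) h))
    have := F _ (cr.nor.conj_mem e he g) k.1 k.2 (g • m)
      (by rw [mul_smul, inv_smul_smul, mul_smul, hm]) _ (cr.nor.conj_mem f hf g)
    rw [mul_smul, inv_smul_smul, mul_smul] at this
    exact (smul_left_cancel_iff g).1 this
  have cz : ∀ (g e x : X), x ∈ zpowers e → g * x * g⁻¹ ∈ zpowers (g * e * g⁻¹) := fun g e x hx => by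
    obtain ⟨n, rfl⟩ := mem_zpowers_iff.1 hx
    exact mem_zpowers_iff.2 ⟨n, conj_zpow⟩
  have mN : ∀ g : X, g * y * g⁻¹ ∈ zpowers y → g ∈ Ns (zpowers y) := fun g hg =>
    mem_normalizer_fintype fun n hn => zpowers_le.2 hg (cz g y n hn)
  have i2 : (Ns (zpowers y)).index ∣ 2 := by
    by_cases k : ∀ g : X, g * y * g⁻¹ ∈ zpowers y
    · exact index_dvd_two_iff.2 ⟨1, fun b => .inr (mN b (k b))⟩
    push Not at k
    obtain ⟨a, ha⟩ := k
    refine index_dvd_two_iff.2 ⟨a, fun b => ?_⟩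
    have ha' := (G1 y hyE d hd d1 B2 a).resolve_left ha
    rcases G1 y hyE d hd d1 B2 b with k | k
    · exact .inr (mN b k)
    rcases G1 d hd y hyE y1 B1 b with k' | k'
    · refine .inl (mN _ ?_)
      rw [show b * a * y * (b * a)⁻¹ = b * (a * y * a⁻¹) * b⁻¹ by group]
      exact zpowers_le.2 k' (cz b d _ ha')
    · refine absurd (zp_symm d3 ?_ y1) dy
      have := cz b⁻¹ _ _ (zpowers_le.2 (zp_symm d3 k' fun k => d1 (conj_eq_one_iff.1 k)) k)
      rwa [show b⁻¹ * (b * y * b⁻¹) * b⁻¹⁻¹ = y by group,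
        show b⁻¹ * (b * d * b⁻¹) * b⁻¹⁻¹ = d by group] at this
  have i1 : (Ns (zpowers y)).index = 1 := by
    refine ((Nat.dvd_prime Nat.prime_two).1 i2).resolve_right fun k => S.not_dvd_index ?_
    exact k.symm.dvd.trans (index_dvd_of_le fun s hs => mN s (hS s hs))
  refine d1 (kill d fun g m hm => ?_)
  have k : g * y * g⁻¹ ∈ zpowers y :=
    mem_normalizer_conj ((index_eq_one.1 i1).ge (mem_top g)) (mem_zpowers y)
  have k1 : T y (g⁻¹ • m) = 0 := by
    have := T_conj g y (g⁻¹ • m)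
    rw [smul_inv_smul] at this
    rcases (mem_zp y3).1 k with k | k | k
    · exact absurd (conj_eq_one_iff.1 k) y1
    · rw [k, hm] at this
      exact (smul_eq_zero_iff_eq g).1 this.symm
    · rw [k, T_sq y3, hm] at this
      exact (smul_eq_zero_iff_eq g).1 this.symm
  rw [mul_smul, mul_smul, B2 _ k1, smul_inv_smul]

theorem four (y3 : y ^ 3 = 1) [Finite M] (D : AddSubgroup M) (h1 : m ∈ D) (h2 : y • m ∈ D)
    (n : y • m ≠ m) : 4 ≤ Nat.card D := by
  have h0 : m ≠ 0 := fun k => n (by rw [k, smul_zero])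
  have n1 : y • m ≠ 0 := fun k => h0 ((smul_eq_zero_iff_eq y).1 k)
  have n2 : m ≠ y • m := n.symm
  have n3 : m + y • m ≠ 0 := fun k => n2 (by linear_combination (norm := abel1) k - two (y • m))
  have inj : Function.Injective (![⟨0, zero_mem _⟩, ⟨m, h1⟩, ⟨y • m, h2⟩, ⟨m + y • m, add_mem h1 h2⟩] :
      Fin 4 → D) := by
    intro i j k
    fin_cases i <;> fin_cases j <;> simp_all [eq_comm]
  simpa using Nat.card_le_card_of_injective _ inj

end Lc

open Lc P8.BrgH in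
theorem lc (hCr : StCr.{u}) (hBr : StBr.{u}) : StLc.{u} := by
  intro G _ _ H S U₁ U₂ V D y t sv yH oy nc syl hS ok fa VU Vy UV tH tQ tt ty0 hD h4
  haveI := P8.pf_Bas1.{u}
  haveI := P8.pf_PjB.{u, u}
  obtain ⟨X, _, _, π, hP, sx, hy, -⟩ := hBr G H sv
  obtain ⟨oy', nc'⟩ := hy y yH oy nc
  obtain ⟨E, φ, cr⟩ := hCr X sx
  have hU : U₂ ≤ H := ok.leQ.trans hP.le
  obtain ⟨M, _, _, p, ha, hz, hs⟩ := exists_p (hU.trans ok.n1) ok.sq
  obtain ⟨_, sc⟩ := exists_act hP ok ha hz hs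
  have two : ∀ m : M, m + m = 0 := fun m => by
    obtain ⟨u, hu, rfl⟩ := hs m
    rw [← ha u hu u hu, hz _ (mul_mem hu hu)]
    exact ok.sq u hu
  have y3 : π y ^ 3 = 1 := oy' ▸ pow_orderOf_eq_one _
  have t1 : π t ≠ 1 := fun k => tQ ((hP.ker t tH).1 k)
  have t2 : π t * π t = 1 := by
    rw [← hP.mul _ tH _ tH, hP.ker _ (mul_mem tH tH)]; exact tt
  have ty : π t * π y = π y * π t := by
    have m : t * y * t⁻¹ ∈ H := mul_mem (mul_mem tH yH) (inv_mem tH)
    have := (hP.ker _ (mul_mem m (inv_mem yH))).2 ty0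
    rw [hP.mul _ m _ (inv_mem yH), P8.PjBH.cj hP tH yH, P8.PjBH.inv hP yH] at this
    exact commutatorElement_eq_one_iff_mul_comm.1 this
  have pc : ∀ u ∈ U₂, ∀ g ∈ H, ⁅u, g⁆ ∈ U₂ ∧ p ⁅u, g⁆ = p u + π g • p u := fun u hu g hg => by
    have h1 := mem_normalizer_conj (ok.n2 hg) (inv_mem hu)
    rw [show ⁅u, g⁆ = u * (g * u⁻¹ * g⁻¹) by simp only [commutatorElement_def, mul_assoc]]
    refine ⟨mul_mem hu h1, ?_⟩
    rw [ha _ hu _ h1, sc.eqv _ hg _ (inv_mem hu), p_inv ha hu, smul_neg]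
    linear_combination (norm := abel1) - two (π g • p u)
  have zp : ∀ g ∈ H, ∀ c ∈ zpowers g, π c ∈ zpowers (π g) := fun g hg c hc => by
    obtain ⟨A, mA, -⟩ := P8.PjB.pre.{u, u} hP (zpowers (π g))
    exact ((mA c).1 (zpowers_le.2 ((mA g).2 ⟨hg, mem_zpowers _⟩) hc)).2
  have pre : ∀ A : AddSubgroup M, ∃ B : Subgroup G, (∀ u, u ∈ B ↔ u ∈ U₂ ∧ p u ∈ A) ∧ U₁ ≤ B :=
    fun A => ⟨
      { carrier := {u | u ∈ U₂ ∧ p u ∈ A}
        one_mem' := ⟨one_mem _, by rw [p_one ha]; exact zero_mem _⟩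
        mul_mem' := fun {a b} h1 h2 => ⟨mul_mem h1.1 h2.1, by
          rw [ha _ h1.1 _ h2.1]; exact add_mem h1.2 h2.2⟩
        inv_mem' := fun {a} h1 => ⟨inv_mem h1.1, by rw [p_inv ha h1.1]; exact neg_mem h1.2⟩ },
      fun _ => Iff.rfl, fun u hu => ⟨ok.le hu, by
        rw [(hz u (ok.le hu)).2 hu]; exact zero_mem _⟩⟩
  obtain ⟨-, S', mS⟩ := P8.PjB.syl.{u, u} hP S syl
  obtain ⟨m, hm⟩ : ∃ m : M, π y • (m + π t • m) ≠ m + π t • m := by
    by_contra k
    push Not at k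
    refine core two cr sx.r3 t2 t1 oy' ty nc' (fun g hg => ?_) S' (fun s hs0 => ?_)
      (fun A h1 h2 m => ?_) k
    · obtain ⟨g, hg', rfl⟩ := hP.sur g
      exact (hP.ker g hg').2 (fa g hg' fun w hw => comm_mem sc ok.n2 hg' hw (hg _))
    · obtain ⟨s, hs, rfl⟩ := (mS s).1 hs0
      obtain ⟨A, mA, QA, -⟩ := P8.PjB.pre.{u, u} hP (zpowers (π y))
      rw [← P8.PjBH.cj hP (syl.1 hs) yH]
      exact ((mA _).1 (sup_le (zpowers_le.2 ((mA y).2 ⟨yH, mem_zpowers _⟩)) QA (hS s hs))).2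
    · obtain ⟨B, mB, UB⟩ := pre A
      have VB : V ≤ B := Vy.trans (sup_le (commutator_le.2 fun v hv c hc => by
        obtain ⟨k1, k2⟩ := pc v (VU hv) c (zpowers_le.2 yH hc)
        refine (mB _).2 ⟨k1, h2 _ ?_⟩
        rw [k2, map_add]
        rcases (mem_zp y3).1 (zp y yH c hc) with k | k | k <;> rw [k]
        · rw [one_smul, two]
        · rw [T_self y3, two]
        · rw [mul_smul, T_self y3, T_self y3, two]) UB)
      obtain ⟨u, hu, rfl⟩ := hs m
      refine ((mB u).1 (sup_le (iSup_le fun k => cj_le_iff.2 fun v hv => (mB _).2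
        ⟨mem_normalizer_conj (ok.n2 k.2) (VU hv), ?_⟩) UB (UV hu))).2
      rw [sc.eqv _ k.2 _ (VU hv)]
      exact h1 _ _ ((mB v).1 (VB hv)).2
  let ψ : U₂ →* Multiplicative M := MonoidHom.mk' (fun d => Multiplicative.ofAdd (p d + π t • p d))
    fun a b => by
      rw [← ofAdd_add, Subgroup.coe_mul, ha _ a.2 _ b.2, smul_add, add_add_add_comm]
  have mR : ∀ m : M, m + π t • m ∈ Subgroup.toAddSubgroup' ψ.range := fun m => by
    obtain ⟨u, hu, rfl⟩ := hs m
    exact ⟨⟨u, hu⟩, rfl⟩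
  have k2 : D.subgroupOf U₂ = ψ.ker := by
    ext d
    obtain ⟨k1, k2⟩ := pc d d.2 t tH
    rw [mem_subgroupOf, hD, MonoidHom.mem_ker, ← hz _ k1, k2]
    exact ⟨fun h => congrArg Multiplicative.ofAdd h.2, fun h => ⟨d.2, congrArg Multiplicative.toAdd h⟩⟩
  have c1 : D.relIndex U₂ = Nat.card ψ.range := by rw [relIndex, k2, index_ker]
  have c2 : 4 ≤ Nat.card ψ.range := four two y3 (Subgroup.toAddSubgroup' ψ.range) (mR m) (by
    rw [smul_add, smul_smul, ← ty, mul_smul]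
    exact mR _) hm
  have c4 : D.relIndex U₂ = 4 := le_antisymm h4 (c1 ▸ c2)
  obtain ⟨B, mB, UB⟩ := pre (Subgroup.toAddSubgroup' ψ.range)
  have RB : ⁅U₂, zpowers t⁆ ⊔ U₁ ≤ B := sup_le (commutator_le.2 fun u hu c hc => by
    obtain ⟨k1, k2⟩ := pc u hu c (zpowers_le.2 tH hc)
    refine (mB _).2 ⟨k1, ?_⟩
    rw [k2]
    obtain ⟨n, hn⟩ := mem_zpowers_iff.1 (zp t tH c hc)
    have t2' : π t ^ (2 : ℤ) = 1 := by rw [zpow_two, t2]
    rw [← hn, zpow_eq_zpow_emod n t2']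
    rcases Int.emod_two_eq_zero_or_one n with k | k <;> rw [k]
    · rw [zpow_zero, one_smul, two]
      exact zero_mem _
    · rw [zpow_one]
      exact mR _) UB
  refine ⟨c4, ?_, fun k => hm ?_⟩
  · let χ : ↥(⁅U₂, zpowers t⁆ ⊔ U₁) →* Multiplicative M :=
      MonoidHom.mk' (fun d => Multiplicative.ofAdd (p d)) fun a b => by
        rw [← ofAdd_add, ← ha _ ((mB _).1 (RB a.2)).1 _ ((mB _).1 (RB b.2)).1]; rfl
    have hk : χ.ker = U₁.subgroupOf _ := by
      ext d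
      rw [MonoidHom.mem_ker, mem_subgroupOf, ← hz _ ((mB _).1 (RB d.2)).1]
      exact Iff.rfl
    have hr : χ.range = ψ.range := by
      refine le_antisymm ?_ ?_
      · rintro _ ⟨d, rfl⟩
        exact ((mB _).1 (RB d.2)).2
      · rintro _ ⟨u, rfl⟩
        exact ⟨⟨⁅(u : G), t⁆, mem_sup_left (commutator_mem_commutator u.2 (mem_zpowers t))⟩,
          congrArg Multiplicative.ofAdd (pc u u.2 t tH).2⟩
    rw [relIndex, ← hk, index_ker, hr, ← c1, c4]
  · obtain ⟨u, hu, rfl⟩ := hs m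
    obtain ⟨k1, k2⟩ := pc u hu t tH
    obtain ⟨k3, k4⟩ := pc _ k1 y yH
    have := (hz _ k3).2 (k (commutator_mem_commutator
      (commutator_mem_commutator hu (mem_zpowers t)) (mem_zpowers y)))
    rw [k4, k2] at this
    linear_combination (norm := abel1) this - two (p u + π t • p u)

end Cfsg.Lib.K7
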