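import Cfsg.Agent.K7.Loc2
import Cfsg.Agent.P8.Bas1
import Cfsg.Agent.P8.PjB

/-!
# Simple groups of order `7 * 3 ^ a * 2 ^ b`: an inverted subgroup of order three
-/

set_option autoImplicit false

namespace Cfsg.Lib.K7

open Cfsg Subgroup Cfsg.Lib.Trans Cfsg.Lib.Gold
open Cfsg.Lib.P8 (O2 E9 Pj PjB)
open scoped commutatorElement

universe u

namespace Ld

variable {X : Type u} [Group X]

theorem o3 {x : X} (h1 : x ≠ 1) (h3 : x ^ 3 = 1) : orderOf x = 3 :=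
  haveI : Fact (Nat.Prime 3) := ⟨Nat.prime_three⟩
  orderOf_eq_prime h3 h1

theorem ex {E : Subgroup X} {φ : X →* Ngrp.G48} (c : Cr E φ) {b : X} (b2 : b * b = 1) (b1 : b ≠ 1)
    (hN : ∀ w : X, orderOf w = 3 → ⁅w, b⁆ = (1 : X) → Nc ⊤ w) :
    ∃ x ∈ E ⊓ Cs E, x ≠ 1 ∧ b * x * b⁻¹ * x = 1 := by
  have := c.nor
  have nZ : (E ⊓ Cs E).Normal := inferInstance
  by_cases h : ∀ z ∈ E ⊓ Cs E, b * z * b⁻¹ = z
  · exfalso
    by_cases ab : ∀ e ∈ E, ∀ e' ∈ E, ⁅e, e'⁆ = 1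
    · obtain ⟨k, hk⟩ := c.k3 b ((c.ker b).2 fun e he => by
        have : e ∈ Cs E := mem_centralizer_iff.2 fun f hf => commutatorElement_eq_one_iff_mul_comm.1 (ab f hf e he)
        rw [commutatorElement_def, h e ⟨he, this⟩, mul_inv_cancel]
        exact one_mem _)
      have h2 : orderOf b ∣ 2 := orderOf_dvd_of_pow_eq_one (by rw [sq, b2])
      have h3 : orderOf b ∣ 3 ^ k := orderOf_dvd_of_pow_eq_one hk
      exact b1 (orderOf_eq_one_iff.1 (Nat.eq_one_of_dvd_coprimes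
        (Nat.Coprime.pow_right k (by decide : Nat.Coprime 2 3)) h2 h3))
    · push Not at ab
      obtain ⟨e, he, e', he', ne⟩ := ab
      have wE : ⁅e, e'⁆ ∈ E := by
        rw [commutatorElement_def]
        exact mul_mem (mul_mem (mul_mem he he') (inv_mem he)) (inv_mem he')
      have wC : ⁅e, e'⁆ ∈ Cs E := c.cl (commutator_mem_commutator he he')
      have hb := h _ ⟨wE, wC⟩
      refine hN _ (o3 ne (c.e3 _ wE)) (commutatorElement_eq_one_iff_mul_comm.2 ?_) e trivial e' trivial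
        (c.e3 _ he) (c.e3 _ he') (mem_centralizer_iff.1 wC e he) (mem_centralizer_iff.1 wC e' he') rfl
      exact (mul_inv_eq_iff_eq_mul.1 hb).symm
  · push Not at h
    obtain ⟨z, hz, ne⟩ := h
    refine ⟨b * z * b⁻¹ * z⁻¹, mul_mem (nZ.conj_mem z hz b) (inv_mem hz), fun e => ne (mul_inv_eq_one.1 e), ?_⟩
    calc b * (b * z * b⁻¹ * z⁻¹) * b⁻¹ * (b * z * b⁻¹ * z⁻¹)
        = (b * b) * z * (b * b)⁻¹ * z⁻¹ := by group
      _ = 1 := by rw [b2]; group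

theorem core [Finite X] {E : Subgroup X} {φ : X →* Ngrp.G48} (c : Cr E φ) {b : X} (b2 : b * b = 1) (b1 : b ≠ 1)
    (h9 : ∀ e e', E9 e e' → b * e * b⁻¹ * e = 1 → b * e' * b⁻¹ * e' = 1 → False)
    (hN : ∀ w : X, orderOf w = 3 → ⁅w, b⁆ = (1 : X) → Nc ⊤ w) :
    ∃ x, orderOf x = 3 ∧ b * x * b⁻¹ * x = 1 ∧
      ∀ τ, τ * b = b * τ → τ * x * τ⁻¹ * x⁻¹ = 1 ∨ τ * x * τ⁻¹ * x = 1 := by
  have := c.nor
  have nZ : (E ⊓ Cs E).Normal := inferInstance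
  obtain ⟨x, hx, x1, hi⟩ := ex c b2 b1 hN
  have x3 := c.e3 x hx.1
  have ox := o3 x1 x3
  refine ⟨x, ox, hi, fun τ hτ => ?_⟩
  have hy := nZ.conj_mem x hx τ
  have y1 : τ * x * τ⁻¹ ≠ 1 := fun e => x1 (by simpa using e)
  by_cases m : τ * x * τ⁻¹ ∈ zpowers x
  · obtain ⟨n, hn, e⟩ : ∃ n < 3, x ^ n = τ * x * τ⁻¹ := by
      obtain ⟨n, e⟩ := (mem_powers_iff_mem_zpowers.2 m : τ * x * τ⁻¹ ∈ Submonoid.powers x)
      exact ⟨n % 3, Nat.mod_lt _ (by norm_num), by rw [← ox, pow_mod_orderOf]; exact e⟩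
    interval_cases n
    · exact absurd (by simpa using e.symm) y1
    · exact Or.inl (by rw [← e]; simp)
    · exact Or.inr (by rw [← e, ← pow_succ, x3])
  · refine (h9 x _ ⟨ox, o3 y1 (c.e3 _ hy.1), mem_centralizer_iff.1 hy.2 x hx.1, m⟩ hi ?_).elim
    have e : b * τ = τ * b := hτ.symm
    calc b * (τ * x * τ⁻¹) * b⁻¹ * (τ * x * τ⁻¹) = (b * τ) * x * (b * τ)⁻¹ * (τ * x * τ⁻¹) := by group
      _ = τ * (b * x * b⁻¹ * x) * τ⁻¹ := by rw [e]; group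
      _ = 1 := by rw [hi]; group

end Ld

theorem ld (hCr : StCr.{u}) (hBr : StBr.{u}) : StLd.{u} := by
  intro G _ _ H T a sv hT _ ha a0 a2 Ta h9 hN
  have := P8.pf_Bas1.{u}
  have := P8.pf_PjB.{u, u}
  obtain ⟨X, _, _, π, p, sx, b1, b2⟩ := hBr G H sv
  obtain ⟨E, φ, c⟩ := hCr X sx
  obtain ⟨o1, oi, -⟩ := PjB.one p
  have cj3 : ∀ s ∈ H, ∀ x ∈ H, ∀ y ∈ H, (π s * π x * (π s)⁻¹ * π y = 1 ↔ s * x * s⁻¹ * y ∈ O2 H) :=
    fun s hs x hx y hy => by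
      rw [← oi s hs, ← p.mul s hs x hx, ← p.mul _ (mul_mem hs hx) _ (inv_mem hs),
        ← p.mul _ (mul_mem (mul_mem hs hx) (inv_mem hs)) _ hy,
        p.ker _ (mul_mem (mul_mem (mul_mem hs hx) (inv_mem hs)) hy)]
  have lift : ∀ w : X, orderOf w = 3 → ∃ x ∈ H, π x = w ∧ orderOf x = 3 := fun w ow => by
    obtain ⟨h, hh, rfl⟩ := p.sur w
    obtain ⟨x, hx, e, o⟩ := PjB.odd p h hh (by rw [ow]; decide)
    exact ⟨x, zpowers_le.2 hh hx, e, o.trans ow⟩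
  obtain ⟨w, ow, hi, hτ⟩ := Ld.core c (b := π a) (by rw [← p.mul a ha a ha, a2, o1])
    (fun e => a0 ((p.ker a ha).1 e))
    (fun e e' k i i' => by
      obtain ⟨x, hx, y, hy, rfl, rfl, k'⟩ := b2 e e' k
      exact h9 x hx y hy k' ((cj3 a ha x hx x hx).1 i) ((cj3 a ha y hy y hy).1 i'))
    (fun w ow k => by
      obtain ⟨x, hx, rfl, ox⟩ := lift w ow
      refine (b1 x hx ox (hN x hx ox ?_)).2
      rw [commutatorElement_def, ← oi a ha] at k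
      exact (cj3 x hx a ha _ (inv_mem ha)).1 k)
  obtain ⟨x, hx, rfl, ox⟩ := lift w ow
  refine ⟨x, hx, ox, (cj3 a ha x hx x hx).1 hi, fun τ h => ?_⟩
  have hH := hT h
  have k : π τ * π a = π a * π τ := by
    rw [← p.mul τ hH a ha, ← p.mul a ha τ hH, mem_centralizer_singleton_iff.1 (Ta h)]
  rcases hτ _ k with e | e
  · rw [← oi x hx] at e
    exact Or.inl ((cj3 τ hH x hx _ (inv_mem hx)).1 e)
  · exact Or.inr ((cj3 τ hH x hx x hx).1 e)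

end Cfsg.Lib.K7
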