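import Cfsg.Agent.K7.Loc2
import Cfsg.Agent.K35.FQ8

/-!
# The central involution of a quaternion section moves a large part of a faithful module
-/

set_option autoImplicit false
set_option linter.unusedSectionVars false
set_option linter.style.haveILetI false

namespace Cfsg.Lib.K7

open Cfsg Subgroup Cfsg.Lib.Trans Cfsg.Lib.Gold
open Cfsg.Lib.P8 (L32 V3 O2 Om Jt Phi EA SR4 Ch E9 Pj Ty Sec SecOK Mx Crd)
open Cfsg.Lib.K35.FQ8
open scoped commutatorElement

universe u v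

namespace Lq

theorem q8 : ∀ z a : QuaternionGroup 2, z ≠ 1 → z * z = 1 → a ≠ 1 → a ≠ z → a * a = z := by decide

theorem q8' : ∀ z : QuaternionGroup 2, ∃ a, a ≠ 1 ∧ a ≠ z := by decide

set_option maxRecDepth 100000 in
theorem g48 : ∀ g : Ngrp.G48, g * g ≠ 1 → g * g * (g * g) = 1 → g * g = Ngrp.G48.neg1 := by
  decide +kernel

variable {X : Type v} [Group X] [Finite X] {E N S : Subgroup X} {e i t y : X}

/-- Squares centralize normal subgroups of order at most three. -/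
theorem cyc3 (hN : N.Normal) (hc : Nat.card N ≤ 3) (h3 : ∀ e ∈ N, e ^ 3 = 1) (he : e ∈ N) (i : X) :
    i * i * e = e * (i * i) := by
  by_cases e1 : e = 1
  · rw [e1, mul_one, one_mul]
  have hz : zpowers e = N := eq_of_le_of_card_ge (zpowers_le.2 he) (by rwa [card_zp (h3 e he) e1])
  have m := hN.conj_mem e he i
  rw [← hz] at m
  rw [← mul_inv_eq_iff_eq_mul, show i * i * e * (i * i)⁻¹ = i * (i * e * i⁻¹) * i⁻¹ by group]
  rcases (mem_zp (h3 e he)).1 m with k | k | k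
  · exact absurd (conj_eq_one_iff.1 k) e1
  · rw [k, k]
  · rw [k, ← conj_mul, k, show e * e * (e * e) = e ^ 3 * e by
      simp only [pow_succ, pow_zero, one_mul, mul_assoc], h3 e he, one_mul]

theorem fixp (hN : N.Normal) (hy : y ^ 3 = 1) (h : 3 ∣ Nat.card N) :
    ∃ n ∈ N, n ≠ 1 ∧ y * n * y⁻¹ = n := by
  haveI : Fact (Nat.Prime 3) := ⟨Nat.prime_three⟩
  letI : MulAction (zpowers y) N :=
    MulAction.compHom N ((MulAut.conjNormal (H := N)).comp (zpowers y).subtype)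
  have hp : IsPGroup 3 (zpowers y) := fun g => ⟨1, Subtype.ext (by
    obtain ⟨k, hk⟩ := mem_zpowers_iff.1 g.2
    rw [pow_one, SubgroupClass.coe_pow, ← hk, ← zpow_natCast, ← zpow_mul, mul_comm, zpow_mul,
      zpow_natCast, hy, one_zpow]; rfl)⟩
  obtain ⟨b, hb, h1⟩ := hp.exists_fixed_point_of_prime_dvd_card_of_fixed_point N h (a := 1)
    fun g => map_one (MulAut.conjNormal (H := N) (g : X))
  exact ⟨b, b.2, fun k => h1 (Subtype.ext k.symm), congrArg Subtype.val (hb ⟨y, mem_zpowers y⟩)⟩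

theorem no27 {φ : X →* Ngrp.G48} (h : Cr E φ) (r3 : PRankLE 3 2 X) (c27 : Nat.card E = 27)
    (c3 : Nat.card ↥⁅E, E⁆ = 3) (hi : i * i = t) (ht : φ t = Ngrp.G48.neg1) (oy : orderOf y = 3)
    (ty : t * y = y * t) (nc : Nc ⊤ y) : False := by
  haveI := h.nor
  have ZE : ⁅E, E⁆ ≤ E := commutator_le_left _ _
  have Z3 : ∀ z ∈ ⁅E, E⁆, z ^ 3 = 1 := fun z hz => h.e3 z (ZE hz)
  have y3 : y ^ 3 = 1 := oy ▸ pow_orderOf_eq_one y
  have tZ : ∀ z ∈ ⁅E, E⁆, t * z = z * t := fun z hz => hi ▸ cyc3 inferInstance c3.le Z3 hz i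
  have yZ : ∀ z ∈ ⁅E, E⁆, y * z = z * y := fun z hz => by
    have := cyc3 inferInstance c3.le Z3 hz (y * y)
    rwa [show y * y * (y * y) = y ^ 3 * y by simp only [pow_succ, pow_zero, one_mul, mul_assoc], y3,
      one_mul] at this
  have EZ : ∀ e ∈ E, ∀ z ∈ ⁅E, E⁆, e * z = z * e := fun e he z hz => h.cl hz e he
  have cancel : ∀ z ∈ ⁅E, E⁆, z * z = 1 → z = 1 := fun z hz k => by
    have := Z3 z hz
    rwa [pow_succ, pow_two, k, one_mul] at this
  obtain ⟨e0, he0, n0⟩ : ∃ e ∈ E, e ∉ ⁅E, E⁆ := by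
    by_contra k
    push Not at k
    have := Subgroup.card_le_of_le (show E ≤ ⁅E, E⁆ from k)
    omega
  obtain ⟨_, ⟨e, he, rfl⟩, e1, ey⟩ := fixp (N := E.map (QuotientGroup.mk' ⁅E, E⁆))
    (y := QuotientGroup.mk' ⁅E, E⁆ y) (Normal.map inferInstance _ (QuotientGroup.mk'_surjective _))
    (by rw [← map_pow, y3, map_one]) (by
      haveI : Fact (Nat.Prime 3) := ⟨Nat.prime_three⟩
      rw [← orderOf_eq_prime (x := QuotientGroup.mk' ⁅E, E⁆ e0) (p := 3)
        (by rw [← map_pow, h.e3 e0 he0, map_one]) fun k => n0 ((QuotientGroup.eq_one_iff _).1 k)]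
      exact orderOf_dvd_natCard _ (mem_map_of_mem _ he0))
  have nZ : e ∉ ⁅E, E⁆ := fun k => e1 ((QuotientGroup.eq_one_iff _).2 k)
  have m1 : e⁻¹ * (y * e * y⁻¹) ∈ ⁅E, E⁆ := by
    rw [← map_inv, ← map_mul, ← map_mul] at ey
    exact QuotientGroup.eq.1 ey.symm
  have m0 := h.neg t ht e he
  -- the representative inverted by `t`
  obtain ⟨a, ha, aZ, ta, ya⟩ : ∃ a ∈ E, a ∉ ⁅E, E⁆ ∧ t * a * t⁻¹ = a⁻¹ ∧
      a⁻¹ * (y * a * y⁻¹) ∈ ⁅E, E⁆ := by
    generalize hz : t * e * t⁻¹ * e = z at m0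
    refine ⟨e * z, mul_mem he (ZE m0), fun k => nZ ((mul_mem_cancel_right m0).1 k), ?_, ?_⟩
    · rw [← conj_mul, tZ z m0, mul_inv_cancel_right, eq_mul_inv_of_mul_eq hz, mul_inv_rev,
        mul_assoc, EZ _ (inv_mem he) z m0, ← mul_assoc, eq_inv_of_mul_eq_one_left
          (show z * z * z = 1 by rw [← pow_two, ← pow_succ, Z3 z m0])]
    · rw [← conj_mul, yZ z m0, mul_inv_cancel_right,
        show (e * z)⁻¹ * (y * e * y⁻¹ * z) = z⁻¹ * (e⁻¹ * (y * e * y⁻¹)) * z by group]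
      exact mul_mem (mul_mem (inv_mem m0) m1) m0
  have ay : y * a * y⁻¹ = a := by
    generalize hz : a⁻¹ * (y * a * y⁻¹) = z at ya
    have k1 : y * a * y⁻¹ = a * z := by rw [← hz, mul_inv_cancel_left]
    have k2 : t * (y * a * y⁻¹) * t⁻¹ = (y * a * y⁻¹)⁻¹ := by
      rw [show t * (y * a * y⁻¹) * t⁻¹ = t * y * a * (t * y)⁻¹ by group, ty,
        show y * t * a * (y * t)⁻¹ = y * (t * a * t⁻¹) * y⁻¹ by group, ta]
      group
    rw [k1, ← conj_mul, ta, tZ z ya, mul_inv_cancel_right, mul_inv_rev, ← EZ _ (inv_mem ha) _ (inv_mem ya),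
      mul_right_inj] at k2
    rw [k1, cancel z ya (by nth_rw 2 [k2]; exact mul_inv_cancel z), mul_one]
  obtain ⟨z, hz, z1⟩ : ∃ z ∈ ⁅E, E⁆, z ≠ 1 := by
    by_contra k
    push Not at k
    rw [(eq_bot_iff_forall _).2 k, card_bot] at c3
    omega
  have hZ : zpowers z = ⁅E, E⁆ := eq_of_le_of_card_ge (zpowers_le.2 hz)
    (by rw [card_zp (Z3 z hz) z1, c3])
  haveI : Fact (Nat.Prime 3) := ⟨Nat.prime_three⟩
  have n9 := n9_of (show E9 z a from ⟨orderOf_eq_prime (Z3 z hz) z1, orderOf_eq_prime (h.e3 a ha)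
    (fun k => aZ (k ▸ one_mem _)), (EZ a ha z hz).symm, hZ ▸ aZ⟩)
  have ya' : y * a = a * y := mul_inv_eq_iff_eq_mul.1 ay
  have ea : IsElementaryAbelian 3 (closure ({z, a, y} : Set X)) := TJ.ea_closure (by
    rintro x (rfl | rfl | rfl) w (rfl | rfl | rfl)
    exacts [rfl, (EZ _ ha _ hz).symm, (yZ _ hz).symm, EZ _ ha _ hz, rfl, ya'.symm, yZ _ hz, ya', rfl])
    (by
    rintro x (rfl | rfl | rfl)
    exacts [Z3 _ hz, h.e3 _ ha, y3])
  have le : closure ({z, a} : Set X) ≤ closure {z, a, y} := closure_mono (by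
    rintro x (rfl | rfl)
    exacts [.inl rfl, .inr (.inl rfl)])
  have yE : y ∈ E := by
    have : y ∈ closure ({z, a, y} : Set X) := subset_closure (.inr (.inr rfl))
    rw [← eq_of_le_of_card_ge le (by rw [n9.card]; exact r3 _ ea.1 ea.2)] at this
    exact (closure_le E).2 (by rintro x (rfl | rfl); exacts [ZE hz, ha]) this
  have yZ' : y ∈ ⁅E, E⁆ := sq_mem y3 (by
    have := h.neg t ht y yE
    rwa [ty, mul_inv_cancel_right] at this)
  have y1 : y ≠ 1 := fun k => by rw [k, orderOf_one] at oy; omega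
  have hY : zpowers y = ⁅E, E⁆ := eq_of_le_of_card_ge (zpowers_le.2 yZ')
    (by rw [card_zp y3 y1, c3])
  refine z1 ((eq_bot_iff_forall _).1 (le_bot_iff.1 (commutator_le.2 fun b hb c hc => ?_)) z hz)
  have nc' := fun b hb c hc => nc b trivial c trivial (h.e3 b hb) (h.e3 c hc) (EZ b hb y yZ')
    (EZ c hc y yZ')
  rcases (mem_zp y3).1 (hY ▸ commutator_mem_commutator hb hc) with k | k | k
  · exact mem_bot.2 k
  · exact absurd k (nc' b hb c hc)
  · refine absurd ?_ (nc' c hc b hb)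
    rw [← commutatorElement_inv, k]
    exact inv_eq_of_mul_eq_one_right (by rw [← pow_two, ← pow_succ, y3])

variable {M : Type u} [AddCommGroup M] [DistribMulAction X M] [Finite M] {m : M}

theorem mv (two : ∀ m : M, m + m = 0) (h : N9 E) (tN : t ∈ Ns E)
    (inv : ∀ e ∈ E, t * e * t⁻¹ = e⁻¹) (he : e ∈ E) (hm : m ∈ FS M E e) (m1 : m ≠ 0) :
    ∃ w : M, w + t • w ∈ FS M E e ∧ w + t • w ≠ 0 := by
  obtain ⟨w, hw, hz'⟩ : ∃ w ∈ FS M E e, t • w ≠ w := by
    by_contra k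
    push Not at k
    obtain ⟨f, hf, h2⟩ := h.exists_out he
    have k1 : f • m ∈ FS M E e := by
      have := FS_conj (le_normalizer hf) hm
      rwa [h.comm f hf e he, mul_inv_cancel_right] at this
    have k2 := k _ k1
    rw [smul_smul, show t * f = t * f * t⁻¹ * t by group, inv f hf, mul_smul, k _ hm,
      inv_smul_eq_iff, smul_smul] at k2
    have k3 : f • m = m := sq_mem (H := MulAction.stabilizer X m) (h.cube f hf) k2.symm
    exact m1 (by rw [← T_fix two k3, hm.2 f hf h2])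
  have k := FS_conj tN hw
  rw [inv e he] at k
  refine ⟨w, add_mem hw ⟨?_, fun f hf n => k.2 f hf (by rwa [zpowers_inv])⟩, fun k => hz' ?_⟩
  · exact (inv_smul_eq_iff.1 k.1).symm
  · linear_combination (norm := abel1) k - two w

theorem sixteen (two : ∀ m : M, m + m = 0) (h : N9 E) (hS : S ≤ Ns E) (h8 : Nat.card S = 8)
    (fr : ∀ s ∈ S, ∀ e ∈ E, e ≠ 1 → s * e = e * s → s = 1) (hn : ∃ e ∈ E, ∃ m : M, e • m ≠ m)
    (tN : t ∈ Ns E) (inv : ∀ e ∈ E, t * e * t⁻¹ = e⁻¹) (D : AddSubgroup M)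
    (hD : ∀ m : M, m + t • m ∈ D) : 16 ≤ Nat.card D := by
  obtain ⟨a, ha, a1⟩ := h.exists_ne
  obtain ⟨f, hf, h2⟩ := h.exists_out ha
  obtain ⟨l1, l2⟩ := h.lines ha a1 hf h2
  generalize ![a, f, a * f, a * (f * f)] = c at l1 l2
  have c1 : ∀ j, c j ≠ 1 := fun j => h.ne_one (l2 j (j + 1) (by fin_cases j <;> decide))
  have ex : ∀ j, ∃ w : M, w + t • w ∈ FS M E (c j) ∧ w + t • w ≠ 0 := fun j => by
    obtain ⟨m, hm, m1⟩ := all_FS two h hn (fun e he e1 g hg g1 => by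
      have : (C1 e).subgroupOf S = ⊥ := (eq_bot_iff_forall _).2 fun s hs =>
        Subtype.ext (fr s s.2 e he e1 (mem_centralizer_singleton_iff.1 hs))
      obtain ⟨s, hs, k⟩ := h.trans hS he e1 (by rw [this, card_bot, h8]; norm_num) hg g1
      exact ⟨s, hS hs, k⟩) (l1 j) (c1 j)
    exact mv two h tN inv (l1 j) hm m1
  choose w w1 w2 using ex
  let n : Fin 4 → Bool → M := fun j b => if b then w j + t • w j else 0
  have n1 : ∀ j b, n j b ∈ FS M E (c j) := fun j b => by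
    cases b
    exacts [zero_mem _, w1 j]
  have n2 : ∀ j b, n j b ∈ D := fun j b => by
    cases b
    exacts [zero_mem _, hD _]
  have key : ∀ (b : Fin 4 → Bool) i, T (c i) (∑ j, n j (b j)) = n i (b i) := fun b i => by
    rw [map_sum, Finset.sum_eq_single i (fun j _ hj => (n1 j _).2 _ (l1 i) (l2 i j hj.symm)) (by simp),
      T_fix two (n1 i _).1]
  have inj : Function.Injective fun b : Fin 4 → Bool =>
      (⟨∑ j, n j (b j), sum_mem fun j _ => n2 j _⟩ : D) := fun b b' k => funext fun i => by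
    have k1 : n i (b i) = n i (b' i) := by rw [← key b i, ← key b' i, Subtype.mk.inj k]
    generalize b i = x, b' i = x' at k1 ⊢
    cases x <;> cases x'
    exacts [rfl, absurd k1.symm (w2 i), absurd k1 (w2 i), rfl]
  simpa using Nat.card_le_card_of_injective _ inj

end Lq

open Lq P8.BrgH in
theorem lq (hCr : StCr.{u}) (hBr : StBr.{u}) : StLq.{u} := by
  intro G _ _ H R U₁ U₂ D y t sv yH oy nc QR RH yR ⟨f, f1, f2⟩ tR tQ tt ok fa _ DU hD
  haveI := P8.pf_Bas1.{u}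
  haveI := P8.pf_PjB.{u, u}
  obtain ⟨X, _, _, π, hP, sx, hy, -⟩ := hBr G H sv
  obtain ⟨oy', nc'⟩ := hy y yH oy nc
  obtain ⟨E, φ, cr⟩ := hCr X sx
  haveI := cr.nor
  have hU : U₂ ≤ H := ok.leQ.trans hP.le
  obtain ⟨M, _, _, p, ha, hz, hs⟩ := exists_p (hU.trans ok.n1) ok.sq
  obtain ⟨_, sc⟩ := exists_act hP ok ha hz hs
  have two : ∀ m : M, m + m = 0 := fun m => by
    obtain ⟨u, hu, rfl⟩ := hs m
    rw [← ha u hu u hu, hz _ (mul_mem hu hu)]
    exact ok.sq u hu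
  have fk : ∀ r : R, f r = 1 ↔ π r = 1 := fun r => by
    rw [hP.ker _ (RH r.2), ← MonoidHom.mem_ker, f2, mem_subgroupOf]
  have fe : ∀ r s : R, f r = f s ↔ π r = π s := fun r s => by
    rw [P8.PjBH.eq_iff hP (RH r.2) (RH s.2), ← inv_mul_eq_one, ← map_inv, ← map_mul,
      ← MonoidHom.mem_ker, f2, mem_subgroupOf]; rfl
  have t1 : π t ≠ 1 := fun k => tQ ((hP.ker t (RH tR)).1 k)
  have t2 : π t * π t = 1 := by
    rw [← hP.mul _ (RH tR) _ (RH tR), hP.ker _ (mul_mem (RH tR) (RH tR))]; exact tt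
  have sq : ∀ r ∈ R, π r ≠ 1 → π r ≠ π t → π r * π r = π t := fun r hr r1 r2 => by
    rw [← hP.mul _ (RH hr) _ (RH hr)]
    refine (fe (⟨r, hr⟩ * ⟨r, hr⟩) ⟨t, tR⟩).1 ?_
    rw [map_mul]
    refine q8 _ _ (fun k => t1 ((fk _).1 k)) ?_ (fun k => r1 ((fk _).1 k)) fun k => r2 ((fe _ _).1 k)
    rw [← map_mul, fk]
    exact (hP.mul _ (RH tR) _ (RH tR)).trans t2
  obtain ⟨i, hi⟩ : ∃ i : X, i * i = π t := by
    obtain ⟨a, a1, a2⟩ := q8' (f ⟨t, tR⟩)
    obtain ⟨r, rfl⟩ := f1 a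
    exact ⟨_, sq r r.2 (fun k => a1 ((fk _).2 k)) fun k => a2 ((fe _ _).2 k)⟩
  have ty : π t * π y = π y * π t := by
    have m := mem_normalizer_conj yR tR
    have k := P8.PjBH.cj hP yH (RH tR)
    by_contra n
    have := sq _ m (by rw [k]; exact fun k => t1 (conj_eq_one_iff.1 k))
      (by rw [k]; exact fun k => n (mul_inv_eq_iff_eq_mul.1 k).symm)
    rw [k, conj_mul, t2, mul_one, mul_inv_cancel] at this
    exact t1 this.symm
  have p1 : φ (π t) ≠ 1 := fun k => by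
    obtain ⟨n, hn⟩ := cr.k3 _ k
    exact t1 ((pow_eq_one_iff_of_coprime (show Nat.Coprime 2 (3 ^ n) from
      Nat.Coprime.pow_right _ (by norm_num))).1 ⟨by rw [pow_two, t2], hn⟩)
  have pn : φ (π t) = Ngrp.G48.neg1 := by
    rw [← hi, map_mul] at p1 ⊢
    exact g48 _ p1 (by rw [← map_mul, hi, ← map_mul, t2, map_one])
  rcases cr.cs with c | ⟨c9, cb⟩ | ⟨c27, c3, -⟩
  · refine absurd ((cr.ker _).2 fun e he => ?_) p1
    rw [← hi, commutatorElement_eq_one_iff_mul_comm.2 (cyc3 cr.nor c cr.e3 he i)]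
    exact one_mem _
  swap
  · exact (no27 cr sx.r3 c27 c3 hi pn oy' ty nc').elim
  have n9 : N9 E := ⟨c9, cr.e3, fun a ha b hb => commutatorElement_eq_one_iff_mul_comm.1
    (mem_bot.1 (cb ▸ commutator_mem_commutator ha hb))⟩
  have inv : ∀ e ∈ E, π t * e * (π t)⁻¹ = e⁻¹ := fun e he =>
    eq_inv_of_mul_eq_one_left (mem_bot.1 (cb ▸ cr.neg _ pn e he))
  have nE : ∀ g : X, g ∈ Ns E := fun g => by rw [Ns, normalizer_eq_top]; trivial
  obtain ⟨S, mS, cS⟩ := P8.PjBH.im hP _ RH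
  have c8 : (O2 H).relIndex R = 8 := by
    rw [relIndex, ← f2, index_ker, MonoidHom.range_eq_top.2 f1, card_top, Nat.card_eq_fintype_card,
      QuaternionGroup.card]
  have fr : ∀ s ∈ S, ∀ e ∈ E, e ≠ 1 → s * e = e * s → s = 1 := fun s hs0 e he e1 k => by
    obtain ⟨s, hs, rfl⟩ := (mS s).1 hs0
    by_contra s1
    have k1 : π t * e = e * π t := by
      by_cases s2 : π s = π t
      · exact s2 ▸ k
      · rw [← sq s hs s1 s2, mul_assoc, k, ← mul_assoc, k, mul_assoc]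
    have k2 := inv e he
    rw [k1, mul_inv_cancel_right] at k2
    have k3 := cr.e3 e he
    rw [pow_succ, pow_two] at k3
    nth_rw 2 [k2] at k3
    rw [mul_inv_cancel, one_mul] at k3
    exact e1 k3
  have hn : ∃ e ∈ E, ∃ m : M, e • m ≠ m := by
    by_contra k
    push Not at k
    obtain ⟨e, he, e1⟩ := n9.exists_ne
    obtain ⟨g, hg, rfl⟩ := hP.sur e
    exact e1 ((hP.ker g hg).2 (fa g hg fun w hw => comm_mem sc ok.n2 hg hw (k _ he _)))
  let ψ : U₂ →* Multiplicative M := MonoidHom.mk' (fun d => Multiplicative.ofAdd (p d + π t • p d))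
    fun a b => by
      rw [← ofAdd_add, Subgroup.coe_mul, ha _ a.2 _ b.2, smul_add, add_add_add_comm]
  have k1 := sixteen two n9 (S := S) (fun s _ => nE s) (cS.trans c8) fr hn (nE _) inv
    (Subgroup.toAddSubgroup' ψ.range) fun m => by
      obtain ⟨u, hu, rfl⟩ := hs m
      exact ⟨⟨u, hu⟩, rfl⟩
  have k2 : D.subgroupOf U₂ ≤ ψ.ker := fun d hd => by
    have k := (hz _ (ok.le (hD d hd))).2 (hD d hd)
    rw [show ⁅(d : G), t⁆ = d * (t * (d : G)⁻¹ * t⁻¹) by simp only [commutatorElement_def]; group,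
      ha _ d.2 _ (mem_normalizer_conj (ok.n2 (RH tR)) (inv_mem d.2)), sc.eqv t (RH tR) _ (inv_mem d.2),
      p_inv ha d.2, smul_neg] at k
    change Multiplicative.ofAdd (p d + π t • p d) = Multiplicative.ofAdd 0
    congr 1
    linear_combination (norm := abel1) k + two (π t • p d)
  refine k1.trans (le_trans ?_ (Nat.le_of_dvd (Nat.pos_of_ne_zero index_ne_zero_of_finite)
    (index_dvd_of_le k2)))
  rw [index_ker]
  rfl

end Cfsg.Lib.K7
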