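import Cfsg.Agent.K7.Loc2
import Cfsg.Agent.P8.Bas1
import Cfsg.Agent.Local.PCoreOf

/-!
# The critical pair in the case `L₃(2)`
-/

set_option autoImplicit false

namespace Cfsg.Lib.K7

open Cfsg Subgroup Cfsg.Lib.Trans Cfsg.Lib.Gold
open Cfsg.Lib.P8 (L32 V3 O2 Om Jt Phi EA SR4 Ch E9 Pj Ty Sec SecOK Mx Crd)
open scoped commutatorElement

universe u

namespace PaH

variable {G : Type u} [Group G]

/-- The elements of `U` whose commutator with `t` lies in `⟨z⟩`. -/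
def DD (U : Subgroup G) (z t : G) (hU : U ≤ C1 z) : Subgroup G where
  carrier := {d | d ∈ U ∧ ⁅d, t⁆ ∈ zpowers z}
  one_mem' := ⟨one_mem _, by simp⟩
  mul_mem' := by
    rintro a b ⟨ha, ha'⟩ ⟨hb, hb'⟩
    refine ⟨mul_mem ha hb, ?_⟩
    have e : ⁅a * b, t⁆ = a * ⁅b, t⁆ * a⁻¹ * ⁅a, t⁆ := by
      simp only [commutatorElement_def]; group
    have hn : a ∈ Ns (zpowers z) := Cs_le_Ns (by rw [Cs_zpowers]; exact hU ha)
    rw [e]
    exact mul_mem (mem_normalizer_conj hn hb') ha'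
  inv_mem' := by
    rintro a ⟨ha, ha'⟩
    refine ⟨inv_mem ha, ?_⟩
    have e : ⁅a⁻¹, t⁆ = a⁻¹ * ⁅a, t⁆⁻¹ * a := by
      simp only [commutatorElement_def]; group
    have hn : a ∈ Ns (zpowers z) := Cs_le_Ns (by rw [Cs_zpowers]; exact hU ha)
    rw [e]
    exact mem_normalizer_conj' hn (inv_mem ha')

theorem DD_eq_1' : type_of% @DD.eq_1.{u} := @DD.eq_1.{u}

theorem mem_DD {U : Subgroup G} {z t d : G} {hU : U ≤ C1 z} :
    d ∈ DD U z t hU ↔ d ∈ U ∧ ⁅d, t⁆ ∈ zpowers z := Iff.rfl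

theorem q8 : ∀ a b : QuaternionGroup 2, a * a = 1 → b * b = 1 → a ≠ 1 → b ≠ 1 → a * b = 1 := by
  decide

theorem oneQ {Q R : Subgroup G} (h : IsQ Q R) {a b : G} (ha : a ∈ R) (hb : b ∈ R) (a2 : a * a = 1)
    (b2 : b * b = 1) (na : a ∉ Q) (nb : b ∉ Q) : a * b ∈ Q := by
  obtain ⟨f, -, hk⟩ := h
  have k : ∀ x : R, f x = 1 ↔ (x : G) ∈ Q := fun x => by
    rw [← MonoidHom.mem_ker, hk, mem_subgroupOf]
  have := q8 (f ⟨a, ha⟩) (f ⟨b, hb⟩)
    (by rw [← map_mul, show (⟨a, ha⟩ * ⟨a, ha⟩ : R) = 1 from Subtype.ext a2, map_one])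
    (by rw [← map_mul, show (⟨b, hb⟩ * ⟨b, hb⟩ : R) = 1 from Subtype.ext b2, map_one])
    (fun e => na ((k _).1 e)) (fun e => nb ((k _).1 e))
  rw [← map_mul] at this
  exact (k _).1 this

theorem one2 {Q R : Subgroup G} (h : Q.relIndex R = 2) {a b : G} (ha : a ∈ R) (hb : b ∈ R)
    (na : a ∉ Q) (nb : b ∉ Q) : a * b ∈ Q := by
  have := (mul_mem_iff_of_index_two (H := Q.subgroupOf R) h (a := ⟨a, ha⟩) (b := ⟨b, hb⟩)).2
    (by simp only [mem_subgroupOf]; exact iff_of_false na nb)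
  exact this

theorem idx_le2 [Finite G] {D U : Subgroup G} (h : ∀ a ∈ U, ∀ b ∈ U, a ∉ D → b ∉ D → a * b ∈ D) :
    D.relIndex U ≤ 2 := by
  by_cases hl : U ≤ D
  · rw [relIndex_eq_one.2 hl]; omega
  · obtain ⟨a, ha, na⟩ := SetLike.not_le_iff_exists.1 hl
    have : (D.subgroupOf U).index = 2 := by
      rw [index_eq_two_iff]
      refine ⟨⟨a, ha⟩, fun b => ?_⟩
      simp only [mem_subgroupOf, Xor, coe_mul]
      by_cases hb : (b : G) ∈ D
      · right
        refine ⟨hb, fun hc => na ?_⟩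
        simpa using mul_mem (inv_mem hb) hc
      · left
        exact ⟨h _ b.2 _ ha hb na, hb⟩
    exact this.le

theorem zp2 {z x : G} (oz : orderOf z = 2) (hx : x ∈ zpowers z) : x = 1 ∨ x = z := by
  obtain ⟨k, rfl⟩ := hx
  have z2 : z ^ (2 : ℤ) = 1 := by
    have := pow_orderOf_eq_one z
    rw [oz] at this
    exact_mod_cast this
  rcases Int.emod_two_eq_zero_or_one k with e | e
  · left
    show z ^ k = 1
    rw [← Int.emod_add_mul_ediv k 2, e, zero_add, zpow_mul, z2, one_zpow]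
  · right
    show z ^ k = z
    rw [← Int.emod_add_mul_ediv k 2, e, zpow_add, zpow_mul, z2, one_zpow, zpow_one, mul_one]

theorem sq {A : Subgroup G} (h : EA A) {a : G} (ha : a ∈ A) : a * a = 1 := by
  rw [← pow_two]; exact h.2 a ha

variable [Finite G] {M S V : Subgroup G} {π : G → L32} {c : G → V3} {z y : G}

/-- The hypothesis on `h`. -/
structure HH (M V : Subgroup G) (z h : G) : Prop where
  a : cj h (Uz V z) ≤ O2 M
  b : cj h⁻¹ (Uz V z) ≤ O2 M
  n : ¬ cj h (Uz V z) ≤ Qz z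

theorem zF (sb : SB M S V z y) (su : SU M S V z) : z ∈ ⁅Uz V z, Q1 M z⁆ := by
  have z1 : z ≠ 1 := fun e => by have := sb.oz; rw [e, orderOf_one] at this; omega
  have : ∃ v ∈ V, v ≠ 1 ∧ v ≠ z := by
    by_contra hc
    push Not at hc
    have hle : V ≤ zpowers z := fun v hv => by
      by_cases e : v = 1
      · rw [e]; exact one_mem _
      · rw [hc v hv e]; exact mem_zpowers z
    have := Trans.card_le_of_le hle
    rw [sb.card, Nat.card_zpowers, sb.oz] at this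
    omega
  obtain ⟨v, hv, v1, vz⟩ := this
  obtain ⟨q, hq, e⟩ := sb.el v hv v1 vz
  have vC : v ∈ C1 z := Local.MSS.pCoreOf_le _ (su.sec.leQ (su.VU hv))
  have : ⁅q, v⁆ = z := by
    rw [commutatorElement_def, e, mem_C1.1 vC]; group
  have k := commutator_mem_commutator hq (su.VU hv)
  rwa [this, Subgroup.commutator_comm] at k

theorem A (hLb : StLb.{u}) (hLq : StLq.{u}) (hLc : StLc.{u}) (sl : SL M S V π c z)
    (sb : SB M S V z y) (su : SU M S V z) (hU : Uz V z ≤ O2 M) {h : G} (hh : HH M V z h) :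
    h * z * h⁻¹ ∈ ⁅Uz V z, cj h (Uz V z)⁆ ∧ h * z * h⁻¹ ≠ z ∧ ¬ cj h⁻¹ (Uz V z) ≤ Qz z ∧
      (Qz z).relIndex (Q1 M z) = 2 ∧ ⁅Uz V z, Q1 M z⁆ ≤ ⁅Uz V z, cj h (Uz V z)⁆ ⊔ zpowers z ∧
      Nat.card ↥⁅Uz V z, Q1 M z⁆ = 8 ∧ ¬ ⁅Uz V z, Q1 M z⁆ ≤ C1 y := by
  have ea := su.ab hU
  have RP : Q1 M z ≤ M ⊓ C1 z := Local.MSS.pCoreOf_le _
  have RC : Q1 M z ≤ C1 z := RP.trans inf_le_right
  have QC : Qz z ≤ C1 z := Local.MSS.pCoreOf_le _
  have UC : Uz V z ≤ C1 z := su.sec.leQ.trans QC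
  have nQ : C1 z ≤ Ns (Qz z) := Local.MSS.self_le_normalizer_pCoreOf _
  have nR : M ⊓ C1 z ≤ Ns (Q1 M z) := Local.MSS.self_le_normalizer_pCoreOf _
  have yR : y ∈ Ns (Q1 M z) := nR ⟨sb.yM, sb.yz⟩
  have nc : Nc (C1 z) y := sb.nc y sb.yM sb.oy _ su.svC.ne sb.yz
  obtain ⟨t, tU, tQ⟩ := SetLike.not_le_iff_exists.1 hh.n
  have tR : t ∈ Q1 M z := sb.TQ (hh.a tU)
  have t2 : t * t = 1 := by
    have := sq ea (mem_cj.1 tU)
    calc t * t = h * (h⁻¹ * t * h * (h⁻¹ * t * h)) * h⁻¹ := by group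
      _ = 1 := by rw [this]; group
  have alt : (Qz z).relIndex (Q1 M z) = 2 ∨ IsQ (Qz z) (Q1 M z) := by
    rcases hLb G (C1 z) (Q1 M z) y su.svC sb.yz sb.oy nc su.QQ RC (Local.MSS.isPGroup_pCoreOf _) yR
      with e | e | e
    · exact absurd (e tR) tQ
    · exact Or.inl e
    · exact Or.inr e
  have one : ∀ a ∈ Q1 M z, ∀ b ∈ Q1 M z, a * a = 1 → b * b = 1 → a ∉ Qz z → b ∉ Qz z →
      a * b ∈ Qz z := fun a ha b hb a2 b2 na nb => by
    rcases alt with e | e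
    · exact one2 e ha hb na nb
    · exact oneQ e ha hb a2 b2 na nb
  set U := Uz V z with hUd
  set D0 := U ⊓ cj h (Qz z) with hD0
  set D := DD U z t UC with hD
  have i0 : D0.relIndex U ≤ 2 := by
    refine idx_le2 fun a ha b hb na nb => ⟨mul_mem ha hb, ?_⟩
    have k : ∀ x ∈ U, h⁻¹ * x * h ∈ Q1 M z := fun x hx => by
      have := cj_le_iff.1 hh.b x hx
      rw [inv_inv] at this
      exact sb.TQ this
    have k2 : ∀ x ∈ U, h⁻¹ * x * h * (h⁻¹ * x * h) = 1 := fun x hx => by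
      calc h⁻¹ * x * h * (h⁻¹ * x * h) = h⁻¹ * (x * x) * h := by group
        _ = 1 := by rw [sq ea hx]; group
    have := one _ (k a ha) _ (k b hb) (k2 a ha) (k2 b hb) (fun e => na ⟨ha, mem_cj.2 e⟩)
      (fun e => nb ⟨hb, mem_cj.2 e⟩)
    refine mem_cj.2 ?_
    convert this using 1
    group
  have c0 : ∀ d ∈ D0, ⁅d, t⁆ ∈ zpowers (h * z * h⁻¹) := fun d hd => by
    rw [← cj_zpowers, mem_cj]
    have e : h⁻¹ * ⁅d, t⁆ * h = ⁅h⁻¹ * d * h, h⁻¹ * t * h⁆ := by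
      simp only [commutatorElement_def]; group
    rw [e]
    apply su.sec.cen
    rw [Subgroup.commutator_comm]
    exact commutator_mem_commutator (mem_cj.1 hd.2) (mem_cj.1 tU)
  have oz' : orderOf (h * z * h⁻¹) = 2 := by
    rw [← sb.oz]; exact (SemiconjBy.orderOf_eq h (by simp [SemiconjBy])).symm
  have i1 : (C1 t).relIndex D0 ≤ 2 := by
    have := P8.Bas1H.cidx c0
    rwa [Nat.card_zpowers, oz'] at this
  have le1 : C1 t ⊓ D0 ≤ D := fun d hd => by
    refine mem_DD.2 ⟨hd.2.1, ?_⟩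
    rw [commutatorElement_eq_one_iff_mul_comm.2 (mem_C1.1 hd.1)]
    exact one_mem _
  have nz : ∀ X Y : Subgroup G, X.relIndex Y ≠ 0 := fun X Y => index_ne_zero_of_finite
  have iD' : D.relIndex U ≤ (C1 t).relIndex D0 * D0.relIndex U := by
    rw [← inf_relIndex_right (C1 t) D0, relIndex_mul_relIndex _ _ _ inf_le_right inf_le_left]
    exact relIndex_le_of_le_left le1 (nz _ _)
  have iD : D.relIndex U ≤ 4 := iD'.trans (Nat.mul_le_mul i1 i0)
  have ZD : zpowers z ≤ D := fun x hx => by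
    refine mem_DD.2 ⟨su.sec.le hx, ?_⟩
    have : t ∈ Cs (zpowers z) := by rw [Cs_zpowers]; exact RC tR
    rw [commutatorElement_eq_one_iff_mul_comm.2 (mem_Cs.1 this x hx)]
    exact one_mem _
  have i2 : (Qz z).relIndex (Q1 M z) = 2 := by
    rcases alt with e | e
    · exact e
    · have := hLq G (C1 z) (Q1 M z) (zpowers z) U D y t su.svC sb.yz sb.oy nc su.QQ RC yR e tR tQ
        (by rw [t2]; exact one_mem _) su.sec su.fa ZD (fun d hd => hd.1) (fun d hd => hd.2)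
      omega
  have nQ' : ∀ g ∈ C1 z, ∀ x, g * x * g⁻¹ ∈ Qz z ↔ x ∈ Qz z := fun g hg x =>
    (mem_normalizer_iff.1 (nQ hg) x).symm
  have cy : ∀ r ∈ Q1 M z, ⁅r, y⁆ ∈ Qz z := fun r hr => by
    have e : ⁅r, y⁆ = r * (y * r⁻¹ * y⁻¹) := by simp only [commutatorElement_def]; group
    rw [e]
    by_cases hq : r ∈ Qz z
    · exact mul_mem hq ((nQ' y sb.yz _).2 (inv_mem hq))
    · refine one2 i2 hr (mem_normalizer_conj yR (inv_mem hr)) hq fun e' => hq ?_
      exact inv_mem_iff.1 ((nQ' y sb.yz _).1 e')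
  have y3 : y * y * y = 1 := by
    have := pow_orderOf_eq_one y
    rw [sb.oy] at this
    rw [← this]; simp [pow_succ]
  have hs : ∀ s ∈ S, s * y * s⁻¹ ∈ zpowers y ⊔ O2 (C1 z) := fun s hs => by
    by_cases hr : s ∈ Q1 M z
    · have e : s * y * s⁻¹ = ⁅s, y⁆ * y := by simp only [commutatorElement_def]; group
      rw [e]
      exact mul_mem (mem_sup_right (cy s hr)) (mem_sup_left (mem_zpowers y))
    · have hq := (sb.nab s hs hr).2
      set q := s * y * s⁻¹ * y with hqd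
      have e : s * y * s⁻¹ = q * y⁻¹ := by rw [hqd]; group
      have qQ : q ∈ Qz z := by
        by_contra nq
        have y1 : y⁻¹ ∈ C1 z := inv_mem sb.yz
        have y1R : y⁻¹ ∈ Ns (Q1 M z) := inv_mem yR
        have h1 := one2 i2 hq (mem_normalizer_conj y1R hq) nq fun e' => nq ((nQ' _ y1 _).1 e')
        have e3 : q * (y⁻¹ * q * y⁻¹⁻¹) * (y * q * y⁻¹) = 1 := by
          have yi : y⁻¹ = y * y := inv_eq_of_mul_eq_one_left y3
          have yy : y = y⁻¹ * y⁻¹ := by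
            calc y = (y * y * y) * y⁻¹ * y⁻¹ := by group
              _ = _ := by rw [y3, one_mul]
          calc q * (y⁻¹ * q * y⁻¹⁻¹) * (y * q * y⁻¹)
              = (q * y⁻¹) * (q * (y * y)) * (q * y⁻¹) := by group
            _ = (q * y⁻¹) * (q * y⁻¹) * (q * y⁻¹) := by rw [← yi]
            _ = s * (y * y * y) * s⁻¹ := by rw [← e]; group
            _ = 1 := by rw [y3]; group
        have : y * q * y⁻¹ ∈ Qz z := by
          rw [eq_inv_of_mul_eq_one_right e3]; exact inv_mem h1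
        exact nq ((nQ' y sb.yz _).1 this)
      rw [e]
      exact mul_mem (mem_sup_right qQ) (mem_sup_left (inv_mem (mem_zpowers y)))
  obtain ⟨e1, e2, e3⟩ := hLc G (C1 z) S (zpowers z) U V D y t su.svC sb.yz sb.oy nc
    (sl.syl.mono sb.zS le_top) hs su.sec su.fa su.VU sb.Vy le_sup_left (RC tR) tQ
    (by rw [t2]; exact one_mem _) (cy t tR) (fun d => mem_DD) iD
  have tZ : zpowers t ≤ Q1 M z := zpowers_le.2 tR
  have zF' : zpowers z ≤ ⁅U, Q1 M z⁆ := zpowers_le.2 (zF sb su)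
  have eF : ⁅U, Q1 M z⁆ = ⁅U, zpowers t⁆ ⊔ zpowers z := by
    refine le_antisymm (commutator_le.2 fun u hu r hr => ?_)
      (sup_le (commutator_mono le_rfl tZ) zF')
    by_cases hq : r ∈ Qz z
    · exact mem_sup_right (su.sec.cen (commutator_mem_commutator hu hq))
    · have hq' : t * r ∈ Qz z := one2 i2 tR hr tQ hq
      have e : ⁅u, r⁆ = ⁅u, t⁻¹⁆ * (t⁻¹ * ⁅u, t * r⁆ * t) := by
        simp only [commutatorElement_def]; group
      have hn : t ∈ Ns (zpowers z) := Cs_le_Ns (by rw [Cs_zpowers]; exact RC tR)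
      rw [e]
      exact mul_mem (mem_sup_left (commutator_mem_commutator hu (inv_mem (mem_zpowers t))))
        (mem_sup_right (mem_normalizer_conj' hn (su.sec.cen (commutator_mem_commutator hu hq'))))
  have nD : ¬ D0 ≤ D := fun hl => by
    have := relIndex_le_of_le_left hl (nz D0 U)
    omega
  obtain ⟨d, hd, nd⟩ := SetLike.not_le_iff_exists.1 nD
  have nd' : ⁅d, t⁆ ∉ zpowers z := fun e => nd (mem_DD.2 ⟨hd.1, e⟩)
  have ed : ⁅d, t⁆ = h * z * h⁻¹ := by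
    rcases zp2 oz' (c0 d hd) with e | e
    · exact absurd (by rw [e]; exact one_mem _) nd'
    · exact e
  refine ⟨ed ▸ commutator_mem_commutator hd.1 tU, fun e => nd' (by rw [ed, e]; exact mem_zpowers z),
    fun hl => ?_, i2, ?_, ?_, fun hl => e3 ?_⟩
  · have : D0.relIndex U = 1 := relIndex_eq_one.2 (le_inf le_rfl (cj_inv_le_iff_le_cj.1 hl))
    rw [this] at iD'
    omega
  · rw [eF]
    exact sup_le_sup_right (commutator_mono le_rfl (zpowers_le.2 tU)) _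
  · have := card_mul_relIndex zF'
    rw [eF] at this ⊢
    rw [← this, e2, Nat.card_zpowers, sb.oz]
  · have : ⁅⁅U, zpowers t⁆, zpowers y⁆ = ⊥ := by
      rw [commutator_eq_bot_iff_le_centralizer]
      change _ ≤ Cs (zpowers y)
      rw [Cs_zpowers]
      exact (commutator_mono le_rfl tZ).trans hl
    rw [this]; exact bot_le

theorem B (hLb : StLb.{u}) (hLq : StLq.{u}) (hLc : StLc.{u}) (sl : SL M S V π c z)
    (sb : SB M S V z y) (su : SU M S V z) (hU : Uz V z ≤ O2 M) {h : G} (hh : HH M V z h) :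
    HH M V z h⁻¹ ∧ ⁅Uz V z, cj h (Uz V z)⁆ = ⁅Uz V z, Q1 M z⁆ := by
  obtain ⟨-, -, a3, -, a5, -⟩ := A hLb hLq hLc sl sb su hU hh
  have hh' : HH M V z h⁻¹ := ⟨hh.b, by rw [inv_inv]; exact hh.a, a3⟩
  refine ⟨hh', le_antisymm (commutator_mono le_rfl (hh.a.trans sb.TQ)) (a5.trans
    (sup_le le_rfl (zpowers_le.2 ?_)))⟩
  have b1 := (A hLb hLq hLc sl sb su hU hh').1
  have : z ∈ cj h ⁅Uz V z, cj h⁻¹ (Uz V z)⁆ := by
    rw [mem_cj]; rwa [inv_inv] at b1
  rwa [cj_commutator, cj_cj_inv, Subgroup.commutator_comm] at this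

end PaH

theorem pa (hLb : StLb.{u}) (hLq : StLq.{u}) (hLc : StLc.{u}) : StPa.{u} := by
  intro G _ _ M S V π c z y h sl sb su hU ha hb hn
  have hh : PaH.HH M V z h := ⟨ha, hb, hn⟩
  obtain ⟨-, a2, -, a4, -, a6, a7⟩ := PaH.A hLb hLq hLc sl sb su hU hh
  obtain ⟨hh', b2⟩ := PaH.B hLb hLq hLc sl sb su hU hh
  have b3 := (PaH.B hLb hLq hLc sl sb su hU hh').2
  have RC : Q1 M z ≤ C1 z := (Local.MSS.pCoreOf_le _).trans inf_le_right
  have le : ⁅Uz V z, Q1 M z⁆ ≤ Uz V z := commutator_le_left_of_le (RC.trans su.nU)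
  have ea := su.ab hU
  refine ⟨⁅Uz V z, Q1 M z⁆, a6, ⟨?_, fun a ha => ea.2 a (le ha)⟩, le, PaH.zF sb su,
    le_Ns_commutator (inf_le_right.trans su.nU) (Local.MSS.self_le_normalizer_pCoreOf _), ?_, a2,
    a7, b2, a4⟩
  · exact isMulCommutative_of_sq fun a ha => PaH.sq ea (le ha)
  · rw [mem_Ns_iff]
    conv_lhs => rw [← b3]
    rw [cj_commutator, cj_cj_inv, Subgroup.commutator_comm, b2]

end Cfsg.Lib.K7
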