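import Cfsg.Agent.K7.Loc2
import Cfsg.Agent.P8.Bas2
import Cfsg.Agent.P8.BasJ
import Cfsg.Agent.P8.PjB
import Cfsg.Agent.P8.E73

/-!
# Simple groups of order `7 * 3 ^ a * 2 ^ b`: the normalizer of the second group of order eight
-/

set_option autoImplicit false

namespace Cfsg.Lib.K7

open Cfsg Subgroup Cfsg.Lib.Trans Cfsg.Lib.Gold
open Cfsg.Lib.P8 (L32 V3 O2 Om EA Ch Pj Ty Mx)

universe u

namespace Pb

variable {G : Type u} [Group G]

theorem orb (N : Subgroup G) (c : G) :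
    {y : G | ∃ n ∈ N, n * c * n⁻¹ = y}.ncard = (C1 c).relIndex N := by
  let _ : MulAction N G := MulAction.compHom _ (MulAut.conj.comp N.subtype)
  have h1 := MulAction.index_stabilizer N c
  have h2 : MulAction.stabilizer N c = (C1 c).subgroupOf N := by
    ext a
    rw [MulAction.mem_stabilizer_iff, mem_subgroupOf, mem_C1]
    change (a : G) * c * (a : G)⁻¹ = c ↔ _
    rw [mul_inv_eq_iff_eq_mul]
  have h3 : MulAction.orbit N c = {y : G | ∃ n ∈ N, n * c * n⁻¹ = y} := by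
    ext y
    constructor
    · rintro ⟨a, rfl⟩
      exact ⟨a, a.2, rfl⟩
    · rintro ⟨a, ha, rfl⟩
      exact ⟨⟨a, ha⟩, rfl⟩
  rw [← h3, ← h1, h2]
  rfl

variable [Finite G]

/-- The fixed points of an element of odd order on a group of order eight. -/
theorem fix {F : Subgroup G} {y z v : G} (h2 : IsPGroup 2 F) (c8 : Nat.card F = 8) (hy : y ∈ Ns F)
    (oy : Odd (orderOf y)) (ny : ¬ F ≤ C1 y) (zF : z ∈ F) (z1 : z ≠ 1) (zy : z ∈ C1 y) (vF : v ∈ F)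
    (v1 : v ≠ 1) (vz : v ≠ z) : v ∉ C1 y := by
  intro vy
  obtain ⟨q, qF, qy⟩ := SetLike.not_le_iff_exists.1 ny
  have h3 : 3 ≤ Nat.card (F ⊓ C1 y : Subgroup G) := by
    have h4 : ({1, z, v} : Set G).ncard = 3 :=
      Set.ncard_eq_three.2 ⟨1, z, v, z1.symm, v1.symm, vz.symm, rfl⟩
    rw [← h4, ← SetLike.coe_sort_coe, Nat.card_coe_set_eq]
    refine Set.ncard_le_ncard ?_ (Set.toFinite _)
    rintro x (rfl | rfl | rfl)
    · exact one_mem _
    · exact mem_inf.2 ⟨zF, zy⟩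
    · exact mem_inf.2 ⟨vF, vy⟩
  have h5 := card_mul_relIndex (inf_le_left : F ⊓ C1 y ≤ F)
  rw [inf_relIndex_left, c8] at h5
  have hi : (C1 y).relIndex F ≤ 2 := by
    by_contra hh
    have := Nat.mul_le_mul h3 (show 3 ≤ (C1 y).relIndex F by omega)
    omega
  obtain ⟨b, -, e, hb⟩ := P8.Bas2H.idx2 h2 hy (mem_Ns_inf hy (mem_Ns_C1 rfl)) oy hi qF qy
  have := mul_mem hb (inv_mem (mem_C1.2 e))
  rw [mul_inv_cancel_right] at this
  exact qy (inv_mem_iff.1 this)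

theorem card {H S : Subgroup G} (ty : Ty7 H) (hS : IsSylowIn 2 S H) :
    Nat.card H = 21 * Nat.card S := by
  have : Fact (Nat.Prime 2) := ⟨Nat.prime_two⟩
  obtain ⟨π, ty⟩ := ty
  have := P8.pf_Bas1.{u}
  have h1 := (P8.pf_PjB.card ty.toPj).2.1
  rw [P8.E73H.card32] at h1
  have h2 := card_mul_relIndex ty.le
  obtain ⟨m, hm⟩ := IsPGroup.iff_card.1 ty.two
  rw [h1, hm] at h2
  have h3 : (Nat.card H).factorization 2 = m + 3 := by
    rw [← h2, show 2 ^ m * 168 = 2 ^ (m + 3) * 21 by ring,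
      Nat.factorization_mul (by positivity) (by norm_num), Finsupp.add_apply,
      Nat.prime_two.factorization_pow, Finsupp.single_eq_same,
      Nat.factorization_eq_zero_of_not_dvd (by norm_num)]
  rw [hS.card_eq, h3, ← h2]
  ring

end Pb

theorem pb (hTyp : StTyp.{u}) (hTS : StTS.{u}) (hL8 : StL8.{u}) (hS7 : StS7.{u}) : StPb.{u} := by
  intro G _ _ M S V F π c z y h sl sb pa
  have : Fact (Nat.Prime 2) := ⟨Nat.prime_two⟩
  have gl := sl.gl
  have h2 : IsPGroup 2 F := isPGroup_of_sq fun a ha => by rw [← pow_two]; exact pa.ea.2 a ha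
  have z1 : z ≠ 1 := fun e => by have := sb.oz; rw [e, orderOf_one] at this; omega
  have z2 : z * z = 1 := by rw [← pow_two, ← sb.oz, pow_orderOf_eq_one]
  have SN : S ≤ Ns F := (le_inf sb.le sb.zS).trans pa.nP
  have yN : y ∈ Ns F := pa.nP (mem_inf.2 ⟨sb.yM, sb.yz⟩)
  have yz := mem_C1.1 sb.yz
  have y3 : y * y * y = 1 := by rw [← pow_three', ← sb.oy, pow_orderOf_eq_one]
  have loc : IsTwoLocal (Ns F) := ⟨F, h2, fun e => z1 (mem_bot.1 (e ▸ pa.zF)), rfl⟩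
  -- the orbit of `z`
  have sub : {v : G | ∃ n ∈ Ns F, n * z * n⁻¹ = v} ⊆ (F : Set G) \ {1} := by
    rintro _ ⟨n, hn, rfl⟩
    exact ⟨(mem_normalizer_iff.1 hn z).1 pa.zF, fun e => z1 (by simpa using e)⟩
  have c7 : ((F : Set G) \ {1}).ncard = 7 := by
    rw [Set.ncard_sdiff_singleton_of_mem F.one_mem, ← Nat.card_coe_set_eq, SetLike.coe_sort_coe,
      pa.card]
  have le7 := Set.ncard_le_ncard sub (Set.toFinite _)
  have hv := sub ⟨h, pa.hN, rfl⟩
  have vy := Pb.fix h2 pa.card yN (by rw [sb.oy]; decide) pa.ny pa.zF z1 (mem_C1.2 yz.symm) hv.1 hv.2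
    pa.hz
  have ge4 : 4 ≤ {v : G | ∃ n ∈ Ns F, n * z * n⁻¹ = v}.ncard := by
    have hz := pa.hz
    have m1 : h * z * h⁻¹ ∈ {v : G | ∃ n ∈ Ns F, n * z * n⁻¹ = v} := ⟨h, pa.hN, rfl⟩
    have cl : ∀ v ∈ {v : G | ∃ n ∈ Ns F, n * z * n⁻¹ = v},
        y * v * y⁻¹ ∈ {v : G | ∃ n ∈ Ns F, n * z * n⁻¹ = v} := by
      rintro _ ⟨n, hn, rfl⟩
      exact ⟨y * n, mul_mem yN hn, by group⟩
    generalize h * z * h⁻¹ = v at m1 vy hz
    have zc : y * z * y⁻¹ = z := by rw [yz, mul_inv_cancel_right]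
    have n1 : y * v * y⁻¹ ≠ v := fun e => vy (mem_C1.2 (mul_inv_eq_iff_eq_mul.1 e).symm)
    have inj : ∀ a b : G, y * a * y⁻¹ = y * b * y⁻¹ → a = b := fun a b e => by simpa using e
    have n2 : y * (y * v * y⁻¹) * y⁻¹ ≠ v := fun e => n1 (by
      calc y * v * y⁻¹ = y * (y * (y * v * y⁻¹) * y⁻¹) * y⁻¹ := by rw [e]
        _ = (y * y * y) * v * (y * y * y)⁻¹ := by group
        _ = v := by rw [y3]; group)
    have n3 : y * v * y⁻¹ ≠ z := fun e => hz (inj _ _ (e.trans zc.symm))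
    have n4 : y * (y * v * y⁻¹) * y⁻¹ ≠ z := fun e => n3 (inj _ _ (e.trans zc.symm))
    have n5 : y * (y * v * y⁻¹) * y⁻¹ ≠ y * v * y⁻¹ := fun e => n1 (inj _ _ e)
    have h4 : ({z, v, y * v * y⁻¹, y * (y * v * y⁻¹) * y⁻¹} : Set G).ncard = 4 := by
      rw [Set.ncard_insert_of_notMem (by simp [hz.symm, n3.symm, n4.symm]),
        Set.ncard_eq_three.2 ⟨_, _, _, n1.symm, n2.symm, n5.symm, rfl⟩]
    rw [← h4]
    refine Set.ncard_le_ncard ?_ (Set.toFinite _)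
    rintro x (rfl | rfl | rfl | rfl)
    · exact ⟨1, one_mem _, by group⟩
    · exact m1
    · exact cl _ m1
    · exact cl _ (cl _ m1)
  have sylN := sl.syl.mono SN le_top
  have od := sylN.not_dvd_relIndex_of_le sb.zS
  have dv : (C1 z).relIndex (Ns F) ∣ Nat.card (Ns F) := relIndex_dvd_card _ _
  have n5 : (C1 z).relIndex (Ns F) ≠ 5 := fun e => by
    obtain ⟨a, b, hc⟩ := gl.ord
    have h5 : 5 ∣ 7 * 3 ^ a * 2 ^ b := hc ▸ (e ▸ dv).trans (card_subgroup_dvd_card _)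
    exact absurd (Nat.Coprime.eq_one_of_dvd (Nat.Coprime.mul_right (Nat.Coprime.mul_right
      (by norm_num) (Nat.Coprime.pow_right _ (by norm_num))) (Nat.Coprime.pow_right _ (by norm_num)))
      h5) (by norm_num)
  have eq7 : (C1 z).relIndex (Ns F) = 7 := by
    rw [Pb.orb] at ge4 le7
    omega
  have tr := Set.eq_of_subset_of_ncard_le sub (by rw [Pb.orb, eq7, c7]) (Set.toFinite _)
  obtain ⟨ch, ne⟩ := P8.Bas2H.chl gl.c2 loc
  have ns : ¬ Group.IsSolvable (Ns F) := fun sol =>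
    sb.ny (hS7 G gl _ S sl.syl SN ch ne sol (eq7 ▸ dv) sb.s7 yN)
  have ty : ∀ H : Subgroup G, IsTwoLocal H → Ns F ≤ H → Ty7 H := fun H hH le => by
    obtain ⟨ch', ne'⟩ := P8.Bas2H.chl gl.c2 hH
    have ns' : ¬ Group.IsSolvable H := fun sol =>
      ns (Group.isSolvable_of_isSolvable_injective (inclusion_injective le))
    rcases hTS G 7 gl H S (hTyp G 7 gl H ch' ne' ns') (SN.trans le) sl.syl with ⟨-, t | t⟩ | ⟨e, -⟩
    · exact t
    · exact (hL8 G gl H S t (SN.trans le) sl.syl).elim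
    · omega
  refine ⟨⟨⟨loc, fun H hH le => ?_⟩, rfl, ch, ne⟩, ty _ loc le_rfl, fun v hv => ?_⟩
  · refine (eq_of_le_of_card_ge le ?_).symm
    rw [Pb.card (ty H hH le) (sl.syl.mono (SN.trans le) le_top), Pb.card (ty _ loc le_rfl) sylN]
  · obtain ⟨-, -, nO, big, OS⟩ := P8.pf_BasJ.o2 (Ns F)
    obtain ⟨-, -, -, nM, -, -, mem⟩ := P8.pf_BasJ.leT (O2 (Ns F))
    have zO := mem z (big F le_normalizer h2 le_rfl pa.zF) ((OS S sylN).trans sb.zS) z2
    by_cases v1 : v = 1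
    · exact v1 ▸ one_mem _
    · obtain ⟨n, hn, rfl⟩ : v ∈ {v : G | ∃ n ∈ Ns F, n * z * n⁻¹ = v} := tr ▸ ⟨hv, v1⟩
      exact (mem_normalizer_iff.1 (nM (nO (le_normalizer hn))) z).1 zO

end Cfsg.Lib.K7
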