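import Cfsg.Agent.K7.Loc2
import Cfsg.Agent.K7.L8

/-!
# Simple groups of order `7 * 3 ^ a * 2 ^ b`: solvable subgroups of order divisible by seven
-/

set_option autoImplicit false

namespace Cfsg.Lib.K7

open Cfsg Subgroup Cfsg.Lib.Trans Cfsg.Lib.Gold
open Cfsg.Lib.P8 (L32 O2 Ch Pj Ty)
open scoped commutatorElement

universe u

theorem s7 : StS7.{u} := fun G _ _ gl K S hS le ch _ sK d7 m7 => by
  have := Fact.mk Nat.prime_two
  have p7 : Nat.Prime 7 := by norm_num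
  have h7 := Fact.mk p7
  have := P8.pf_Bas1.{u}
  have := P8.pf_PjB.{u, u}
  obtain ⟨⟨u, hu⟩, o⟩ := exists_prime_orderOf_dvd_card' (G := K) 7 d7
  rw [← Subgroup.orderOf_coe] at o
  change orderOf u = 7 at o
  obtain ⟨X, _, _, π, pj, o2⟩ := P8.BrgH.quo K
  obtain ⟨-, cX, -, sX, -⟩ := P8.PjB.card pj
  have := sX sK
  have u7 : u ^ 7 = 1 := o ▸ pow_orderOf_eq_one u
  have u1 : u ≠ 1 := fun k => by rw [k, orderOf_one] at o; omega
  have q2 : ∀ q ∈ O2 K, ∃ i, q ^ 2 ^ i = 1 := fun q hq =>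
    (pj.two ⟨q, hq⟩).imp fun i e => congrArg Subtype.val e
  have nt : (⊤ : Subgroup X) ≠ ⊥ := fun k => by
    obtain ⟨i, hi⟩ := q2 u ((pj.ker u hu).1 (mem_bot.1 (k ▸ mem_top _)))
    exact u1 (L8.one gl o (Nat.Coprime.pow_left i (by decide)) hi rfl)
  obtain ⟨p, N, hp, h1, -, -, he, hN⟩ := Solv.exists_isMinNormal_elementary_le (⊤ : Subgroup X) nt
  have hn := h1.normal
  have := Fact.mk hp
  obtain ⟨A, hA, lA, cA, -⟩ := P8.PjB.pre pj N
  have AK : A ≤ K := fun a ha => ((hA a).1 ha).1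
  have cjA : ∀ y ∈ K, ∀ a ∈ A, y * a * y⁻¹ ∈ A := fun y hy a ha =>
    (hA _).2 ⟨mul_mem (mul_mem hy (AK ha)) (inv_mem hy), by
      rw [P8.PjBH.cj pj hy (AK ha)]; exact hn.conj_mem _ ((hA a).1 ha).2 _⟩
  have nA : K ≤ Ns A := fun y hy => mem_normalizer_fintype (cjA y hy)
  obtain ⟨c, hc, c1⟩ := N.bot_or_exists_ne_one.resolve_left h1.ne_bot
  have oc : orderOf c = p := orderOf_eq_prime (he c hc) c1
  have p2 : p ≠ 2 := by
    rintro rfl
    exact h1.ne_bot (le_bot_iff.1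
      (o2 ▸ le_sSup (s := {N : Subgroup X | N.Normal ∧ IsPGroup 2 N}) ⟨hn, hN⟩ : N ≤ ⊥))
  obtain ⟨c', hc', rfl⟩ := pj.sur c
  obtain ⟨b, hb, eb, ob⟩ := P8.PjBH.odd pj c' hc' (oc ▸ hp.odd_of_ne_two p2)
  have bK : b ∈ K := zpowers_le.2 hc' hb
  have bA : b ∈ A := (hA b).2 ⟨bK, eb ▸ hc⟩
  have e7 : p = 7 := by
    by_contra k
    have cp : Nat.Coprime p 7 := (Nat.coprime_primes hp p7).2 k
    have nil := K35.Typ.nil p7 u7 A (cjA u hu) fun a ha e => by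
      obtain ⟨i, hi⟩ := P8.PjBH.pw pj (AK ha)
      rw [← pow_mul] at hi
      exact L8.one gl o (Nat.Coprime.mul_left (Nat.Coprime.coprime_dvd_left
        (orderOf_dvd_of_pow_eq_one (he _ ((hA a).1 ha).2)) cp) (Nat.Coprime.pow_left i (by decide))) hi e
    refine c1 (eb ▸ (pj.ker b bK).2 (ch ⟨bK, mem_Cs.2 fun q hq => ?_⟩))
    obtain ⟨j, hj⟩ := q2 q hq
    exact (Solv.commute_of_mem_of_coprime_of_isNilpotent nil (lA hq) bA
      (Nat.Coprime.coprime_dvd_left (orderOf_dvd_of_pow_eq_one hj) (by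
        rw [ob, oc]
        exact Nat.Coprime.pow_left j ((Nat.coprime_primes Nat.prime_two hp).2 p2.symm)))).eq
  subst e7
  have s1 := (L8.syl gl o hu).inf_normal_of_le nA AK
  have uA : u ∈ A := by
    have k : zpowers u ⊓ A ≠ ⊥ := fun k => s1.eq_bot_iff.1 k
      ((ob.trans oc) ▸ orderOf_dvd_natCard A bA)
    have d := card_dvd_of_le (inf_le_left : zpowers u ⊓ A ≤ zpowers u)
    rw [Nat.card_zpowers, o] at d
    have k' := eq_of_le_of_card_ge (inf_le_left : zpowers u ⊓ A ≤ zpowers u) (by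
      rw [Nat.card_zpowers, o, ((Nat.dvd_prime p7).1 d).resolve_left fun k' => k (card_eq_one.1 k')])
    exact (k'.ge (mem_zpowers u)).2
  have vN : π u ∈ N := ((hA u).1 uA).2
  have sQ : O2 K ≤ S := (hS.mono le le_top).le_of_normal pj.two pj.le (P8.PjBH.nor pj)
  have cN : Nat.card N ≤ 7 := by
    obtain ⟨j, hj⟩ := IsPGroup.iff_card.1 hN
    obtain ⟨a, b, cG⟩ := gl.ord
    have hd : 7 ^ j ∣ 7 * 3 ^ a * 2 ^ b := hj ▸ (card_subgroup_dvd_card N).trans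
      (cG ▸ (cX ▸ relIndex_dvd_card (O2 K) K).trans (card_subgroup_dvd_card K))
    rw [hj]
    rcases j with _ | _ | j
    · decide
    · decide
    · exfalso
      rw [mul_assoc, pow_succ', pow_succ'] at hd
      rcases (Nat.Prime.dvd_mul p7).1 ((Dvd.intro _ rfl).trans
        (Nat.dvd_of_mul_dvd_mul_left (by decide) hd)) with e | e <;>
        exact absurd (p7.dvd_of_dvd_pow e) (by decide)
  obtain ⟨B, hB, cB⟩ := P8.PjB.im pj S le
  have bot : C1 (π u) ⊓ B = ⊥ := eq_bot_iff.2 fun y hy => by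
    obtain ⟨s, hs, rfl⟩ := (hB y).1 hy.2
    obtain ⟨a, ha, ea, pa⟩ := P8.PjB.cen pj u hu (by rw [o]; decide) (π s) (mem_C1.1 hy.1)
    obtain ⟨i, hi⟩ := hS.isPGroup ⟨s, hs⟩
    have d : orderOf a ∣ 7 := o ▸ orderOf_dvd_of_mem_zpowers (gl.cp u o ▸ mem_C1.2 ea)
    exact orderOf_eq_one_iff.1 (Nat.eq_one_of_dvd_coprimes
      (Nat.Coprime.pow_left i (by decide : Nat.Coprime 2 7)) (orderOf_dvd_of_pow_eq_one (by
        rw [← P8.PjBH.pow pj (le hs), show s ^ 2 ^ i = 1 from congrArg Subtype.val hi,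
          P8.PjBH.one pj])) (pa ▸ (P8.PjBH.dvd pj ha).trans d))
  have i7 := (P8.Bas1H.cidx (D := B) (I := N) (v := π u) fun d _ => by
    rw [commutatorElement_def]
    exact mul_mem (hn.conj_mem _ vN d) (inv_mem vN)).trans cN
  rw [← inf_relIndex_right, bot, relIndex_bot_left, cB] at i7
  have mQ := L8.md gl o pj.two (P8.PjBH.nor pj hu)
  have cS := card_mul_relIndex sQ
  have m1 : (O2 K).relIndex S % 7 = 1 := by
    rwa [← cS, Nat.mul_mod, mQ, one_mul, Nat.mod_mod] at m7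
  have SQ : S ≤ O2 K := relIndex_eq_one.1 (by omega)
  exact le_antisymm SQ sQ ▸ P8.PjBH.nor pj

end Cfsg.Lib.K7
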