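import Cfsg.Agent.K7.Loc2
import Cfsg.Agent.P8.Bas2
import Cfsg.Agent.P8.BasJ

/-!
# Simple groups of order `7 * 3 ^ a * 2 ^ b`: the centralizer of `z` and the critical pair
-/

set_option autoImplicit false

namespace Cfsg.Lib.K7

open Cfsg Subgroup Cfsg.Lib.Trans Cfsg.Lib.Gold
open Cfsg.Lib.P8 (L32 V3 O2 Om EA Ch SecOK Mx)
open scoped commutatorElement

universe u

namespace SUH

variable {G : Type u} [Group G]

theorem conjZ {z c x : G} (hc : c ∈ C1 z) (hx : x ∈ zpowers z) : c * x * c⁻¹ = x := by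
  obtain ⟨n, rfl⟩ := mem_zpowers_iff.1 hx
  have h : Commute c z := mem_centralizer_singleton_iff.1 hc
  rw [(h.zpow_right n).eq, mul_inv_cancel_right]

theorem sqZ {z x : G} (hz : orderOf z = 2) (hx : x ∈ zpowers z) : x * x = 1 := by
  obtain ⟨n, rfl⟩ := mem_zpowers_iff.1 hx
  have h : z ^ (2 : ℤ) = 1 := by
    have := pow_orderOf_eq_one z
    rw [hz] at this
    exact_mod_cast this
  rw [← zpow_add, ← two_mul, zpow_mul, h, one_zpow]

theorem eqZ {z x : G} (hz : orderOf z = 2) (hx : x ∈ zpowers z) : x = 1 ∨ x = z := by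
  obtain ⟨n, rfl⟩ := mem_zpowers_iff.1 hx
  have h : z ^ (2 : ℤ) = 1 := by
    have := pow_orderOf_eq_one z
    rw [hz] at this
    exact_mod_cast this
  rcases Int.even_or_odd' n with ⟨k, rfl | rfl⟩
  · left
    rw [zpow_mul, h, one_zpow]
  · right
    rw [zpow_add, zpow_mul, h, one_zpow, one_mul, zpow_one]

/-- The elements of the centralizer of `z` acting trivially on `W` modulo `z`. -/
def KK (z : G) (W : Subgroup G) : Subgroup G where
  carrier := {g | g ∈ C1 z ∧ ∀ w ∈ W, ⁅w, g⁆ ∈ zpowers z}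
  one_mem' := ⟨one_mem _, fun w _ => by simp⟩
  mul_mem' {a b} ha hb := ⟨mul_mem ha.1 hb.1, fun w hw => by
    have e : ⁅w, a * b⁆ = ⁅w, a⁆ * (a * ⁅w, b⁆ * a⁻¹) := by
      simp only [commutatorElement_def]; group
    rw [e, conjZ ha.1 (hb.2 w hw)]
    exact mul_mem (ha.2 w hw) (hb.2 w hw)⟩
  inv_mem' {a} ha := ⟨inv_mem ha.1, fun w hw => by
    have e : ⁅w, a⁻¹⁆ = a⁻¹ * ⁅w, a⁆⁻¹ * a⁻¹⁻¹ := by
      simp only [commutatorElement_def]; group
    rw [e, conjZ (inv_mem ha.1) (inv_mem (ha.2 w hw))]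
    exact inv_mem (ha.2 w hw)⟩

theorem mem_KK {z g : G} {W : Subgroup G} :
    g ∈ KK z W ↔ g ∈ C1 z ∧ ∀ w ∈ W, ⁅w, g⁆ ∈ zpowers z := Iff.rfl

theorem nor_KK [Finite G] {z : G} {W : Subgroup G} (h : C1 z ≤ Ns W) : C1 z ≤ Ns (KK z W) := by
  intro c hc
  refine mem_normalizer_of_cj_le (cj_le_iff.2 fun g hg => ⟨?_, fun w hw => ?_⟩)
  · exact mul_mem (mul_mem hc hg.1) (inv_mem hc)
  · have e : ⁅w, c * g * c⁻¹⁆ = c * ⁅c⁻¹ * w * c, g⁆ * c⁻¹ := by
      simp only [commutatorElement_def]; group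
    have h1 := hg.2 _ (mem_normalizer_conj' (h hc) hw)
    rw [e, conjZ hc h1]
    exact h1

theorem nor_Z [Finite G] (z : G) : C1 z ≤ Ns (zpowers z) := fun c hc =>
  mem_normalizer_of_cj_le (cj_le_iff.2 fun x hx => by rw [conjZ hc hx]; exact hx)

theorem cj_le_U (V : Subgroup G) {z c : G} (hc : c ∈ C1 z) : cj c V ≤ Uz V z :=
  le_iSup (fun k : C1 z => cj (k : G) V) ⟨c, hc⟩

theorem nor_U [Finite G] (V : Subgroup G) (z : G) : C1 z ≤ Ns (Uz V z) := by
  intro c hc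
  refine mem_normalizer_of_cj_le ?_
  rw [Uz, cj_iSup]
  refine iSup_le fun k => ?_
  rw [cj_cj]
  exact cj_le_U V (mul_mem hc k.2)

end SUH

open SUH

theorem su : StSU.{u} := by
  intro G _ _ M S V π c z y sl sb
  have J := P8.pf_BasJ.{u}
  have zC : z ∈ C1 z := mem_centralizer_singleton_iff.2 rfl
  have z1 : z ≠ 1 := by
    intro h
    have := sb.oz
    rw [h, orderOf_one] at this
    omega
  have pZ : IsPGroup 2 (zpowers z) := IsPGroup.of_card (n := 1) (by rw [Nat.card_zpowers, sb.oz]; rfl)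
  obtain ⟨QC, pQ, nQ, mQ, sQ⟩ := J.o2 (C1 z)
  have nQ' : C1 z ≤ Ns (Qz z) := le_normalizer.trans nQ
  have zQ : z ∈ Qz z := mQ _ (zpowers_le.2 zC) pZ (nor_Z z) (mem_zpowers z)
  have n7 : ¬ 7 ∣ Nat.card (C1 z) := by
    intro h
    have : Fact (Nat.Prime 7) := ⟨by norm_num⟩
    obtain ⟨x, hx⟩ := exists_prime_orderOf_dvd_card' 7 h
    have ox : orderOf (x : G) = 7 := by rw [Subgroup.orderOf_coe, hx]
    have h1 : z ∈ C1 (x : G) :=
      mem_centralizer_singleton_iff.2 (mem_centralizer_singleton_iff.1 x.2).symm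
    rw [sl.gl.cp _ ox] at h1
    have h2 := orderOf_dvd_of_mem_zpowers h1
    rw [sb.oz, ox] at h2
    omega
  have svC : Sv (C1 z) := sb.sv _ sb.zS (fun h => z1 (by rw [Qz, h] at zQ; exact zQ)) n7
  have QS : Qz z ≤ S := sQ S (sl.syl.mono sb.zS le_top)
  obtain ⟨-, pQ1, -, mQ1, -⟩ := J.o2 (M ⊓ C1 z)
  have QQ : Qz z ≤ Q1 M z := mQ1 _ (le_inf (QS.trans sb.le) QC) pQ (inf_le_right.trans nQ')
  have KQ : KK z (Qz z) ≤ Qz z := by
    refine mQ _ (fun g hg => hg.1) ?_ (nor_KK nQ')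
    rintro ⟨g, hg⟩
    have h1 : g * g ∈ Qz z := by
      refine svC.ch ⟨mul_mem hg.1 hg.1, mem_centralizer_iff.2 fun q hq => ?_⟩
      have e : ⁅q, g * g⁆ = ⁅q, g⁆ * (g * ⁅q, g⁆ * g⁻¹) := by
        simp only [commutatorElement_def]; group
      rw [conjZ hg.1 (hg.2 q hq), sqZ sb.oz (hg.2 q hq)] at e
      exact commutatorElement_eq_one_iff_mul_comm.1 e
    obtain ⟨k, hk⟩ := pQ ⟨_, h1⟩
    refine ⟨k + 1, Subtype.ext ?_⟩
    have h2 : (g * g) ^ 2 ^ k = 1 := congrArg Subtype.val hk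
    change g ^ 2 ^ (k + 1) = 1
    rw [pow_succ', pow_mul, sq, h2]
  have cV : ∀ a ∈ V, ∀ b ∈ V, a * b = b * a := fun a ha b hb =>
    congrArg Subtype.val (sb.ea.1.is_comm.comm ⟨a, ha⟩ ⟨b, hb⟩)
  have VK : V ≤ KK z (Qz z) := fun v hv =>
    ⟨mem_centralizer_singleton_iff.2 (cV v hv z sl.zV), fun q hq => by
      rw [← commutatorElement_inv]
      exact inv_mem (((sb.mem1 q).1 (QQ hq)).2 v hv)⟩
  have UK : Uz V z ≤ KK z (Qz z) := iSup_le fun k => by
    have := cj_mono (k : G) VK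
    rwa [cj_eq_of_mem_normalizer (nor_KK nQ' k.2)] at this
  have VU : V ≤ Uz V z := by
    have := cj_le_U V (one_mem (C1 z))
    rwa [cj_one] at this
  have UQ : Uz V z ≤ Qz z := UK.trans KQ
  have cen : ∀ a ∈ Uz V z, ∀ q ∈ Qz z, ⁅a, q⁆ ∈ zpowers z := fun a ha q hq => by
    rw [← commutatorElement_inv]
    exact inv_mem ((UK ha).2 q hq)
  have sqV : ∀ (k : G), ∀ a ∈ cj k V, a * a = 1 := fun k a ha => by
    have h1 := sb.ea.2 _ (mem_cj.1 ha)
    have e : a * a = k * (k⁻¹ * a * k) ^ 2 * k⁻¹ := by rw [sq]; group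
    rw [e, h1]
    group
  refine ⟨svC, QQ, VU, nor_U V z, ⟨zpowers_le.2 (VU sl.zV), UQ, nor_Z z, nor_U V z,
    commutator_le.2 cen, fun a ha => ?_⟩, fun g hg h => ?_, fun hT => ?_⟩
  · have key : a ∈ Uz V z ∧ a * a ∈ zpowers z := by
      refine Subgroup.iSup_induction (fun k : C1 z => cj (k : G) V)
        (C := fun a => a ∈ Uz V z ∧ a * a ∈ zpowers z) ha ?_ ⟨one_mem _, by simp⟩ ?_
      · intro k x hx
        exact ⟨cj_le_U V k.2 hx, by rw [sqV k x hx]; exact one_mem _⟩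
      · intro x y hx hy
        refine ⟨mul_mem hx.1 hy.1, ?_⟩
        have e : x * y * (x * y) = x * x * ⁅x⁻¹, y⁆ * (y * y) := by
          simp only [commutatorElement_def]; group
        rw [e]
        exact mul_mem (mul_mem hx.2 (cen _ (inv_mem hx.1) _ (UQ hy.1))) hy.2
    exact key.2
  · have K1 : KK z (Uz V z) ≤ Q1 M z := by
      intro x hx
      refine (sb.mem1 x).2 ⟨?_, fun v hv => hx.2 v (VU hv)⟩
      rw [← sb.nV]
      refine mem_normalizer_of_cj_le (cj_le_iff.2 fun v hv => ?_)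
      have e : x * v * x⁻¹ = ⁅v, x⁆⁻¹ * v := by
        simp only [commutatorElement_def]; group
      rw [e]
      exact mul_mem (inv_mem (zpowers_le.2 sl.zV (hx.2 v (VU hv)))) hv
    exact mQ (KK z (Uz V z)) (fun g hg => hg.1) (pQ1.to_le K1) (nor_KK (nor_U V z)) ⟨hg, h⟩
  · have h1 : Uz V z ≤ Cs (Uz V z) := by
      refine iSup_le fun k => ?_
      have := cj_mono (k : G) (hT.trans sb.cV.ge)
      rw [cj_eq_of_mem_normalizer (nor_U V z k.2), cj_centralizer] at this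
      exact le_centralizer_iff.1 this
    have cU : ∀ a ∈ Uz V z, ∀ b ∈ Uz V z, a * b = b * a := fun a ha b hb =>
      (mem_centralizer_iff.1 (h1 ha) b hb).symm
    refine ⟨⟨⟨fun a b => Subtype.ext (cU a a.2 b b.2)⟩⟩, fun a ha => ?_⟩
    have key : a ∈ Uz V z ∧ a * a = 1 := by
      refine Subgroup.iSup_induction (fun k : C1 z => cj (k : G) V)
        (C := fun a => a ∈ Uz V z ∧ a * a = 1) ha ?_ ⟨one_mem _, by simp⟩ ?_
      · intro k x hx
        exact ⟨cj_le_U V k.2 hx, sqV k x hx⟩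
      · intro x y hx hy
        refine ⟨mul_mem hx.1 hy.1, ?_⟩
        calc x * y * (x * y) = x * (y * x) * y := by group
          _ = x * x * (y * y) := by rw [← cU x hx.1 y hy.1]; group
          _ = 1 := by rw [hx.2, hy.2, one_mul]
    rw [sq, key.2]

theorem pr : StPr.{u} := by
  intro G _ _ M S V π c z y sl sb su hCM hU
  have J := P8.pf_BasJ.{u}
  have B := P8.pf_Bas2.{u}
  by_contra hcon
  push Not at hcon
  obtain ⟨-, pT, nT, -, -⟩ := J.o2 M
  have nT' : M ≤ Ns (O2 M) := le_normalizer.trans nT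
  have nQ' : C1 z ≤ Ns (Qz z) := le_normalizer.trans (J.o2 (C1 z)).2.2.1
  have step : ∀ h : G, cj h (Uz V z) ≤ O2 M → cj h⁻¹ (Uz V z) ≤ O2 M → ∀ x : G,
      (x ∈ M ∨ x ∈ C1 z) → cj (x * h) (Uz V z) ≤ O2 M := by
    intro h h1 h2 x hx
    rcases hx with hx | hx
    · have := cj_mono x h1
      rwa [cj_eq_of_mem_normalizer (nT' hx), cj_cj] at this
    have h3 := hcon h h1 h2
    have h4 := hcon h⁻¹ h2 (by rwa [inv_inv])
    rw [Uz, cj_iSup]
    refine iSup_le fun k => ?_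
    rw [cj_cj]
    set g := x * h * k with hg
    have a1 : cj g V ≤ Qz z := by
      have := cj_mono x ((cj_mono h (cj_le_U V k.2)).trans h3)
      rwa [cj_eq_of_mem_normalizer (nQ' hx), cj_cj, cj_cj] at this
    have a2 : cj g⁻¹ V ≤ Qz z := by
      have := cj_mono (k : G)⁻¹ ((cj_mono h⁻¹ (cj_le_U V (inv_mem hx))).trans h4)
      rw [cj_eq_of_mem_normalizer (nQ' (inv_mem k.2)), cj_cj, cj_cj] at this
      rwa [hg, mul_inv_rev, mul_inv_rev, ← mul_assoc]
    by_cases hgC : g ∈ C1 z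
    · exact (cj_le_U V hgC).trans hU
    rw [← sb.cV]
    intro w hw
    refine mem_centralizer_iff.2 fun v hv => ?_
    have b1 : ⁅v, w⁆ ∈ zpowers z := ((sb.mem1 w).1 (su.QQ (a1 hw))).2 v hv
    have hv' : g⁻¹ * v * g⁻¹⁻¹ ∈ cj g⁻¹ V := conj_mem_cj.2 hv
    have b2 : ⁅g⁻¹ * w * g, g⁻¹ * v * g⁻¹⁻¹⁆ ∈ zpowers z :=
      ((sb.mem1 _).1 (su.QQ (a2 hv'))).2 _ (mem_cj.1 hw)
    have e : ⁅g⁻¹ * w * g, g⁻¹ * v * g⁻¹⁻¹⁆ = g⁻¹ * ⁅v, w⁆⁻¹ * g := by
      simp only [commutatorElement_def]; group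
    rw [e] at b2
    rcases eqZ sb.oz b1 with b | b
    · exact commutatorElement_eq_one_iff_mul_comm.1 b
    · exfalso
      have zi : z⁻¹ = z := inv_eq_of_mul_eq_one_right (sqZ sb.oz (mem_zpowers z))
      rw [b, zi] at b2
      rcases eqZ sb.oz b2 with b3 | b3
      · have : z = 1 := by
          calc z = g * (g⁻¹ * z * g) * g⁻¹ := by group
            _ = 1 := by rw [b3]; group
        have h5 := sb.oz
        rw [this, orderOf_one] at h5
        omega
      · refine hgC (mem_centralizer_singleton_iff.2 ?_)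
        calc g * z = g * (g⁻¹ * z * g) := by rw [b3]
          _ = z * g := by group
  have words : ∀ n : ℕ, ∀ l : List G, l.length = n → (∀ x ∈ l, x ∈ M ∨ x ∈ C1 z) →
      cj l.prod (Uz V z) ≤ O2 M := by
    intro n
    induction n with
    | zero =>
      intro l hl _
      rw [List.length_eq_zero_iff.1 hl, List.prod_nil, cj_one]
      exact hU
    | succ n ih =>
      intro l hl hm
      rcases l with _ | ⟨x, l⟩
      · simp at hl
      have hl' : l.length = n := by simpa using hl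
      have hm' : ∀ x ∈ l, x ∈ M ∨ x ∈ C1 z := fun a ha => hm a (List.mem_cons_of_mem _ ha)
      rw [List.prod_cons]
      refine step _ (ih l hl' hm') ?_ x (hm x List.mem_cons_self)
      rw [List.prod_inv_reverse]
      refine ih _ (by simpa using hl') fun a ha => ?_
      rw [List.mem_reverse, List.mem_map] at ha
      obtain ⟨b, hb, rfl⟩ := ha
      exact (hm' b hb).imp inv_mem inv_mem
  set N : Subgroup G := ⨆ l : {l : List G // ∀ x ∈ l, x ∈ M ∨ x ∈ C1 z}, cj l.1.prod (Uz V z)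
    with hN
  have NT : N ≤ O2 M := iSup_le fun l => words _ l.1 rfl l.2
  have nN : ∀ x : G, (x ∈ M ∨ x ∈ C1 z) → x ∈ Ns N := by
    intro x hx
    refine mem_normalizer_of_cj_le ?_
    rw [hN, cj_iSup]
    refine iSup_le fun l => ?_
    rw [cj_cj, ← List.prod_cons]
    exact le_iSup (fun l : {l : List G // ∀ x ∈ l, x ∈ M ∨ x ∈ C1 z} => cj l.1.prod (Uz V z))
      ⟨x :: l.1, fun a ha => by
        rcases List.mem_cons.1 ha with rfl | ha
        · exact hx
        · exact l.2 a ha⟩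
  have zN : z ∈ N := by
    have := le_iSup (fun l : {l : List G // ∀ x ∈ l, x ∈ M ∨ x ∈ C1 z} => cj l.1.prod (Uz V z))
      ⟨[], by simp⟩
    simp only [List.prod_nil, cj_one] at this
    exact this (su.VU sl.zV)
  have ne : N ≠ ⊥ := by
    intro h
    rw [h, mem_bot] at zN
    have h5 := sb.oz
    rw [zN, orderOf_one] at h5
    omega
  have := B.nor sl.mx.mx (pT.to_le NT) ne fun x hx => nN x (Or.inl hx)
  exact hCM fun x hx => this ▸ nN x (Or.inr hx)

end Cfsg.Lib.K7
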