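import Cfsg.Agent.K7.Loc2
import Cfsg.Agent.P8.Bas1
import Cfsg.Agent.P8.Bas2
import Cfsg.Agent.P8.BasJ
import Cfsg.Agent.P8.PjB
import Cfsg.Agent.P8.E73
import Cfsg.Agent.Gold.Cm

/-!
# Simple groups of order `7 * 3 ^ a * 2 ^ b`: the trivial intersection case, first steps
-/

set_option autoImplicit false
set_option maxRecDepth 100000

namespace Cfsg.Lib.K7

open Cfsg Subgroup Cfsg.Lib.Trans Cfsg.Lib.Gold
open Cfsg.Lib.P8 (L32 V3 O2 Om EA Ch Pj Ty Mx)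
open scoped commutatorElement

universe u

namespace T1H

/-- The point stabilizer. -/
def PA0 : Subgroup L32 where
  carrier := {g | g.1 1 0 = 0 ∧ g.1 2 0 = 0}
  one_mem' := by decide
  mul_mem' {a b} ha hb := by
    obtain ⟨h1, h2⟩ := ha
    obtain ⟨h3, h4⟩ := hb
    constructor <;>
      simp [Matrix.SpecialLinearGroup.coe_mul, Matrix.mul_apply, Fin.sum_univ_three, h1, h2, h3, h4]
  inv_mem' {a} := by
    revert a
    change ∀ a : L32, (a.1 1 0 = 0 ∧ a.1 2 0 = 0) → ((a⁻¹).1 1 0 = 0 ∧ (a⁻¹).1 2 0 = 0)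
    decide +kernel

/-- The line stabilizer. -/
def PB0 : Subgroup L32 where
  carrier := {g | g.1 2 0 = 0 ∧ g.1 2 1 = 0}
  one_mem' := by decide
  mul_mem' {a b} ha hb := by
    obtain ⟨h1, h2⟩ := ha
    obtain ⟨h3, h4⟩ := hb
    constructor <;>
      simp [Matrix.SpecialLinearGroup.coe_mul, Matrix.mul_apply, Fin.sum_univ_three, h1, h2, h3, h4]
  inv_mem' {a} := by
    revert a
    change ∀ a : L32, (a.1 2 0 = 0 ∧ a.1 2 1 = 0) → ((a⁻¹).1 2 0 = 0 ∧ (a⁻¹).1 2 1 = 0)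
    decide +kernel

theorem cA : Nat.card PA0 = 24 := by
  change Nat.card {g : L32 // g.1 1 0 = 0 ∧ g.1 2 0 = 0} = 24
  rw [Nat.card_eq_fintype_card]
  decide +kernel

theorem cB : Nat.card PB0 = 24 := by
  change Nat.card {g : L32 // g.1 2 0 = 0 ∧ g.1 2 1 = 0} = 24
  rw [Nat.card_eq_fintype_card]
  decide +kernel

theorem cU : Nat.card ↥(PA0 ⊓ PB0) = 8 := by
  change Nat.card {g : L32 // (g.1 1 0 = 0 ∧ g.1 2 0 = 0) ∧ (g.1 2 0 = 0 ∧ g.1 2 1 = 0)} = 8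
  rw [Nat.card_eq_fintype_card]
  decide +kernel

theorem sup0 : PA0 ⊔ PB0 = ⊤ := by
  have c := P8.E73H.card32
  obtain ⟨k, hk⟩ : 24 ∣ Nat.card ↥(PA0 ⊔ PB0) := cA ▸ card_dvd_of_le le_sup_left
  have d := card_subgroup_dvd_card (PA0 ⊔ PB0)
  rw [c, hk, show 168 = 24 * 7 from rfl] at d
  rcases (Nat.dvd_prime (by norm_num)).1 (Nat.dvd_of_mul_dvd_mul_left (by decide) d) with e | e
  · exfalso
    have e1 : PA0 = PA0 ⊔ PB0 := eq_of_le_of_card_ge le_sup_left (by rw [hk, e, cA])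
    have e2 : PA0 ⊓ PB0 = PB0 := inf_eq_right.2 (e1 ▸ le_sup_right)
    have := cU
    rw [e2, cB] at this
    omega
  · exact eq_top_of_card_eq _ (by rw [hk, e, c])

theorem two (P : Subgroup L32) (hP : IsPGroup 2 P) : ∃ A B : Subgroup L32, P ≤ A ∧ P ≤ B ∧
    Nat.card A = 24 ∧ Nat.card B = 24 ∧ A ⊔ B = ⊤ := by
  have := Fact.mk Nat.prime_two
  have c := P8.E73H.card32
  have s : IsSylowIn 2 (PA0 ⊓ PB0) ⊤ := ⟨le_top, .of_card (n := 3) cU, by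
    have i := (PA0 ⊓ PB0).card_mul_index
    rw [cU, c] at i
    rw [relIndex_top_right]
    omega⟩
  obtain ⟨x, -, hx⟩ := s.exists_cj_le hP le_top
  rw [cj_le_iff_le_cj_inv, cj_inf] at hx
  exact ⟨_, _, hx.trans inf_le_left, hx.trans inf_le_right, by rw [card_cj, cA], by rw [card_cj, cB],
    by rw [← cj_sup, sup0, cj_top]⟩

variable {G : Type u} [Group G] [Finite G]

omit [Finite G] in
theorem ea_iff {A : Subgroup G} : EA A ↔ ∀ a ∈ A, a * a = 1 :=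
  ⟨fun h a ha => by rw [← sq, h.2 a ha], fun h => ⟨⟨⟨fun a b => Subtype.ext (by
    have e := fun x hx => inv_eq_of_mul_eq_one_right (h x hx)
    change a.1 * b.1 = b.1 * a.1
    rw [← e _ (mul_mem a.2 b.2), mul_inv_rev, e _ a.2, e _ b.2])⟩⟩, fun a ha => by rw [sq, h a ha]⟩⟩

omit [Finite G] in
theorem ea_cj {A : Subgroup G} (h : EA A) (g : G) : EA (cj g A) := ea_iff.2 (by
  rintro _ ⟨a, ha, rfl⟩
  rw [← map_mul, ea_iff.1 h a ha, map_one])

end T1H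

open T1H in
theorem t1 : StT1.{u} := by
  intro G _ _ M S V π c z y sl sb hz
  have := Fact.mk Nat.prime_two
  have B2 := P8.pf_Bas2.{u}
  have BJ := P8.pf_BasJ.{u}
  have VT : V ≤ O2 M := sl.leV.trans (BJ.leT (O2 M)).2.2.1
  have oM := BJ.o2 M
  have cv : ∀ v ∈ V, v ≠ 1 → C1 v ≤ M := fun v hv h1 => by
    obtain ⟨m, hm, rfl⟩ := sb.tr v hv h1
    rw [← cj_C1]
    exact cj_le_of_mem_of_le hm hz
  have ti : ∀ g, cj g V ⊓ V ≠ ⊥ → g ∈ M := fun g h => by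
    obtain ⟨⟨v, hv1, hv2⟩, hv⟩ := ne_bot_iff_exists_ne_one.1 h
    have n1 : v ≠ 1 := fun e => hv (Subtype.ext e)
    obtain ⟨m, hm, e⟩ := sb.tr v hv2 n1
    obtain ⟨m', hm', e'⟩ := sb.tr _ (mem_cj.1 hv1) (fun k => n1 (by
      calc v = g * (g⁻¹ * v * g) * g⁻¹ := by group
        _ = 1 := by rw [k]; group))
    have k : m⁻¹ * g * m' ∈ M := hz (mem_C1.2 (by
      calc m⁻¹ * g * m' * z = m⁻¹ * g * (m' * z * m'⁻¹) * m' := by group
        _ = m⁻¹ * v * g * m' := by rw [e']; group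
        _ = z * (m⁻¹ * g * m') := by rw [← e]; group))
    have k2 := mul_mem (mul_mem hm k) (inv_mem hm')
    simpa [mul_assoc] using k2
  have wc : ∀ g, cj g V ≤ M → cj g V ≤ O2 M := fun g h => by
    by_cases hg : g ∈ M
    · rw [mem_Ns_iff.1 (sl.nor hg)]
      exact VT
    have e0 : cj g V ⊓ V = ⊥ := by
      by_contra k
      exact hg (ti g k)
    have r := sb.rk _ h (ea_cj sb.ea g)
    have n : cj g V ⊓ O2 M ≠ ⊥ := fun e => by
      have k := card_mul_relIndex (inf_le_left : cj g V ⊓ O2 M ≤ cj g V)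
      rw [card_cj, sb.card, inf_comm, inf_relIndex_right, inf_comm, e, card_bot] at k
      omega
    obtain ⟨⟨w, hw1, hw2⟩, hw⟩ := ne_bot_iff_exists_ne_one.1 n
    have n1 : g⁻¹ * w * g ≠ 1 := fun k => hw (Subtype.ext (by
      calc w = g * (g⁻¹ * w * g) * g⁻¹ := by group
        _ = 1 := by rw [k]; group))
    have l1 : C1 w ≤ Ns (cj g V) := by
      have k := cj_mono g (cv _ (mem_cj.1 hw1) n1)
      rw [cj_C1, ← sb.nV, cj_Ns] at k
      simpa [mul_assoc] using k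
    have l2 : V ≤ Ns (cj g V) := fun v hv => l1 (mem_C1.2 (mem_Cs.1 (sb.cV ▸ hw2 : w ∈ Cs V) v hv))
    intro e he
    rw [← sb.cV, mem_Cs]
    intro v hv
    have m1 : v * e * v⁻¹ * e⁻¹ ∈ cj g V :=
      mul_mem ((mem_normalizer_iff.1 (l2 hv) e).1 he) (inv_mem he)
    have m2 : v * e * v⁻¹ * e⁻¹ ∈ V := by
      have k := (mem_normalizer_iff.1 (sl.nor (h he)) v⁻¹).1 (inv_mem hv)
      simpa [mul_assoc] using mul_mem hv k
    have m3 : v * e * v⁻¹ * e⁻¹ = 1 := mem_bot.1 (e0 ▸ mem_inf.2 ⟨m1, m2⟩)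
    calc v * e = v * e * v⁻¹ * e⁻¹ * (e * v) := by group
      _ = e * v := by rw [m3, one_mul]
  have ex : ∀ H : Subgroup G, S ≤ H → ¬ H ≤ M → ∃ g, cj g V ≤ O2 M ∧ ¬ cj g V ≤ O2 H := fun H hS hH => by
    by_contra k
    push Not at k
    have oH := BJ.o2 H
    have l : O2 H ≤ M := (oH.2.2.2.2 S (sl.syl.mono hS le_top)).trans sb.le
    set W : Subgroup G := ⨆ g : {g : G // cj g V ≤ O2 M}, cj (g : G) V
    have WT : W ≤ O2 M := iSup_le fun g => g.2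
    have nW : ∀ x : G, (∀ g, cj g V ≤ O2 M → cj (x * g) V ≤ O2 M) → x ∈ Ns W := fun x hx =>
      mem_normalizer_of_cj_le (by
        rw [cj_iSup]
        refine iSup_le fun g => ?_
        rw [cj_cj]
        exact le_iSup (fun g : {g : G // cj g V ≤ O2 M} => cj (g : G) V) ⟨_, hx _ g.2⟩)
    have VW : V ≤ W := by
      have k1 := le_iSup (fun g : {g : G // cj g V ≤ O2 M} => cj (g : G) V) ⟨1, by rw [cj_one]; exact VT⟩
      rwa [show cj ((⟨1, _⟩ : {g : G // cj g V ≤ O2 M}) : G) V = V from cj_one V] at k1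
    have n0 : W ≠ ⊥ := fun e => by
      have k1 := sb.card
      rw [le_bot_iff.1 (VW.trans e.le), card_bot] at k1
      omega
    have e := B2.nor sl.mx.mx (oM.2.1.to_le WT) n0 fun m hm => nW m fun g hg => by
      rw [cj_mul, ← mem_Ns_iff.1 (oM.2.2.1 (le_normalizer hm))]
      exact cj_mono m hg
    refine hH fun h hh => e ▸ nW h fun g hg => wc _ (le_trans ?_ l)
    rw [cj_mul, ← mem_Ns_iff.1 (oH.2.2.1 (le_normalizer hh))]
    exact cj_mono h (k g hg)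
  refine ⟨⟨cv, ti, wc, ex⟩, ?_⟩
  by_contra k
  obtain ⟨g, h1, h2⟩ := ex _ le_normalizer k
  exact h2 ((h1.trans (sb.TQ.trans sb.QS)).trans
    ((BJ.o2 (Ns S)).2.2.2.1 S le_normalizer sl.syl.isPGroup le_rfl))

open T1H in
theorem t2 (hTyp : StTyp.{u}) (hTS : StTS.{u}) (hL8 : StL8.{u}) (hS7 : StS7.{u}) : StT2.{u} := by
  intro G _ _ M S V π c z y sl sb hN
  have := Fact.mk Nat.prime_two
  have B1 := P8.pf_Bas1.{u}
  have B2 := P8.pf_Bas2.{u}
  have BJ := P8.pf_BasJ.{u}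
  have PB := P8.pf_PjB.{u, 0}
  have gl := sl.gl
  have sim := gl.sim
  have nT : M ≠ ⊤ := fun e => by
    have n : V.Normal := normalizer_eq_top_iff.1 (sb.nV.trans e)
    have k1 := sb.card
    rcases n.eq_bot_or_eq_top with e1 | e1
    · rw [e1, card_bot] at k1
      omega
    · have k2 := orderOf_dvd_natCard V (e1 ▸ mem_top y : y ∈ V)
      rw [sb.oy, k1] at k2
      omega
  obtain ⟨C, hC, n0, l1, l2⟩ := gl.gct S M sl.syl nT
  have SK : S ≤ Ns C := le_normalizer.trans l1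
  obtain ⟨ch, ne⟩ := B2.chl gl.c2 (M := Ns C) ⟨C, sl.syl.isPGroup.to_le hC, n0, rfl⟩
  by_cases d7 : 7 ∣ Nat.card (Ns C)
  swap
  · exact ⟨_, SK, sb.sv _ SK ne d7, l2⟩
  by_cases sol : Group.IsSolvable (Ns C)
  · exact absurd ((hS7 G gl _ S sl.syl SK ch ne sol d7 sb.s7).trans hN) l2
  rcases hTS G 7 gl _ S (hTyp G 7 gl _ ch ne sol) SK sl.syl with ⟨-, ⟨ρ, ty⟩ | h8⟩ | ⟨e, -⟩
  · set K := Ns C
    have pj := ty.toPj
    have oK := BJ.o2 K
    obtain ⟨-, P, hP⟩ := PB.syl pj S (sl.syl.mono SK le_top)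
    obtain ⟨A, B, a1, b1, a2, b2, ab⟩ := two P P.isPGroup'
    have key : ∀ A : Subgroup L32, (P : Subgroup L32) ≤ A → Nat.card A = 24 → ∃ H : Subgroup G, S ≤ H ∧
        Sv H ∧ O2 K ≤ H ∧ ∀ a, a ∈ H ↔ a ∈ K ∧ ρ a ∈ A := fun A a1 a2 => by
      obtain ⟨H, m, q, i, -⟩ := PB.pre pj A
      have sH : S ≤ H := fun s hs => (m s).2 ⟨SK hs, a1 ((hP _).2 ⟨s, hs, rfl⟩)⟩
      refine ⟨H, sH, sb.sv H sH (fun e => ne (le_bot_iff.1 (e ▸ ?_))) fun d => ?_, q, m⟩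
      · exact (BJ.o2 H).2.2.2.1 _ q oK.2.1 fun h hh => oK.2.2.1 (le_normalizer ((m h).1 hh).1)
      · obtain ⟨n, hn⟩ := IsPGroup.iff_card.1 oK.2.1
        rw [← card_mul_relIndex q, hn, i, a2] at d
        rcases (Nat.Prime.dvd_mul (by norm_num)).1 d with e | e
        · exact absurd (Nat.Prime.dvd_of_dvd_pow (by norm_num) e) (by decide)
        · exact absurd e (by decide)
    obtain ⟨H1, s1, v1, q1, m1⟩ := key A a1 a2
    obtain ⟨H2, s2, v2, -, m2⟩ := key B b1 b2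
    by_cases k1 : H1 ≤ M
    swap
    · exact ⟨H1, s1, v1, k1⟩
    by_cases k2 : H2 ≤ M
    swap
    · exact ⟨H2, s2, v2, k2⟩
    exfalso
    obtain ⟨D, hD, -⟩ := PB.im pj (K ⊓ M) inf_le_left
    have sub : ∀ (A : Subgroup L32) (H : Subgroup G), H ≤ M → (∀ a, a ∈ H ↔ a ∈ K ∧ ρ a ∈ A) → A ≤ D :=
      fun A H k m x hx => by
        obtain ⟨h, hh, rfl⟩ := pj.sur x
        exact (hD _).2 ⟨h, ⟨hh, k ((m h).2 ⟨hh, hx⟩)⟩, rfl⟩
    have DT : (⊤ : Subgroup L32) ≤ D := ab ▸ sup_le (sub A H1 k1 m1) (sub B H2 k2 m2)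
    refine l2 fun k hk => ?_
    obtain ⟨a, ha, e⟩ := (hD _).1 (DT (mem_top (ρ k)))
    have k3 := k1 (q1 (((PB.one pj).2.2.2.2 a ha.1 k hk).1 e))
    simpa using mul_mem ha.2 k3
  · exact (hL8 G gl _ S h8 SK sl.syl).elim
  · omega

end Cfsg.Lib.K7
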