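import Cfsg.Agent.K7.Loc2
import Cfsg.Agent.P8.BasJ
import Cfsg.Agent.S0200

/-! The trivial intersection case: `V` does not lie in the 2-core of a solvable overgroup. -/

set_option autoImplicit false

namespace Cfsg.Lib.K7

open Cfsg Subgroup Cfsg.Lib.Trans Cfsg.Lib.Gold
open Cfsg.Lib.P8 (L32 V3 O2 EA pf_BasJ)
open scoped commutatorElement

universe u

namespace T3

variable {G : Type u} [Group G] [Finite G]

/-- An involution of `H` outside `O₂(H)` inverts an element of odd order of `H`. -/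
theorem inv_odd {H : Subgroup G} {a : G} (ha : a ∈ H) (h2 : a * a = 1) (hn : a ∉ O2 H) :
    ∃ x ∈ H, x ≠ 1 ∧ Odd (orderOf x) ∧ a * x * a⁻¹ = x⁻¹ := by
  have h1 : a ≠ 1 := fun e => hn (e ▸ one_mem _)
  obtain ⟨x, x1, xo, e⟩ := Cfsg.Agent.S0200.result (⟨a, ha⟩ : H)
    (orderOf_eq_prime (Subtype.ext (by simpa [pow_two] using h2)) fun e => h1 (congrArg Subtype.val e))
    fun N hN pN hm => hn ⟨⟨a, ha⟩, le_sSup (s := {M : Subgroup H | M.Normal ∧ IsPGroup 2 M})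
      ⟨hN, pN⟩ hm, rfl⟩
  exact ⟨x, x.2, fun e => x1 (Subtype.ext e), by rwa [orderOf_coe], congrArg Subtype.val e⟩

end T3

open T3 in
theorem t3 (hLe : StLe.{u}) : StT3.{u} := by
  intro G _ _ M S V H π c z y L B I SH sv nM VR
  have : Fact (Nat.Prime 2) := ⟨Nat.prime_two⟩
  obtain ⟨RH, pR, nR, mR, sR⟩ := pf_BasJ.o2 H
  obtain ⟨TM, pT, nT, -, -⟩ := pf_BasJ.o2 M
  have HR : H ≤ Ns (O2 H) := le_normalizer.trans nR
  have RS : O2 H ≤ S := sR S (L.syl.mono SH le_top)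
  obtain ⟨g, ET, ER⟩ := I.ex H SH nM
  set E := cj g V with hE
  have eE : EA E := TJ.ea_map B.ea _
  have cE : Nat.card E = 8 := (card_cj g V).trans B.card
  have EH : E ≤ H := ET.trans (B.TQ.trans (B.QS.trans SH))
  have CE : ∀ e ∈ E, e ≠ 1 → C1 e ≤ Ns E := by
    rintro _ ⟨v, hv, rfl⟩ h1
    have : C1 v ≤ Ns V := B.nV ▸ I.cv v hv fun e => h1 (by rw [e, map_one])
    rw [hE, ← cj_Ns]
    exact (cj_C1 g v).ge.trans (map_mono this)
  obtain ⟨f, hf, f1⟩ : ∃ f ∈ E ⊓ O2 H, f ≠ 1 := by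
    by_contra! h
    have h1 := hLe G H E sv EH eE
    have h2 := card_mul_relIndex (inf_le_left : E ⊓ O2 H ≤ E)
    rw [inf_relIndex_left, (eq_bot_iff_forall _).2 h, card_bot, cE] at h2
    omega
  have z1 : z ≠ 1 := fun e => by have := B.oz; rw [e, orderOf_one] at this; omega
  set Y := O2 H ⊓ Cs (O2 H) with hY
  have zY : z ∈ Y := ⟨VR L.zV, mem_Cs.2 fun u hu => mem_C1.1 (B.zS (RS hu))⟩
  have HY : H ≤ Ns Y := le_Ns_inf HR (le_Ns_Cs HR)
  have YE : Y ≤ Ns E := inf_le_right.trans ((Cs_le_C1 hf.2).trans (CE f hf.1 f1))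
  have RE : O2 H ≤ Ns E := by
    by_contra hn
    have EK : E ≤ H ⊓ Cs Y := le_inf EH fun e he => mem_Cs.2 fun u hu => by
      by_contra hc
      have h1 : u * e * u⁻¹ * e⁻¹ ∈ E := mul_mem (mem_normalizer_conj (YE hu) he) (inv_mem he)
      have h2 : u * e * u⁻¹ * e⁻¹ ∈ Y := by
        have := mul_mem hu (mem_normalizer_conj (HY (EH he)) (inv_mem hu))
        simpa only [mul_assoc] using this
      exact hn ((le_Cs_comm.1 inf_le_right).trans ((Cs_le_C1 h2).trans (CE _ h1 fun e1 => hc (by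
        rwa [mul_inv_eq_one, mul_inv_eq_iff_eq_mul] at e1))))
    obtain ⟨KK, pK, nK, mK, -⟩ := pf_BasJ.o2 (H ⊓ Cs Y)
    obtain ⟨-, pQ, nQ, -, -⟩ := pf_BasJ.o2 (M ⊓ C1 z)
    have Kz : H ⊓ Cs Y ≤ C1 z := inf_le_right.trans (Cs_le_C1 zY)
    exact ER ((le_inf EK (ET.trans B.TQ)).trans ((mK _ inf_le_left pQ.to_inf_right
      (le_Ns_inf le_normalizer ((le_inf (Kz.trans (I.cv z L.zV z1)) Kz).trans
        (le_normalizer.trans nQ)))).trans (mR _ (KK.trans inf_le_left) pK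
          ((le_Ns_inf le_normalizer (le_Ns_Cs HY)).trans nK))))
  obtain ⟨a, ha, aR⟩ := SetLike.not_le_iff_exists.1 ER
  have a2 : a * a = 1 := by rw [← pow_two]; exact TJ.ea_pow eE ha
  obtain ⟨x, xH, x1, xo, ax⟩ := inv_odd (EH ha) a2 aR
  have key : ∀ v ∈ V, x⁻¹ * v * x * a = a * (x⁻¹ * v * x) → v = 1 := fun v hv e => by
    by_contra v1
    have h1 : a ∈ C1 v := Cs_le_C1 hv (B.cV ▸ ET ha)
    have h2 : x * a * x⁻¹ ∈ C1 v := mem_C1.2 (by
      calc x * a * x⁻¹ * v = x * (a * (x⁻¹ * v * x)) * x⁻¹ := by group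
        _ = v * (x * a * x⁻¹) := by rw [← e]; group)
    have e2 : x * a * x⁻¹ * a⁻¹ = x ^ 2 := by
      calc x * a * x⁻¹ * a⁻¹ = x * (a * x * a⁻¹)⁻¹ := by group
        _ = x ^ 2 := by rw [ax, inv_inv, pow_two]
    have h3 : x ^ 2 ∈ M := I.cv v hv v1 (e2 ▸ mul_mem h2 (inv_mem h1))
    have h4 : x ∈ zpowers (x ^ 2) :=
      mem_zpowers_pow_iff.2 ((Nat.coprime_two_left).2 xo)
    have h5 : x ^ 2 ∈ O2 M := e2 ▸ mul_mem (mem_normalizer_conj
      (nT (le_normalizer (zpowers_le.2 h3 h4))) (ET ha)) (inv_mem (ET ha))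
    obtain ⟨k, hk⟩ := pT ⟨x, zpowers_le.2 h5 h4⟩
    have h6 : orderOf x ∣ 2 ^ k := orderOf_dvd_of_pow_eq_one (congrArg Subtype.val hk)
    exact x1 (orderOf_eq_one_iff.1 (Nat.Coprime.eq_one_of_dvd
      (((Nat.coprime_two_left).2 xo).symm.pow_right k) h6))
  have mem : ∀ v : V, x⁻¹ * v * x * a * (x⁻¹ * v * x)⁻¹ * a⁻¹ ∈ E ⊓ O2 H := fun v => by
    have h1 : x⁻¹ * v * x ∈ O2 H := mem_normalizer_conj' (HR xH) (VR v.2)
    refine mem_inf.2 ⟨mul_mem (mem_normalizer_conj (RE h1) ha) (inv_mem ha), ?_⟩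
    have := mul_mem h1 (mem_normalizer_conj (HR (EH ha)) (inv_mem h1))
    simpa only [mul_assoc] using this
  have h1 := Nat.card_le_card_of_injective (fun v : V => (⟨_, mem v⟩ : ↥(E ⊓ O2 H))) fun v w e => by
    have e1 := mul_right_cancel (congrArg Subtype.val e)
    have := key ((w : G)⁻¹ * v) (mul_mem (inv_mem w.2) v.2) (by
      calc x⁻¹ * ((w : G)⁻¹ * v) * x * a
          = (x⁻¹ * w * x)⁻¹ * (x⁻¹ * v * x * a * (x⁻¹ * v * x)⁻¹) * (x⁻¹ * v * x) := by group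
        _ = a * (x⁻¹ * ((w : G)⁻¹ * v) * x) := by rw [e1]; group)
    exact Subtype.ext (inv_mul_eq_one.1 this).symm
  have h2 := card_lt_of_lt (lt_of_le_of_ne (inf_le_left : E ⊓ O2 H ≤ E) fun e => ER (inf_eq_left.1 e))
  rw [B.card] at h1
  omega

end Cfsg.Lib.K7
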