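import Cfsg.Agent.K7.Loc2
import Cfsg.Agent.P8.Bas2
import Cfsg.Agent.P8.BasJ
import Cfsg.Agent.Gold.Cm

/-!
# The trivial intersection case: `V ≤ O₂(H)` for solvable overgroups `H` of the Sylow subgroup
-/

set_option autoImplicit false

namespace Cfsg.Lib.K7

open Cfsg Subgroup Cfsg.Lib.Trans Cfsg.Lib.Gold
open Cfsg.Lib.P8 (L32 V3 O2 Om EA Ch E9)
open scoped commutatorElement

universe u

namespace T4

theorem zp {G : Type u} [Group G] {j g : G} (h : j * j = 1) (hg : g ∈ zpowers j) : g = 1 ∨ g = j := by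
  obtain ⟨n, rfl⟩ := mem_zpowers_iff.1 hg
  have e : j ^ (2 : ℤ) = 1 := by rw [zpow_two, h]
  rcases Int.even_or_odd' n with ⟨k, rfl | rfl⟩
  · left; rw [zpow_mul, e, one_zpow]
  · right; rw [zpow_add, zpow_mul, e, one_zpow, one_mul, zpow_one]

end T4

theorem t4 (hLd : StLd.{u}) : StT4.{u} := by
  intro G _ _ M S V H π c z y L B I SH sv a aV
  by_contra aR
  obtain ⟨RH, R2, nR, mR, RS⟩ := P8.pf_BasJ.o2 H
  obtain ⟨-, T2, nT, -⟩ := P8.pf_BasJ.o2 M
  obtain ⟨-, q2, nq, -⟩ := P8.pf_BasJ.o2 (M ⊓ C1 z)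
  obtain ⟨-, -, YR, nY, eY, cY, mY⟩ := P8.pf_BasJ.leT (O2 H)
  replace RS := RS S (L.syl.mono SH le_top)
  replace nR : H ≤ Ns (O2 H) := le_normalizer.trans nR
  replace nY : H ≤ Ns (Om (O2 H)) := nR.trans nY
  have VT : V ≤ O2 M := L.leV.trans (P8.pf_BasJ.leT _).2.2.1
  have TS : O2 M ≤ S := B.TQ.trans B.QS
  have aS : a ∈ S := TS (VT aV)
  have aH : a ∈ H := SH aS
  have a2 : a * a = 1 := by rw [← pow_two]; exact B.ea.2 a aV
  have ai : a⁻¹ = a := inv_eq_of_mul_eq_one_right a2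
  have z2 : z * z = 1 := by rw [← pow_two, ← B.oz, pow_orderOf_eq_one]
  have z1 : z ≠ 1 := fun e => by have := B.oz; rw [e, orderOf_one] at this; omega
  have zY : z ∈ Om (O2 H) := mY z (sv.ch ⟨SH (TS (VT L.zV)),
    mem_Cs.2 fun u hu => mem_C1.1 (B.zS (RS hu))⟩) (RS.trans B.zS) z2
  have YM : Om (O2 H) ≤ M := (YR.trans RS).trans B.le
  have cj : ∀ h ∈ H, ∀ d ∈ Om (O2 H), h * d * h⁻¹ ∈ Om (O2 H) := fun h hh d hd =>
    mem_normalizer_conj (nY hh) hd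
  have cr : ∀ r ∈ O2 H, ∀ d ∈ Om (O2 H), r * d * r⁻¹ = d := fun r hr d hd => by
    rw [← mem_Cs.1 (cY hr) d hd, mul_inv_cancel_right]
  have cV : ∀ m ∈ M, m * a * m⁻¹ * a⁻¹ ∈ V := fun m hm =>
    mul_mem (mem_normalizer_conj (L.nor hm) aV) (inv_mem aV)
  have nY1 : ¬ Om (O2 H) ≤ C1 a := fun k => by
    obtain ⟨k1, k2, k3, k4, -⟩ := P8.pf_BasJ.o2 (H ⊓ Cs (Om (O2 H)))
    have KP : H ⊓ Cs (Om (O2 H)) ≤ M ⊓ C1 z := fun g hg =>
      ⟨I.cv z L.zV z1 (Cs_le_C1 zY hg.2), Cs_le_C1 zY hg.2⟩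
    refine aR (mR _ (k1.trans inf_le_left) k2
      ((le_Ns_inf le_normalizer (le_Ns_Cs nY)).trans k3) (k4 _ inf_le_left q2.to_inf_right
      (le_Ns_inf le_normalizer ((KP.trans le_normalizer).trans nq)) ⟨⟨aH, ?_⟩, B.TQ (VT aV)⟩))
    exact mem_Cs.2 fun u hu => mem_C1.1 (k hu)
  have nM : ∀ h, h ^ 3 = 1 → h ≠ 1 → a * h * a⁻¹ * h ∈ O2 H → h ∉ M := fun h h3 h1 k hM => by
    have e : h * h ∈ S := by
      have := mul_mem (TS (VT (cV h hM))) (RS k)
      rwa [ai, show h * a * h⁻¹ * a * (a * h * a * h) = h * a * h⁻¹ * (a * a) * h * a * h by group,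
        a2, mul_one, inv_mul_cancel_right, mul_assoc h, a2, mul_one] at this
    have hS : h ∈ S := by
      have := mul_mem e e
      rwa [show h * h * (h * h) = h ^ 3 * h by simp only [pow_succ, pow_zero, one_mul, mul_assoc], h3, one_mul] at this
    obtain ⟨n, hn⟩ := L.syl.isPGroup ⟨h, hS⟩
    have c : Nat.gcd 3 (2 ^ n) = 1 := Nat.Coprime.pow_right n (by decide)
    exact h1 (by rw [← pow_one h, ← c]; exact pow_gcd_eq_one.2 ⟨h3, congrArg Subtype.val hn⟩)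
  have cC : ∀ h, h ^ 3 = 1 → h ≠ 1 → a * h * a⁻¹ * h ∈ O2 H → Om (O2 H) ⊓ C1 h ≤ C1 a :=
    fun h h3 h1 k d hd => by
      by_contra hn
      refine nM h h3 h1 k (I.cv _ (cV d (YM hd.1)) (fun e => hn (mem_C1.2 ?_)) (mem_C1.2 ?_))
      · exact mul_inv_eq_iff_eq_mul.1 (mul_inv_eq_one.1 e)
      · have c : Commute h d := (mem_C1.1 hd.2).symm
        have e2 := cr _ k _ (inv_mem hd.1)
        have e3 : h * d⁻¹ * h⁻¹ = d⁻¹ := by rw [c.inv_right.eq, mul_inv_cancel_right]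
        have e4 : h * (a⁻¹ * d⁻¹ * a) = a⁻¹ * d⁻¹ * a * h :=
          calc h * (a⁻¹ * d⁻¹ * a) = h * (a⁻¹ * (h * d⁻¹ * h⁻¹) * a) := by rw [e3]
            _ = a⁻¹ * (a * h * a⁻¹ * h * d⁻¹ * (a * h * a⁻¹ * h)⁻¹) * a * h := by group
            _ = _ := by rw [e2]
        rw [ai] at e4 ⊢
        simpa only [mul_assoc] using (c.mul_right (show Commute h (a * d⁻¹ * a) from e4)).eq
  obtain ⟨d, hd, hda⟩ := SetLike.not_le_iff_exists.1 nY1
  obtain ⟨x, xH, x3, xa, xT⟩ := hLd G H (O2 M) a sv (TS.trans SH) T2 aH aR a2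
    (B.cV ▸ Cs_le_C1 aV) (fun e eH e' eH' h9 k k' => by
      have p := h9.1 ▸ pow_orderOf_eq_one e
      have p' := h9.2.1 ▸ pow_orderOf_eq_one e'
      have cm : Commute e e' := h9.2.2.1
      have ki : a * e'⁻¹ * a⁻¹ * e'⁻¹ ∈ O2 H := by
        have := inv_mem (mem_normalizer_conj (nR eH') k')
        rwa [show (e' * (a * e' * a⁻¹ * e') * e'⁻¹)⁻¹ = a * e'⁻¹ * a⁻¹ * e'⁻¹ by group] at this
      have km : ∀ f, Commute e f → a * f * a⁻¹ * f ∈ O2 H → a * (e * f) * a⁻¹ * (e * f) ∈ O2 H :=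
        fun f cf kf => by
          have := mul_mem k (mem_normalizer_conj (nR (inv_mem eH)) kf)
          rwa [show a * e * a⁻¹ * e * (e⁻¹ * (a * f * a⁻¹ * f) * e⁻¹⁻¹) =
            a * (e * f) * a⁻¹ * (f * e) by group, ← cf.eq] at this
      refine nY1 ((P8.pf_Bas2.gen9 (R2.to_le YR) (nY eH) (nY eH') h9).trans (sup_le (sup_le (sup_le
        (cC e p (fun k => ?_) k) (cC e' p' (fun k => ?_) k'))
        (cC _ (by rw [cm.mul_pow, p, p', one_mul]) (fun k => ?_) (km _ cm k')))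
        (cC _ (by rw [cm.inv_right.mul_pow, p, inv_pow, p', inv_one, one_mul]) (fun k => ?_)
          (km _ cm.inv_right ki))))
      · have := h9.1; rw [k, orderOf_one] at this; omega
      · exact h9.2.2.2 (k ▸ one_mem _)
      · exact h9.2.2.2 (eq_inv_of_mul_eq_one_right k ▸ inv_mem (mem_zpowers e))
      · exact h9.2.2.2 (mul_inv_eq_one.1 k ▸ mem_zpowers e))
    (fun w wH w3 k => by
      refine B.nc w (I.ti w fun e => hda (mem_C1.2 ?_)) w3 H sv.ne wH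
      have h1 := cV _ (YM (cj _ (inv_mem wH) d hd))
      have h2 := cr _ k _ (cj a aH _ (inv_mem hd))
      have h3 : d * a * d⁻¹ * a⁻¹ ∈ Trans.cj w V ⊓ V := by
        refine ⟨mem_cj.2 ?_, cV d (YM hd)⟩
        rw [mul_assoc d, mul_assoc d, ← h2, commutatorElement_def]
        convert h1 using 1
        group
      exact mul_inv_eq_iff_eq_mul.1 (mul_inv_eq_one.1 (mem_bot.1 (e ▸ h3))))
  have p := x3 ▸ pow_orderOf_eq_one x
  have x1 : x ≠ 1 := fun e => by rw [e, orderOf_one] at x3; omega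
  have jY := cj x xH z zY
  have j2 : x * z * x⁻¹ * (x * z * x⁻¹) = 1 := by rw [conj_mul, z2, mul_one, mul_inv_cancel]
  have f1 : ∀ g ∈ S, g * x * g⁻¹ * x⁻¹ ∈ O2 H → g * (x * z * x⁻¹) * g⁻¹ = x * z * x⁻¹ :=
    fun g hg k => by
      have e : g⁻¹ * z * g = z := by rw [mul_assoc, ← mem_C1.1 (B.zS hg), inv_mul_cancel_left]
      refine Eq.trans ?_ (cr _ k _ jY)
      conv_lhs => rw [← e]
      group
  have f2 : ∀ g ∈ S, g * x * g⁻¹ * x ∈ O2 H → g * (x * z * x⁻¹) * g⁻¹ = x⁻¹ * z * x⁻¹⁻¹ :=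
    fun g hg k => by
      have e : g⁻¹ * z * g = z := by rw [mul_assoc, ← mem_C1.1 (B.zS hg), inv_mul_cancel_left]
      refine Eq.trans ?_ (cr _ k _ (cj _ (inv_mem xH) z zY))
      conv_lhs => rw [← e]
      group
  refine B.neT (B.qw V (O2 M) VT le_rfl L.nor (le_normalizer.trans nT) _ (YM jY) (fun jT => ?_)
    (commutator_le.2 fun τ hτ g hg => ?_))
  · have e := f2 a aS xa
    rw [mem_Cs.1 (B.cV ▸ jT : _ ∈ Cs V) a aV, mul_inv_cancel_right] at e
    have h2 : x * x ∈ M := I.cv z L.zV z1 (mem_C1.2 (by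
      calc x * x * z = x * (x * z * x⁻¹) * x := by group
        _ = z * (x * x) := by rw [e]; group))
    have := mul_mem h2 h2
    rw [show x * x * (x * x) = x ^ 3 * x by simp only [pow_succ, pow_zero, one_mul, mul_assoc], p, one_mul] at this
    exact nM x p x1 xa this
  · rcases T4.zp j2 hg with rfl | rfl
    · rw [commutatorElement_one_right]; exact one_mem _
    · rw [commutatorElement_def]
      rcases xT τ hτ with k | k
      · rw [f1 τ (TS hτ) k, mul_inv_cancel]; exact one_mem _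
      · rw [f2 τ (TS hτ) k, ← f2 a aS xa]
        have := inv_mem (cV _ (YM jY))
        rwa [show (x * z * x⁻¹ * a * (x * z * x⁻¹)⁻¹ * a⁻¹)⁻¹ =
          a * (x * z * x⁻¹) * a⁻¹ * (x * z * x⁻¹)⁻¹ by group] at this

end Cfsg.Lib.K7
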