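import Cfsg.Agent.K7.Loc2
import Cfsg.Agent.P8.PjB
import Cfsg.Agent.P8.E73
import Cfsg.Agent.Local.PCoreOf

/-! The points `v` of `V` with `w ∈ O₂(C(v))` form a line. -/

set_option autoImplicit false
set_option linter.unusedSectionVars false

namespace Cfsg.Lib.K7

open Cfsg Subgroup Cfsg.Lib.Trans Cfsg.Lib.Gold Cfsg.Lib.Local.MSS
open Cfsg.Lib.P8 (L32 V3 O2 Om Jt Phi EA SR4 Ch E9 Pj Ty Sec SecOK Mx Crd)
open scoped commutatorElement

universe u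

namespace Wt

variable {G : Type u} [Group G] [Finite G] {M S V A : Subgroup G} {π : G → L32} {c : G → V3}
  {z y : G}

omit [Finite G] in
theorem cjQ (g v x : G) : g * x * g⁻¹ ∈ Qz (g * v * g⁻¹) ↔ x ∈ Qz v := by
  have : C1 (g * v * g⁻¹) = cj g (C1 v) := by
    ext y
    rw [mem_cj, mem_centralizer_singleton_iff, mem_centralizer_singleton_iff]
    constructor <;> intro h
    · calc _ = g⁻¹ * (y * (g * v * g⁻¹)) * g := by group
        _ = _ := by rw [h]; group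
    · calc _ = g * (g⁻¹ * y * g * v) * g⁻¹ := by group
        _ = _ := by rw [h]; group
  rw [Qz, this, O2, pCoreOf_cj, mem_cj]
  have e : g⁻¹ * (g * x * g⁻¹) * g = x := by group
  rw [e]

omit [Finite G] in
theorem cjQ' (g v x : G) : x ∈ Qz (g * v * g⁻¹) ↔ g⁻¹ * x * g ∈ Qz v := by
  rw [← cjQ g v]
  have e : g * (g⁻¹ * x * g) * g⁻¹ = x := by group
  rw [e]

omit [Finite G] in
theorem cn {U : Subgroup G} {g x : G} (hg : g ∈ Ns U) (hx : x ∈ U) : g * x * g⁻¹ ∈ U :=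
  (mem_normalizer_iff.1 hg x).1 hx

omit [Finite G] in
theorem cn' {U : Subgroup G} {g x : G} (hg : g ∈ Ns U) (hx : x ∈ U) : g⁻¹ * x * g ∈ U := by
  simpa using cn (inv_mem hg) hx

theorem mkN {U : Subgroup G} {g : G} (h : ∀ x ∈ U, g * x * g⁻¹ ∈ U) : g ∈ Ns U :=
  mem_normalizer_of_cj_le fun x hx => by
    have := h _ (mem_cj.1 hx)
    rwa [show g * (g⁻¹ * x * g) * g⁻¹ = x by group] at this

omit [Finite G] in
theorem sq (b : SB M S V z y) {v : G} (hv : v ∈ V) : v * v = 1 := by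
  rw [← pow_two]; exact b.ea.2 v hv

omit [Finite G] in
theorem cm (b : SB M S V z y) {v w : G} (hv : v ∈ V) (hw : w ∈ V) : v * w = w * v :=
  congrArg Subtype.val (b.ea.1.1.1 ⟨v, hv⟩ ⟨w, hw⟩)

omit [Finite G] in
theorem VT (b : SB M S V z y) : V ≤ O2 M := fun _ hv =>
  b.cV.le (mem_centralizer_iff.2 fun _ hw => cm b hw hv)

omit [Finite G] in
theorem MT : M ≤ Ns (O2 M) := self_le_normalizer_pCoreOf M

omit [Finite G] in
theorem QM : Q1 M z ≤ M := (pCoreOf_le _).trans inf_le_left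

omit [Finite G] in
theorem VQ (h : SL M S V π c z) (b : SB M S V z y) (s : SU M S V z) {v : G} (hv : v ∈ V)
    (h1 : v ≠ 1) : V ≤ Qz v := fun x hx => by
  obtain ⟨m, hm, rfl⟩ := b.tr v hv h1
  exact (cjQ' _ _ _).2 (s.sec.leQ (s.VU (cn' (h.nor hm) hx)))

theorem UT (b : SB M S V z y) (s : SU M S V z) (nU : ¬ Uz V z ≤ O2 M) {q : G}
    (hq : q ∈ Q1 M z) : ∃ u ∈ Uz V z, ∃ τ ∈ O2 M, u * τ = q := by
  have UQ : Uz V z ≤ Q1 M z := s.sec.leQ.trans s.QQ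
  have e := (b.irr (Uz V z ⊔ O2 M) le_sup_right (sup_le UQ b.TQ) (by
    rw [← cj_eq_self_iff, cj_sup, cj_eq_self_iff.2 (s.nU b.yz), cj_eq_self_iff.2 (MT b.yM)])).resolve_left
      fun e => nU (le_sup_left.trans e.le)
  have := coe_mul_of_left_le_normalizer_right (Uz V z) (O2 M) ((UQ.trans QM).trans MT)
  rw [← e, ← SetLike.mem_coe, this] at hq
  exact hq

omit [Finite G] in
theorem cU (h : SL M S V π c z) (s : SU M S V z) {u w : G} (hu : u ∈ Uz V z) (hw : w ∈ Qz z) :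
    ⁅u, w⁆ ∈ V :=
  (zpowers_le.2 h.zV) (s.sec.cen (commutator_mem_commutator hu hw))

theorem clo0 (h : SL M S V π c z) (b : SB M S V z y) (s : SU M S V z) (nU : ¬ Uz V z ≤ O2 M)
    {w a : G} (hw : w ∈ Qz z) (ha : a ∈ V) (a1 : a ≠ 1) (az : a ≠ z) (wa : w ∈ Qz a) :
    w ∈ Qz (a * z) := by
  obtain ⟨q, hq, e⟩ := b.el a ha a1 az
  obtain ⟨u, hu, τ, hτ, rfl⟩ := UT b s nU hq
  have e1 : u * a * u⁻¹ = a * z := by
    have := mem_centralizer_iff.1 (b.cV.ge hτ) a ha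
    rw [← e]
    calc u * a * u⁻¹ = u * (a * τ) * (u * τ)⁻¹ := by group
      _ = _ := by rw [this]; group
  have h1 := (cjQ u a w).2 wa
  rw [e1] at h1
  have h2 := VQ h b s (mul_mem ha h.zV) (fun e => az (by
    rw [eq_inv_of_mul_eq_one_left e, inv_eq_of_mul_eq_one_left (sq b h.zV)])) (cU h s hu hw)
  rw [commutatorElement_def] at h2
  exact (inv_mem_iff).1 ((mul_mem_cancel_left h1).1 h2)

theorem clo (h : SL M S V π c z) (b : SB M S V z y) (s : SU M S V z) (nU : ¬ Uz V z ≤ O2 M)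
    {w a p : G} (hp : p ∈ V) (p1 : p ≠ 1) (hw : w ∈ Qz p) (ha : a ∈ V) (a1 : a ≠ 1) (ap : a ≠ p)
    (wa : w ∈ Qz a) : w ∈ Qz (a * p) := by
  obtain ⟨m, hm, rfl⟩ := b.tr p hp p1
  have e : a = m * (m⁻¹ * a * m) * m⁻¹ := by group
  rw [e, cjQ'] at wa
  have := clo0 h b s nU ((cjQ' _ _ _).1 hw) (cn' (h.nor hm) ha)
    (fun k => a1 (by rw [e, k]; group)) (fun k => ap (by rw [e, k])) wa
  rw [← cjQ'] at this
  convert this using 2
  group

theorem all (h : SL M S V π c z) (b : SB M S V z y) (s : SU M S V z) (nU : ¬ Uz V z ≤ O2 M)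
    {w : G} (hw : w ∈ O2 M) (k : ∀ v ∈ V, v ≠ 1 → w ∈ Qz v) : w ∈ V := by
  let D : Subgroup G := O2 M ⊓ ⨅ v : {v // v ∈ V ∧ v ≠ 1}, Qz v.1
  have mD : ∀ x, x ∈ D ↔ x ∈ O2 M ∧ ∀ v ∈ V, v ≠ 1 → x ∈ Qz v := fun x => by
    simp only [D, mem_inf, mem_iInf, Subtype.forall, and_imp]
  obtain ⟨u, hu, nu⟩ := SetLike.not_le_iff_exists.1 nU
  have z1 : z ≠ 1 := fun e => by have := b.oz; rw [e, orderOf_one] at this; omega
  refine b.qw V D (fun x hx => (mD x).2 ⟨VT b hx,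
    fun v hv v1 => VQ h b s hv v1 hx⟩) inf_le_left h.nor (fun m hm => mkN fun x hx => ?_) u
    (QM (s.QQ (s.sec.leQ hu))) nu ?_ ((mD w).2 ⟨hw, k⟩)
  · obtain ⟨h1, h2⟩ := (mD x).1 hx
    refine (mD _).2 ⟨cn (MT hm) h1, fun v hv v1 => ?_⟩
    have e : v = m * (m⁻¹ * v * m) * m⁻¹ := by group
    rw [e, cjQ]
    exact h2 _ (cn' (h.nor hm) hv) fun k => v1 (by rw [e, k]; group)
  · rw [commutator_comm]
    exact (commutator_mono (zpowers_le.2 hu) fun x hx => ((mD x).1 hx).2 z h.zV z1).trans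
      (s.sec.cen.trans (zpowers_le.2 h.zV))

omit [Finite G] in
theorem pick (b : SB M S V z y) (a₁ a₂ a₃ a₄ : G) :
    ∃ v ∈ V, v ≠ a₁ ∧ v ≠ a₂ ∧ v ≠ a₃ ∧ v ≠ a₄ := by
  by_contra k
  push Not at k
  have h1 : (V : Set G) ⊆ {a₁, a₂, a₃, a₄} := fun v hv => by
    by_contra e
    simp only [Set.mem_insert_iff, Set.mem_singleton_iff, not_or] at e
    exact e.2.2.2 (k v hv e.1 e.2.1 e.2.2.1)
  have h2 := Set.ncard_le_ncard h1 (Set.toFinite _)
  have h3 : (V : Set G).ncard = 8 := b.card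
  have h4 := Set.ncard_insert_le a₁ ({a₂, a₃, a₄} : Set G)
  have h5 := Set.ncard_insert_le a₂ ({a₃, a₄} : Set G)
  have h6 := Set.ncard_insert_le a₃ ({a₄} : Set G)
  rw [Set.ncard_singleton] at h6
  omega

theorem core (h : SL M S V π c z) (b : SB M S V z y) (s : SU M S V z) (nU : ¬ Uz V z ≤ O2 M)
    (AT : A ≤ O2 M) (nA : M ≤ Ns A)
    (i2 : ∀ a ∈ A, ∀ a' ∈ A, a ∉ Qz z → a' ∉ Qz z → a * a' ∈ Qz z) {w : G} (hw : w ∈ A)
    (nw : w ∉ V) : ∃ p ∈ V, ∃ q ∈ V, p ≠ 1 ∧ q ≠ 1 ∧ p ≠ q ∧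
      ∀ v ∈ V, v ≠ 1 → (w ∈ Qz v ↔ v = p ∨ v = q ∨ v = p * q) := by
  have I2 : ∀ v ∈ V, v ≠ 1 → ∀ a ∈ A, ∀ a' ∈ A, a ∉ Qz v → a' ∉ Qz v → a * a' ∈ Qz v := by
    intro v hv v1 a ha a' ha' h1 h2
    obtain ⟨m, hm, rfl⟩ := b.tr v hv v1
    rw [cjQ'] at h1 h2 ⊢
    convert i2 _ (cn' (nA hm) ha) _ (cn' (nA hm) ha') h1 h2 using 1
    group
  have ne1 : ∀ m v : G, v ≠ 1 → m⁻¹ * v * m ≠ 1 := fun m v v1 k => v1 (by
    calc v = m * (m⁻¹ * v * m) * m⁻¹ := by group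
      _ = 1 := by rw [k]; group)
  have sh : ∀ m v x : G, m * x * m⁻¹ ∈ Qz v ↔ x ∈ Qz (m⁻¹ * v * m) := fun m v x => by
    rw [← cjQ m (m⁻¹ * v * m), show m * (m⁻¹ * v * m) * m⁻¹ = v by group]
  by_cases e1 : ∃ p ∈ V, p ≠ 1 ∧ w ∈ Qz p
  swap
  · push Not at e1
    obtain ⟨x, -, o, -⟩ := P8.E73H.ex32
    obtain ⟨a, ha, rfl⟩ := h.ty.sur x
    obtain ⟨σ, hσ, -, o'⟩ := P8.PjBH.odd h.ty.toPj a ha (by rw [o]; decide)
    have σM : σ ∈ M := zpowers_le.2 ha hσ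
    refine absurd (b.fp σ σM (o'.trans o) w (AT hw) ?_) nw
    have e : ⁅w, σ⁆ = w * (σ * w⁻¹ * σ⁻¹) := by rw [commutatorElement_def]; group
    have m1 := cn (nA σM) (inv_mem hw)
    rw [e]
    refine all h b s nU (AT (mul_mem hw m1)) fun v hv v1 => I2 v hv v1 _ hw _ m1 (e1 v hv v1) ?_
    rw [sh, inv_mem_iff]
    exact e1 _ (cn' (h.nor σM) hv) (ne1 _ _ v1)
  obtain ⟨p, hp, p1, wp⟩ := e1
  by_cases e2 : ∃ q ∈ V, q ≠ 1 ∧ q ≠ p ∧ w ∈ Qz q
  swap
  · push Not at e2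
    exfalso
    obtain ⟨p', hp', p'1, pp', -⟩ := pick b 1 p p p
    obtain ⟨m₁, hm₁, k₁⟩ := b.tr p hp p1
    obtain ⟨m₂, hm₂, k₂⟩ := b.tr p' hp' p'1
    have hm : m₂ * m₁⁻¹ ∈ M := mul_mem hm₂ (inv_mem hm₁)
    have km : m₂ * m₁⁻¹ * p * (m₂ * m₁⁻¹)⁻¹ = p' := by rw [← k₁, ← k₂]; group
    generalize m₂ * m₁⁻¹ = m at hm km
    have m1 := cn (nA hm) hw
    have n1 : ∀ v ∈ V, v ≠ 1 → v ≠ p' → m * w * m⁻¹ ∉ Qz v := fun v hv v1 vp => by
      rw [sh]
      refine e2 _ (cn' (h.nor hm) hv) (ne1 _ _ v1) fun k => vp ?_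
      rw [← km, ← k]; group
    have n2 : ∀ v ∈ V, v ≠ 1 → v ≠ p → v ≠ p' → w * (m * w * m⁻¹) ∈ Qz v := fun v hv v1 vp vp' =>
      I2 v hv v1 _ hw _ m1 (e2 v hv v1 vp) (n1 v hv v1 vp')
    obtain ⟨a, ha, a1, ap, ap', app'⟩ := pick b 1 p p' (p' * p)
    have r1 : a * p ≠ 1 := fun k => ap (by
      rw [eq_inv_of_mul_eq_one_left k, inv_eq_of_mul_eq_one_left (sq b hp)])
    have r2 : a * p ≠ p := fun k => a1 (mul_eq_right.1 k)
    have r3 : a * p ≠ p' := fun k => app' (by rw [← k, mul_assoc, sq b hp, mul_one])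
    have := clo h b s nU ha a1 (n2 a ha a1 ap ap') (mul_mem ha hp) r1 (fun k => p1 (mul_eq_left.1 k))
      (n2 _ (mul_mem ha hp) r1 r2 r3)
    rw [cm b ha hp, mul_assoc, sq b ha, mul_one] at this
    exact n1 p hp p1 pp'.symm ((mul_mem_cancel_left wp).1 this)
  obtain ⟨q, hq, q1, qp, wq⟩ := e2
  have wpq : w ∈ Qz (p * q) := clo h b s nU hq q1 wq hp p1 qp.symm wp
  refine ⟨p, hp, q, hq, p1, q1, qp.symm, fun r hr r1 => ⟨fun wr => ?_, ?_⟩⟩
  swap
  · rintro (rfl | rfl | rfl) <;> assumption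
  by_contra k
  simp only [not_or] at k
  obtain ⟨rp, rq, rpq⟩ := k
  let B : Subgroup G :=
    { carrier := {v | v ∈ V ∧ (v = 1 ∨ w ∈ Qz v)}
      one_mem' := ⟨one_mem _, Or.inl rfl⟩
      inv_mem' := fun {x} hx => by
        rw [inv_eq_of_mul_eq_one_left (sq b hx.1)]; exact hx
      mul_mem' := fun {x x'} hx hx' => by
        refine ⟨mul_mem hx.1 hx'.1, ?_⟩
        by_cases x1 : x = 1
        · rw [x1, one_mul]; exact hx'.2
        by_cases x1' : x' = 1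
        · rw [x1', mul_one]; exact hx.2
        by_cases xx : x = x'
        · rw [xx, sq b hx'.1]; exact Or.inl rfl
        exact Or.inr (clo h b s nU hx'.1 x1' (hx'.2.resolve_left x1') hx.1 x1 xx
          (hx.2.resolve_left x1)) }
  have BV : B ≤ V := fun _ hx => hx.1
  have pq1 : p * q ≠ 1 := fun k => qp (by
    rw [eq_inv_of_mul_eq_one_right k, inv_eq_of_mul_eq_one_left (sq b hp)])
  have c5 : ({r, p * q, q, p, 1} : Set G).ncard = 5 := by
    rw [Set.ncard_insert_of_notMem (by simp [rp, rq, rpq, r1]),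
      Set.ncard_insert_of_notMem (by simp [pq1, p1, q1]),
      Set.ncard_insert_of_notMem (by simp [qp, q1]), Set.ncard_insert_of_notMem (by simp [p1]),
      Set.ncard_singleton]
  have sub : ({r, p * q, q, p, 1} : Set G) ⊆ B := by
    rintro x (rfl | rfl | rfl | rfl | rfl)
    exacts [⟨hr, Or.inr wr⟩, ⟨mul_mem hp hq, Or.inr wpq⟩, ⟨hq, Or.inr wq⟩, ⟨hp, Or.inr wp⟩,
      one_mem B]
  have c6 : 5 ≤ Nat.card B := c5 ▸ Set.ncard_le_ncard sub (Set.toFinite _)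
  have d := card_dvd_of_le BV
  rw [b.card] at d
  have c8 : Nat.card B = 8 := by
    have := Nat.le_of_dvd (by norm_num) d
    interval_cases Nat.card B <;> simp at d ⊢
  have e := Subgroup.eq_of_le_of_card_ge BV (by rw [c8, b.card])
  exact nw (all h b s nU (AT hw) fun v hv v1 => (e.ge hv).2.resolve_left v1)

end Wt

open Wt in
theorem wt : StWt.{u} := by
  intro G _ _ M S V A π c z y h b s nU _ AT nA i w hw nw
  refine core h b s nU AT nA (fun a ha a' ha' h1 h2 => ?_) hw nw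
  have n0 : (Qz z).relIndex A ≠ 0 := index_ne_zero_of_finite
  have n1 : (Qz z).relIndex A ≠ 1 := fun e => h1 (relIndex_eq_one.1 e ha)
  exact mem_subgroupOf.1 ((mul_mem_iff_of_index_two (H := (Qz z).subgroupOf A)
    (show (Qz z).relIndex A = 2 by omega) (a := ⟨a, ha⟩) (b := ⟨a', ha'⟩)).2 (iff_of_false h1 h2))

open Wt in
theorem q8 (_hWt : StWt.{u}) : StQ8.{u} := by
  intro G _ _ M S V π c z y h b s nU ⟨f, fs, fk⟩
  classical
  have := Fintype.ofFinite G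
  let g : O2 M →* QuaternionGroup 2 := f.comp (inclusion b.TQ)
  have gk : ∀ x : O2 M, g x = 1 ↔ (x : G) ∈ Qz z := fun x => by
    change inclusion b.TQ x ∈ f.ker ↔ _
    rw [fk]; rfl
  have gs : Function.Surjective g := fun a => by
    obtain ⟨q, rfl⟩ := fs a
    obtain ⟨u, hu, τ, hτ, e⟩ := UT b s nU q.2
    have uQ := s.sec.leQ hu
    have : f ⟨u, s.QQ uQ⟩ = 1 := by
      change (⟨u, s.QQ uQ⟩ : Q1 M z) ∈ f.ker
      rw [fk]; exact uQ
    refine ⟨⟨τ, hτ⟩, ?_⟩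
    rw [show q = ⟨u, s.QQ uQ⟩ * inclusion b.TQ ⟨τ, hτ⟩ from Subtype.ext e.symm, map_mul, this, one_mul]
    rfl
  have g2 : ∀ x (hx : x ∈ O2 M), x * x ∈ Qz z ↔ g ⟨x, hx⟩ * g ⟨x, hx⟩ = 1 := fun x hx => by
    rw [← map_mul, gk]; rfl
  have tr : ∀ (m x : G), m⁻¹ * (x * x) * m = m⁻¹ * x * m * (m⁻¹ * x * m) := fun m x => by group
  let A : Subgroup G :=
    { carrier := {x | x ∈ O2 M ∧ ∀ v ∈ V, v ≠ 1 → x * x ∈ Qz v}
      one_mem' := ⟨one_mem _, fun v _ _ => by rw [one_mul]; exact one_mem _⟩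
      inv_mem' := fun {x} hx => ⟨inv_mem hx.1, fun v hv v1 => by
        rw [← mul_inv_rev]; exact inv_mem (hx.2 v hv v1)⟩
      mul_mem' := fun {x x'} hx hx' => ⟨mul_mem hx.1 hx'.1, fun v hv v1 => by
        have h1 := hx.2 v hv v1
        have h2 := hx'.2 v hv v1
        obtain ⟨m, hm, rfl⟩ := b.tr v hv v1
        rw [cjQ', tr] at h1 h2 ⊢
        have t1 := cn' (MT hm) hx.1
        have t2 := cn' (MT hm) hx'.1
        rw [show m⁻¹ * (x * x') * m = m⁻¹ * x * m * (m⁻¹ * x' * m) by group, g2 _ (mul_mem t1 t2)]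
        rw [g2 _ t1] at h1
        rw [g2 _ t2] at h2
        change g (⟨_, t1⟩ * ⟨_, t2⟩) * g (⟨_, t1⟩ * ⟨_, t2⟩) = 1
        rw [map_mul]
        revert h1 h2
        generalize g ⟨_, t1⟩ = a, g ⟨_, t2⟩ = a'
        revert a a'
        decide⟩ }
  have z1 : z ≠ 1 := fun e => by have := b.oz; rw [e, orderOf_one] at this; omega
  have two : ∀ x ∈ O2 M, ∃ p ∈ V, ∃ q ∈ V, p ≠ 1 ∧ q ≠ 1 ∧ p ≠ q ∧ x * x ∈ Qz p ∧ x * x ∈ Qz q := by
    intro x hx
    by_cases k : x * x ∈ V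
    · obtain ⟨q, hq, q1, qz, -⟩ := pick b 1 z z z
      exact ⟨z, h.zV, q, hq, z1, q1, qz.symm, VQ h b s h.zV z1 k, VQ h b s hq q1 k⟩
    obtain ⟨p, hp, q, hq, p1, q1, pq, e⟩ := core (A := A) h b s nU (fun _ hx => hx.1)
      (fun m hm => mkN fun x hx => ⟨cn (MT hm) hx.1, fun v hv v1 => by
        have e : v = m * (m⁻¹ * v * m) * m⁻¹ := by group
        rw [e, show m * x * m⁻¹ * (m * x * m⁻¹) = m * (x * x) * m⁻¹ by group, cjQ]
        exact hx.2 _ (cn' (h.nor hm) hv) fun k => v1 (by rw [e, k]; group)⟩)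
      (fun a ha a' ha' h1 h2 => by
        have h3 := (g2 _ ha.1).1 (ha.2 z h.zV z1)
        have h4 := (g2 _ ha'.1).1 (ha'.2 z h.zV z1)
        rw [← gk ⟨a, ha.1⟩] at h1
        rw [← gk ⟨a', ha'.1⟩] at h2
        refine (gk (⟨a, ha.1⟩ * ⟨a', ha'.1⟩)).1 ?_
        rw [map_mul]
        revert h1 h2 h3 h4
        generalize g ⟨_, ha.1⟩ = a, g ⟨_, ha'.1⟩ = a'
        revert a a'
        decide) (w := x * x) ⟨mul_mem hx hx, fun v hv v1 => by
        obtain ⟨m, hm, rfl⟩ := b.tr v hv v1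
        have t1 := cn' (MT hm) hx
        rw [cjQ', tr, tr, g2 _ (mul_mem t1 t1)]
        change g (⟨_, t1⟩ * ⟨_, t1⟩) * g (⟨_, t1⟩ * ⟨_, t1⟩) = 1
        rw [map_mul]
        generalize g ⟨_, t1⟩ = a
        revert a
        decide⟩ k
    exact ⟨p, hp, q, hq, p1, q1, pq, (e p hp p1).2 (Or.inl rfl), (e q hq q1).2 (Or.inr (Or.inl rfl))⟩
  let Z : Subgroup (O2 M) := (center (QuaternionGroup 2)).comap g
  have mc : ∀ a : QuaternionGroup 2, a ∈ center (QuaternionGroup 2) ↔ a * a = 1 := by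
    simp only [mem_center_iff]; decide
  have cZ : Nat.card (center (QuaternionGroup 2)) = 2 := by
    rw [Nat.card_congr (Equiv.subtypeEquivRight mc), Nat.card_eq_fintype_card]; decide
  have iZ : Z.index = 4 := by
    have := (center (QuaternionGroup 2)).card_mul_index
    rw [cZ, Nat.card_eq_fintype_card, QuaternionGroup.card] at this
    rw [index_comap_of_surjective _ gs]; omega
  have cT := Z.card_mul_index
  have key := Finset.card_mul_le_card_mul (s := Finset.univ.filter (· ∈ O2 M))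
    (t := Finset.univ.filter fun v => v ∈ V ∧ v ≠ 1) (fun x v => x * x ∈ Qz v) (m := 2)
    (n := Nat.card Z) (fun x hx => by
      obtain ⟨p, hp, q, hq, p1, q1, pq, h1, h2⟩ := two x (by simpa using hx)
      rw [← Finset.card_pair pq]
      refine Finset.card_le_card fun v hv => ?_
      rcases Finset.mem_insert.1 hv with rfl | hv
      · simp [hp, p1, h1]
      · rw [Finset.mem_singleton.1 hv]; simp [hq, q1, h2]) (fun v hv => by
      obtain ⟨hv, v1⟩ : v ∈ V ∧ v ≠ 1 := by simpa using hv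
      obtain ⟨m, hm, rfl⟩ := b.tr v hv v1
      rw [← Nat.card_eq_finsetCard]
      refine Nat.card_le_card_of_injective (fun x => (⟨⟨m⁻¹ * x.1 * m, cn' (MT hm) (by
        simpa using (Finset.mem_bipartiteBelow _ |>.1 x.2).1)⟩, ?_⟩ : Z)) fun x x' e => ?_
      · have := (Finset.mem_bipartiteBelow _ |>.1 x.2).2
        rw [cjQ', tr] at this
        exact mem_comap.2 ((mc _).2 ((g2 _ _).1 this))
      · have := congrArg (fun a : Z => (a : G)) e
        exact Subtype.ext (by simpa using this))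
  have c1 : (Finset.univ.filter (· ∈ O2 M)).card = Nat.card (O2 M) := by
    rw [Nat.card_eq_fintype_card, Fintype.card_subtype]
  have c2 : (Finset.univ.filter fun v => v ∈ V ∧ v ≠ 1).card = 7 := by
    have e : (Finset.univ.filter fun v => v ∈ V ∧ v ≠ 1) = (Finset.univ.filter (· ∈ V)).erase 1 := by
      ext v; simp [and_comm]
    have c3 : (Finset.univ.filter (· ∈ V)).card = 8 := by
      rw [← b.card, Nat.card_eq_fintype_card, Fintype.card_subtype]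
    rw [e, Finset.card_erase_of_mem (by simp), c3]
  have := Nat.card_pos (α := Z)
  rw [c1, c2] at key
  rw [iZ] at cT
  omega

end Cfsg.Lib.K7
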