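import Cfsg.Agent.K7.Loc2
import Cfsg.Agent.P8.BasJ
import Cfsg.Agent.S0200

/-!
# The case `L₃(2)`: commutators with a central involution
-/

set_option autoImplicit false
set_option linter.unusedVariables false
set_option linter.unusedSectionVars false

namespace Cfsg.Lib.K7

open Cfsg Subgroup Cfsg.Lib.Trans Cfsg.Lib.Gold
open Cfsg.Lib.P8 (L32 V3 O2 Om Jt Phi EA SR4 Ch E9 Pj Ty Sec SecOK Mx Crd)
open scoped commutatorElement

universe u

namespace Zb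

variable {G : Type u} [Group G] [Finite G]

theorem conj {H : Subgroup G} {g a : G} (hg : g ∈ Ns H) (ha : a ∈ H) : g * a * g⁻¹ ∈ H :=
  (mem_normalizer_iff.1 hg a).1 ha

theorem odd_mem {H : Subgroup G} {d : G} (ho : Odd (orderOf d)) (h : d⁻¹ * d⁻¹ ∈ H) : d ∈ H := by
  obtain ⟨k, hk⟩ := ho
  have e : d = (d⁻¹ * d⁻¹) ^ k := by
    rw [← pow_two, ← pow_mul, inv_pow, eq_inv_iff_mul_eq_one, ← pow_succ', ← hk, pow_orderOf_eq_one]
  rw [e]
  exact pow_mem h k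

theorem one_of {H : Subgroup G} (hH : IsPGroup 2 H) {d : G} (ho : Odd (orderOf d)) (h : d ∈ H) :
    d = 1 := by
  obtain ⟨k, hk⟩ := hH ⟨d, h⟩
  have e : d ^ 2 ^ k = 1 := congrArg Subtype.val hk
  exact orderOf_eq_one_iff.1 (Nat.Coprime.eq_one_of_dvd
    (Nat.Coprime.pow_right k (Nat.coprime_two_right.2 ho)) (orderOf_dvd_of_pow_eq_one e))

end Zb

theorem zb (hLb : StLb.{u}) : StZb.{u} := by
  intro G _ _ M S V π c z y w x t hL hB hU hT w1 w2 hSw xM ox xw ht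
  have o2 := fun N : Subgroup G => P8.pf_BasJ.o2 N
  have ow : orderOf w = 2 := orderOf_eq_prime (by rw [pow_two, w2]) w1
  have TS : O2 M ≤ S := hB.TQ.trans hB.QS
  have xT : x ∈ Ns (O2 M) := (o2 M).2.2.1 (le_normalizer xM)
  have ne : O2 (C1 w) ≠ ⊥ := fun e => by
    have : zpowers w ≤ O2 (C1 w) := (o2 _).2.2.2.1 _ (zpowers_le.2 (mem_C1.2 rfl))
      (IsPGroup.of_card (n := 1) (by rw [Nat.card_zpowers, ow, pow_one])) (fun g hg =>
        mem_normalizer_iff.2 fun a => by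
          have k : ∀ g ∈ C1 w, ∀ a ∈ zpowers w, g * a * g⁻¹ = a := fun g hg a ha => by
            obtain ⟨n, rfl⟩ := mem_zpowers_iff.1 ha
            rw [(Commute.zpow_right (mem_C1.1 hg) n).eq, mul_inv_cancel_right]
          refine ⟨fun ha => by rwa [k g hg a ha], fun ha => ?_⟩
          have := k g⁻¹ (inv_mem hg) _ ha
          rw [show g⁻¹ * (g * a * g⁻¹) * g⁻¹⁻¹ = a by group] at this
          rwa [this])
    exact w1 (mem_bot.1 (e ▸ this (mem_zpowers w)))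
  have n7 : ¬ 7 ∣ Nat.card (C1 w) := fun h => by
    have : Fact (Nat.Prime 7) := ⟨by norm_num⟩
    obtain ⟨a, ha⟩ := exists_prime_orderOf_dvd_card' 7 h
    have oa : orderOf (a : G) = 7 := by rw [orderOf_coe, ha]
    have : w ∈ zpowers (a : G) := hL.gl.cp _ oa ▸ mem_C1.2 (mem_C1.1 a.2).symm
    have := orderOf_dvd_of_mem_zpowers this
    rw [ow, oa] at this
    exact absurd this (by norm_num)
  have sv := hB.sv _ hSw ne n7
  have OS : O2 (C1 w) ≤ S := (o2 _).2.2.2.2 S (hL.syl.mono hSw le_top)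
  have xO : x ∈ Ns (O2 (C1 w)) := (o2 _).2.2.1 (le_normalizer xw)
  have RS : O2 M ⊔ O2 (C1 w) ≤ S := sup_le TS OS
  have cT : ⁅O2 M, zpowers x⁆ ≤ O2 M := commutator_le.2 fun a ha g hg => by
    rw [commutatorElement_def, show a * g * a⁻¹ * g⁻¹ = a * (g * a⁻¹ * g⁻¹) by group]
    exact mul_mem ha (Zb.conj (zpowers_le.2 xT hg) (inv_mem ha))
  have sqT : ∀ a ∈ O2 M, a * a = 1 := fun a ha => by
    rw [← pow_two]
    exact hT.2 a ha
  have tO : t ∈ O2 (C1 w) := by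
    rcases hLb G (C1 w) _ x sv xw ox (hB.nc x xM ox _ ne xw) le_sup_right (RS.trans hSw)
      (hL.syl.isPGroup.to_le RS) (mem_Ns_sup xT xO) with h | h | ⟨f, f1, f2⟩
    · exact h (mem_sup_left (cT ht))
    · refine commutator_le.2 (fun a ha g hg => ?_) ht
      have h1 : g * a⁻¹ * g⁻¹ ∈ O2 M := Zb.conj (zpowers_le.2 xT hg) (inv_mem ha)
      have := (mul_mem_iff_of_index_two h (a := ⟨a, mem_sup_left ha⟩)
        (b := ⟨_, mem_sup_left h1⟩)).2 (by
          simp only [mem_subgroupOf]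
          rw [← mem_normalizer_iff.1 (zpowers_le.2 xO hg), inv_mem_iff])
      rw [commutatorElement_def, show a * g * a⁻¹ * g⁻¹ = a * (g * a⁻¹ * g⁻¹) by group]
      exact this
    · exfalso
      have e : ((O2 M).subgroupOf (O2 M ⊔ O2 (C1 w))).map f = ⊤ := by
        have e1 := congrArg (Subgroup.map f)
          (subgroupOf_sup (le_sup_left : O2 M ≤ O2 M ⊔ O2 (C1 w)) le_sup_right)
        rw [subgroupOf_self, map_top_of_surjective f f1, Subgroup.map_sup, ← f2,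
          (Subgroup.map_eq_bot_iff _).2 le_rfl, sup_bot_eq] at e1
        exact e1.symm
      obtain ⟨a, ha, e1⟩ : QuaternionGroup.a 1 ∈ ((O2 M).subgroupOf (O2 M ⊔ O2 (C1 w))).map f :=
        e ▸ mem_top _
      have e2 : a * a = 1 := Subtype.ext (sqT a ha)
      have := congrArg f e2
      rw [map_mul, map_one, e1] at this
      exact absurd this (by decide)
  by_contra tQ
  have tT := cT ht
  have tC : t ∈ C1 z := hB.zS (TS tT)
  have t1 : t ≠ 1 := fun e => tQ (e ▸ one_mem _)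
  obtain ⟨d, d1, od, hd⟩ := Cfsg.Agent.S0200.result (⟨t, tC⟩ : C1 z)
    (orderOf_eq_prime (Subtype.ext (by simpa [pow_two] using sqT t tT))
      (fun e => t1 (congrArg Subtype.val e))) (fun N hN h2 h => tQ ((o2 _).2.2.2.1
        (N.map (C1 z).subtype) (map_subtype_le N) (h2.map _) (fun g hg =>
          mem_normalizer_iff.2 fun a => ⟨by
            rintro ⟨b, hb, rfl⟩
            exact ⟨_, hN.conj_mem b hb ⟨g, hg⟩, rfl⟩, by
            rintro ⟨b, hb, e⟩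
            refine ⟨_, hN.conj_mem b hb ⟨g, hg⟩⁻¹, ?_⟩
            change g⁻¹ * (b : G) * g⁻¹⁻¹ = a
            rw [show (b : G) = g * a * g⁻¹ from e]
            group⟩) ⟨_, h, rfl⟩))
  have od' : Odd (orderOf (d : G)) := by rwa [orderOf_coe]
  have hd' : t * ((d : G) * t⁻¹ * (d : G)⁻¹) = (d : G)⁻¹ * (d : G)⁻¹ := by
    have : t * (d : G) * t⁻¹ = (d : G)⁻¹ := congrArg Subtype.val hd
    rw [← this]
    group
  have lQ := P8.pf_BasJ.leT (Qz z)
  have QS : Qz z ≤ S := hU.QQ.trans hB.QS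
  have zS : z ∈ S := TS ((P8.pf_BasJ.leT (O2 M)).2.2.1 (hL.leV hL.zV))
  have wQ : w ∈ Qz z := hU.svC.ch ⟨mem_C1.2 (mem_C1.1 (hSw zS)).symm,
    mem_Cs.2 fun q hq => mem_C1.1 (hSw (QS hq))⟩
  have wZ : w ∈ Om (Qz z) := lQ.2.2.2.2.2.2 w wQ (QS.trans hSw) w2
  have ZT : Om (Qz z) ≤ O2 M := hB.cV ▸
    le_Cs_comm.1 ((hU.VU.trans hU.sec.leQ).trans lQ.2.2.2.2.2.1)
  have tZ : t ∈ Cs (Om (Qz z)) := mem_Cs.2 fun a ha =>
    congrArg Subtype.val (hT.1.1.1 ⟨a, ZT ha⟩ ⟨t, tT⟩)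
  have dZ : (d : G) ∈ Ns (Om (Qz z)) := lQ.2.2.2.1 ((o2 _).2.2.1 (le_normalizer d.2))
  have dK : (d : G) ∈ Cs (Om (Qz z)) := Zb.odd_mem od' (hd' ▸ mul_mem tZ (mem_Cs.2 fun a ha => by
    have := mem_Cs.1 (inv_mem tZ) _ (Zb.conj (inv_mem dZ) ha)
    calc _ = d * ((d : G)⁻¹ * a * (d : G)⁻¹⁻¹ * t⁻¹) * (d : G)⁻¹ := by group
      _ = _ := by rw [this]; group))
  have dw : (d : G) ∈ C1 w := Cs_le_C1 wZ dK
  have dO : (d : G) ∈ O2 (C1 w) := Zb.odd_mem od'
    (hd' ▸ mul_mem tO (Zb.conj ((o2 _).2.2.1 (le_normalizer dw)) (inv_mem tO)))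
  exact d1 (Subtype.ext (Zb.one_of (o2 _).2.1 od' dO))

end Cfsg.Lib.K7
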