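import Cfsg.Agent.K7.NDefs
import Cfsg.Agent.P8.PjB

/-!
# Pushing up `L₃(2)` with a fixed point free element of order seven: the norm conditions
-/

set_option autoImplicit false

namespace Cfsg.Lib.K7.N3

open Cfsg Subgroup Cfsg.Lib.Trans Cfsg.Lib.Gold Matrix
open Cfsg.Lib.P8 (L32 V3 O2 Om Jt Phi EA Pj Ty Mx Crd)
open scoped commutatorElement

universe u

variable {G : Type u} [Group G] [Finite G] {M T R Y : Subgroup G} {ρ : G → L32} {κ : G → V3} {u : G}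

namespace N3D

theorem dot (A : L32) (v : V3) : ph A ⬝ᵥ (A.1 *ᵥ v) = v 2 := by
  have e : (A⁻¹).1 * A.1 = 1 := by
    rw [← Matrix.SpecialLinearGroup.coe_mul, inv_mul_cancel, Matrix.SpecialLinearGroup.coe_one]
  unfold ph e2
  rw [Matrix.dotProduct_mulVec, Matrix.vecMul_vecMul, e, Matrix.vecMul_one]
  simp [dotProduct, Fin.sum_univ_three]

theorem tele (fp : Fp M T) {U : Subgroup G} (UT : U ≤ T) {Φ : G → V3}
    (add : ∀ a ∈ U, ∀ b ∈ U, Φ (a * b) = Φ a + Φ b) {σ : G} (hσ : σ ∈ M) (o : orderOf σ = 7)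
    (hU : ∀ a ∈ U, σ * a * σ⁻¹ ∈ U) {e : G} (he : e ∈ U) :
    ∑ i ∈ Finset.range 7, Φ (σ ^ i * e * (σ ^ i)⁻¹) = 0 := by
  have inj : Function.Injective fun a : U =>
      (⟨σ * a * σ⁻¹ * (a : G)⁻¹, mul_mem (hU a a.2) (inv_mem a.2)⟩ : U) := fun a b k => by
    have k' : σ * a * σ⁻¹ * (a : G)⁻¹ = σ * b * σ⁻¹ * (b : G)⁻¹ := congrArg Subtype.val k
    have := fp σ hσ o ((b : G)⁻¹ * a) (UT (mul_mem (inv_mem b.2) a.2)) (by
      calc σ * ((b : G)⁻¹ * a) = σ * (b : G)⁻¹ * σ⁻¹ * (σ * a * σ⁻¹ * (a : G)⁻¹) * a * σ := by group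
        _ = _ := by rw [k']; group)
    exact Subtype.ext (inv_mul_eq_one.1 this).symm
  obtain ⟨⟨a, ha⟩, k⟩ := Finite.surjective_of_injective inj ⟨e, he⟩
  have k' : σ * a * σ⁻¹ * a⁻¹ = e := congrArg Subtype.val k
  have pw : ∀ i : ℕ, ∀ b ∈ U, σ ^ i * b * (σ ^ i)⁻¹ ∈ U := fun i b hb => by
    induction i with
    | zero => simpa using hb
    | succ i ih =>
      have := hU _ ih
      rwa [show σ * (σ ^ i * b * (σ ^ i)⁻¹) * σ⁻¹ = σ ^ (i + 1) * b * (σ ^ (i + 1))⁻¹ by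
        rw [pow_succ']; group] at this
  have st : ∀ i : ℕ, Φ (σ ^ i * e * (σ ^ i)⁻¹) =
      Φ (σ ^ (i + 1) * a * (σ ^ (i + 1))⁻¹) - Φ (σ ^ i * a * (σ ^ i)⁻¹) := fun i => by
    rw [eq_sub_iff_add_eq, ← add _ (pw i e he) _ (pw i a ha), ← k', pow_succ]
    congr 1
    group
  rw [Finset.sum_congr rfl fun i _ => st i,
    Finset.sum_range_sub fun i => Φ (σ ^ i * a * (σ ^ i)⁻¹), ← o, pow_orderOf_eq_one, pow_zero, sub_self]

omit [Finite G] in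
theorem key (h : PD M T R Y ρ κ u) {e m t : G} (he : ∀ t ∈ R, ⁅e, t⁆ ∈ Y) (hm : m ∈ M) (ht : t ∈ R) :
    ⁅m * e * m⁻¹, t⁆ ∈ Y ∧ κ ⁅m * e * m⁻¹, t⁆ = (ρ m).1 *ᵥ κ ⁅e, m⁻¹ * t * m⁆ ∧ m⁻¹ * t * m ∈ R := by
  have t' : m⁻¹ * t * m ∈ R := by
    have := (mem_normalizer_iff.1 (h.nR (inv_mem hm)) t).1 ht
    rwa [inv_inv] at this
  have e1 : ⁅m * e * m⁻¹, t⁆ = m * ⁅e, m⁻¹ * t * m⁆ * m⁻¹ := by
    simp only [commutatorElement_def]; group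
  rw [e1]
  exact ⟨(mem_normalizer_iff.1 (h.nY hm) _).1 (he _ t'), h.eqv m hm _ (he _ t'), t'⟩

omit [Finite G] in
theorem triv (h : PD M T R Y ρ κ u) {a y : G} (ha : a ∈ T) (hy : y ∈ Y) :
    a * y * a⁻¹ ∈ Y ∧ κ (a * y * a⁻¹) = κ y := by
  have aM := h.pj.le ha
  refine ⟨(mem_normalizer_iff.1 (h.nY aM) _).1 hy, ?_⟩
  rw [h.eqv a aM y hy, (h.pj.ker a aM).2 ha, Matrix.SpecialLinearGroup.coe_one, Matrix.one_mulVec]

omit [Finite G] in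
theorem wd (h : PD M T R Y ρ κ u) {m m' t : G} (hm : m ∈ M) (hm' : m' ∈ M) (ht : t ∈ R) {B : L32}
    (hB : up B) (e : ρ m' = ρ m * B) : κ ⁅m' * u * m'⁻¹, t⁆ = κ ⁅m * u * m⁻¹, t⁆ := by
  have sM : m⁻¹ * m' ∈ M := mul_mem (inv_mem hm) hm'
  have es : ρ (m⁻¹ * m') = B := by
    rw [h.pj.mul _ (inv_mem hm) _ hm', P8.PjBH.inv h.pj hm, e, inv_mul_cancel_left]
  obtain ⟨-, k1, t'⟩ := key h h.cm hm ht
  obtain ⟨-, k2, -⟩ := key h (e := m⁻¹ * m' * u * (m⁻¹ * m')⁻¹)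
    (fun t ht => (key h h.cm sM ht).1) hm ht
  rw [k1, ← h.inv _ sM (es ▸ hB) _ t', ← k2]
  congr 2
  group

/-- The elements of `T` pairing `R` into `Y`. -/
def UU' (h : PD M T R Y ρ κ u) : Subgroup G where
  carrier := {e | e ∈ T ∧ ∀ t ∈ R, ⁅e, t⁆ ∈ Y}
  one_mem' := ⟨one_mem T, fun t _ => by rw [commutatorElement_one_left]; exact one_mem Y⟩
  mul_mem' := fun {a b} ha hb => ⟨mul_mem ha.1 hb.1, fun t ht => by
    rw [show ⁅a * b, t⁆ = a * ⁅b, t⁆ * a⁻¹ * ⁅a, t⁆ by simp only [commutatorElement_def]; group]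
    exact mul_mem (triv h ha.1 (hb.2 t ht)).1 (ha.2 t ht)⟩
  inv_mem' := fun {a} ha => ⟨inv_mem ha.1, fun t ht => by
    rw [show ⁅a⁻¹, t⁆ = a⁻¹ * ⁅a, t⁆⁻¹ * a⁻¹⁻¹ by simp only [commutatorElement_def]; group]
    exact (triv h (inv_mem ha.1) (inv_mem (ha.2 t ht))).1⟩

omit [Finite G] in
theorem lf (h : Pj M T ρ) {A : L32} (o : orderOf A = 7) : ∃ σ ∈ M, ρ σ = A ∧ orderOf σ = 7 := by
  obtain ⟨a, ha, rfl⟩ := h.sur A
  obtain ⟨b, hb, e, ob⟩ := P8.PjBH.odd h a ha (by rw [o]; decide)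
  exact ⟨b, zpowers_le.2 ha hb, e, ob.trans o⟩

end N3D

theorem PD.cd (h : PD M T R Y ρ κ u) {t : G} (ht : t ∈ R) :
    ∃ f : L32 → V3, Cd f ∧ ∀ m ∈ M, ⁅m * u * m⁻¹, t⁆ ∈ Y ∧ κ ⁅m * u * m⁻¹, t⁆ = f (ρ m) := by
  choose s sM es using h.pj.sur
  have up1 : up 1 := ⟨rfl, rfl, rfl⟩
  have w : ∀ m ∈ M, κ ⁅m * u * m⁻¹, t⁆ = κ ⁅s (ρ m) * u * (s (ρ m))⁻¹, t⁆ := fun m hm =>
    N3D.wd h (sM _) hm ht up1 (by rw [es, mul_one])
  refine ⟨fun A => κ ⁅s A * u * (s A)⁻¹, t⁆, ⟨fun A B hB => ?_, fun A => ?_, fun Z A o => ?_,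
    fun Z A o => ?_⟩, fun m hm => ⟨(N3D.key h h.cm hm ht).1, w m hm⟩⟩
  · exact N3D.wd h (sM _) (sM _) ht hB (by rw [es, es])
  · obtain ⟨-, k, t'⟩ := N3D.key h h.cm (sM A) ht
    rw [k, es, N3D.dot, h.c2 _ t']
  · obtain ⟨σ, hσ, rfl, oσ⟩ := N3D.lf h.pj o
    have k := N3D.tele h.fp (U := N3D.UU' h) (fun a ha => ha.1) (Φ := fun a => κ ⁅a, t⁆)
      (fun a ha b hb => by
        rw [show ⁅a * b, t⁆ = a * ⁅b, t⁆ * a⁻¹ * ⁅a, t⁆ by simp only [commutatorElement_def]; group,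
          h.add _ (N3D.triv h ha.1 (hb.2 t ht)).1 _ (ha.2 t ht), (N3D.triv h ha.1 (hb.2 t ht)).2,
          add_comm]) hσ oσ
      (fun a ha => ⟨(mem_normalizer_iff.1 (h.nT hσ) a).1 ha.1, fun t ht => (N3D.key h ha.2 hσ ht).1⟩)
      (e := s A * u * (s A)⁻¹) ⟨(mem_normalizer_iff.1 (h.nT (sM A)) u).1 h.uT,
        fun t ht => (N3D.key h h.cm (sM A) ht).1⟩
    rw [← k]
    refine Finset.sum_congr rfl fun i _ => ?_
    have m : σ ^ i * s A ∈ M := mul_mem (pow_mem hσ i) (sM A)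
    have e := w _ m
    rw [h.pj.mul _ (pow_mem hσ i) _ (sM A), P8.PjBH.pow h.pj hσ, es] at e
    rw [← e]
    congr 2
    group
  · obtain ⟨σ, hσ, rfl, oσ⟩ := N3D.lf h.pj o
    have y : ∀ t ∈ R, ⁅s A * u * (s A)⁻¹, t⁆ ∈ Y := fun t ht => (N3D.key h h.cm (sM A) ht).1
    have k := N3D.tele h.fp h.leR (Φ := fun a => κ ⁅s A * u * (s A)⁻¹, a⁆)
      (fun a ha b hb => by
        rw [show ⁅s A * u * (s A)⁻¹, a * b⁆ =
          ⁅s A * u * (s A)⁻¹, a⁆ * (a * ⁅s A * u * (s A)⁻¹, b⁆ * a⁻¹) by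
            simp only [commutatorElement_def]; group,
          h.add _ (y a ha) _ (N3D.triv h (h.leR ha) (y b hb)).1,
          (N3D.triv h (h.leR ha) (y b hb)).2]) hσ oσ
      (fun a ha => (mem_normalizer_iff.1 (h.nR hσ) a).1 ha) ht
    rw [← k]
    refine Finset.sum_congr rfl fun i _ => ?_
    have pM := pow_mem hσ i
    have m : (σ ^ i)⁻¹ * s A ∈ M := mul_mem (inv_mem pM) (sM A)
    have e := w _ m
    rw [h.pj.mul _ (inv_mem pM) _ (sM A), P8.PjBH.inv h.pj pM, P8.PjBH.pow h.pj hσ, es] at e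
    rw [← e, ← P8.PjBH.pow h.pj hσ, ← h.eqv _ pM _ (N3D.key h h.cm m ht).1]
    congr 1
    simp only [commutatorElement_def]
    group

end Cfsg.Lib.K7.N3
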