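import Cfsg.Agent.K7.N3Q
import Cfsg.Agent.K7.N3R
import Cfsg.Agent.K7.N3P
import Cfsg.Agent.K7.N3D

/-! The parameters of the action of an involution on `O₂(M)`. -/

set_option autoImplicit false
set_option linter.unusedSectionVars false

namespace Cfsg.Lib.K7.N3

open Cfsg Subgroup Cfsg.Lib.Trans Cfsg.Lib.Gold Matrix
open Cfsg.Lib.P8 (L32 V3 O2 Om Jt Phi EA Pj Ty Mx Crd)
open scoped commutatorElement

universe u

variable {G : Type u} [Group G] [Finite G] {M T S V : Subgroup G} {π : G → L32} {c : G → V3} {u : G}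

namespace N3A

/-- The value on a flag. -/
def FF (A : L32) (n : V3 → ZMod 2) (τ : V3) : V3 := pr (ind (pt A) (ph A)) n + cx τ (ph A)

theorem FF_eq_1' : type_of% @FF.eq_1 := @FF.eq_1

theorem z2 {ι : Type} {a b : ι → ZMod 2} (h : a + b = 0) : a = b := funext fun i =>
  (by decide : ∀ x y : ZMod 2, x + y = 0 → x = y) _ _ (congrFun h i)

theorem FF_add (A : L32) (n n' : V3 → ZMod 2) (τ τ' : V3) :
    FF A (n + n') (τ + τ') = FF A n τ + FF A n' τ' := by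
  rw [FF, FF, FF, pr_add_r, cx_add_l]; abel

theorem uq {n n' : V3 → ZMod 2} {τ τ' : V3} (hn : Ev n) (hn' : Ev n')
    (h : ∀ A, FF A n τ = FF A n' τ') : n = n' ∧ τ = τ' := by
  obtain ⟨h1, h2⟩ := eU (τ := τ + τ') (hn.add hn') fun A => by
    have := FF_add A n n' τ τ'
    rw [h A] at this
    exact this.trans (funext fun i => (by decide : ∀ x : ZMod 2, x + x = 0) _)
  exact ⟨z2 h1, z2 h2⟩

theorem mv (H : L32) (v : V3) : (H⁻¹).1 *ᵥ (H.1 *ᵥ v) = v := by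
  rw [mulVec_mulVec, ← Matrix.SpecialLinearGroup.coe_mul, inv_mul_cancel]; simp

theorem FF_eqv (H B : L32) (n : V3 → ZMod 2) (τ : V3) :
    FF (H * B) (fun v => n ((H⁻¹).1 *ᵥ v)) (τ ᵥ* (H⁻¹).1) = H.1 *ᵥ FF B n τ := by
  rw [FF, FF, mulVec_add, pr_eqv H (ind (pt B) (ph B)) _ n _ (ind_eqv H B) fun v => by rw [mv],
    ph_mul, cx_eqv]

theorem p1 (h : Pj M T π) : π 1 = 1 := (h.ker 1 (one_mem _)).2 (one_mem _)

theorem pinv (h : Pj M T π) {a : G} (ha : a ∈ M) : π a⁻¹ = (π a)⁻¹ :=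
  eq_inv_of_mul_eq_one_left (by rw [← h.mul _ (inv_mem ha) _ ha, inv_mul_cancel, p1 h])

theorem pd (h : NN M T S V π c) (hu : UU T S V c u) : PD M T T V π c u := by
  have TS : ∀ t ∈ T, t ∈ S := fun t ht => (h.memS t).2 ⟨h.pj.le ht, by
    rw [(h.pj.ker t (h.pj.le ht)).2 ht]; exact ⟨by decide, by decide, by decide⟩⟩
  refine ⟨h.pj, h.nT, h.fp, le_rfl, h.nT, h.leV, h.nV, h.crd.add, h.crd.eqv, hu.uT,
    fun t ht => hu.cS t (TS t ht), hu.c2, fun s hs e t ht => ?_⟩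
  have h1 := h.cV (inv_mem (hu.cS s ((h.memS s).2 ⟨hs, e⟩)))
  have h2 : s * u * s⁻¹ = ⁅u, s⁆⁻¹ * u := by simp only [commutatorElement_def]; group
  rw [h2]
  generalize ⁅u, s⁆⁻¹ = v at h1
  have h3 := mem_centralizer_iff.1 h1 _ (h.leV (hu.cS t (TS t ht)))
  have h4 := mem_centralizer_iff.1 h1 _ ht
  congr 1
  calc ⁅v * u, t⁆ = v * ⁅u, t⁆ * v⁻¹ * (v * t * v⁻¹ * t⁻¹) := by
        simp only [commutatorElement_def]; group
    _ = ⁅u, t⁆ := by rw [← h3, ← h4]; group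

end N3A

open N3A

theorem NN.ua (h : NN M T S V π c) (hu : UU T S V c u) : ∃ ν τ ε, UA M T V π c u ν τ ε := by
  have ex : ∀ t : G, ∃ (n : V3 → ZMod 2) (τ : V3), t ∈ T → Ev n ∧ ∀ m ∈ M,
      ⁅m * u * m⁻¹, t⁆ ∈ V ∧ c ⁅m * u * m⁻¹, t⁆ = FF (π m) n τ := fun t => by
    by_cases ht : t ∈ T
    · obtain ⟨f, hf, h1⟩ := (pd h hu).cd ht
      obtain ⟨n, τ, hn, h2⟩ := eLem hf
      exact ⟨n, τ, fun _ => ⟨hn, fun m hm => ⟨(h1 m hm).1, (h1 m hm).2.trans (h2 _)⟩⟩⟩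
    · exact ⟨0, 0, fun e => absurd e ht⟩
  choose ν τ hν using ex
  have c1 : c 1 = 0 := (h.crd.zero 1 (one_mem _)).2 rfl
  have ad : ∀ a ∈ T, ∀ b ∈ T, ν (a * b) = ν a + ν b ∧ τ (a * b) = τ a + τ b := fun a ha b hb => by
    refine uq (hν _ (mul_mem ha hb)).1 ((hν a ha).1.add (hν b hb).1) fun A => ?_
    obtain ⟨m, hm, rfl⟩ := h.pj.sur A
    obtain ⟨a1, a2⟩ := (hν a ha).2 m hm
    obtain ⟨b1, b2⟩ := (hν b hb).2 m hm
    rw [FF_add, ← ((hν _ (mul_mem ha hb)).2 m hm).2, ← a2, ← b2, ← h.crd.add _ a1 _ b1]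
    have h4 := mem_centralizer_iff.1 (h.cV b1) _ ha
    congr 1
    generalize m * u * m⁻¹ = e at *
    calc ⁅e, a * b⁆ = ⁅e, a⁆ * (a * ⁅e, b⁆) * a⁻¹ := by simp only [commutatorElement_def]; group
      _ = _ := by rw [h4]; group
  have eq : ∀ k ∈ M, ∀ t ∈ T, ν (k * t * k⁻¹) = (fun v => ν t (((π k)⁻¹).1 *ᵥ v)) ∧
      τ (k * t * k⁻¹) = τ t ᵥ* ((π k)⁻¹).1 := fun k hk t ht => by
    have ht' : k * t * k⁻¹ ∈ T := (mem_normalizer_iff.1 (h.nT hk) t).1 ht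
    refine uq (hν _ ht').1 ((hν t ht).1.comp _) fun A => ?_
    obtain ⟨m, hm, rfl⟩ := h.pj.sur ((π k)⁻¹ * A) |>.imp fun m (e : m ∈ M ∧ _) =>
      (⟨e.1, by rw [e.2, mul_inv_cancel_left]⟩ : m ∈ M ∧ π k * π m = A)
    obtain ⟨a1, a2⟩ := (hν t ht).2 m hm
    rw [FF_eqv, ← a2, ← h.crd.eqv k hk _ a1, ← h.pj.mul k hk m hm,
      ← ((hν _ ht').2 _ (mul_mem hk hm)).2]
    congr 1
    simp only [commutatorElement_def]; group
  obtain ⟨n0, ε, t0⟩ := eSym (n := ν u) (τ := τ u) (hν u hu.uT).1 (by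
    have := ((hν u hu.uT).2 1 (one_mem _)).2
    rw [p1 h.pj, FF, pt_one, ph_one] at this
    rw [← this]; simpa using c1) fun A => by
      obtain ⟨m, hm, rfl⟩ := h.pj.sur A
      obtain ⟨a1, a2⟩ := (hν u hu.uT).2 m⁻¹ (inv_mem hm)
      have a3 : c ⁅m⁻¹ * u * m⁻¹⁻¹, u⁆⁻¹ = c ⁅m⁻¹ * u * m⁻¹⁻¹, u⁆ :=
        z2 (by rw [← h.crd.add _ (inv_mem a1) _ a1, inv_mul_cancel, c1])
      rw [pinv h.pj hm] at a2
      change FF (π m) (ν u) (τ u) = (π m).1 *ᵥ FF (π m)⁻¹ (ν u) (τ u)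
      rw [← a2, ← a3, ← h.crd.eqv m hm _ (inv_mem a1), ← ((hν u hu.uT).2 m hm).2]
      congr 1
      simp only [commutatorElement_def]; group
  refine ⟨ν, τ, ε, fun a ha b hb => (ad a ha b hb).2, fun k hk t ht => (eq k hk t ht).2,
    fun a ha b hb => (ad a ha b hb).1, fun t ht => (hν t ht).1, fun k hk t ht v => ?_,
    fun m hm t ht => (hν t ht).2 m hm, fun m hm => ?_, fun m hm => ?_⟩
  · rw [(eq k hk t ht).1]; simp only [mv]
  · rw [(eq m hm u hu.uT).1, n0]; rfl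
  · rw [(eq m hm u hu.uT).2, t0, smul_vecMul]; rfl

end Cfsg.Lib.K7.N3
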