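import Cfsg.Agent.K7.LocB
import Cfsg.Agent.K35.Bd

/-!
# The linear configuration: the 2-core and the elements of order three
-/

set_option autoImplicit false

namespace Cfsg.Lib.K7

open Cfsg Subgroup Cfsg.Lib.Trans Cfsg.Lib.Gold
open Cfsg.Lib.P8 (L32 V3 O2 Om Jt Phi EA SR4 Ch E9 Pj Ty Sec SecOK Mx Crd)
open scoped commutatorElement

universe u

namespace NSG2

variable {G : Type u} [Group G]

/-- The elements of `A` whose commutators with `B` lie in `D`. -/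
def cm (A : Subgroup G) (B : Set G) (D : Subgroup G) (h : A ≤ Ns D) : Subgroup G where
  carrier := {a | a ∈ A ∧ ∀ b ∈ B, ⁅a, b⁆ ∈ D}
  one_mem' := ⟨one_mem _, fun b _ => by rw [commutatorElement_one_left]; exact one_mem _⟩
  mul_mem' {a a'} ha ha' := ⟨mul_mem ha.1 ha'.1, fun b hb => by
    rw [show ⁅a * a', b⁆ = a * ⁅a', b⁆ * a⁻¹ * ⁅a, b⁆ by simp [commutatorElement_def, mul_assoc]]
    exact mul_mem (mem_normalizer_conj (h ha.1) (ha'.2 b hb)) (ha.2 b hb)⟩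
  inv_mem' {a} ha := ⟨inv_mem ha.1, fun b hb => by
    rw [show ⁅a⁻¹, b⁆ = a⁻¹ * ⁅a, b⁆⁻¹ * a⁻¹⁻¹ by simp [commutatorElement_def, mul_assoc]]
    exact mem_normalizer_conj (h (inv_mem ha.1)) (inv_mem (ha.2 b hb))⟩

theorem cm_eq_1' : type_of% @cm.eq_1.{u} := @cm.eq_1.{u}

theorem mem_cm {A D : Subgroup G} {B : Set G} {h : A ≤ Ns D} {a : G} :
    a ∈ cm A B D h ↔ a ∈ A ∧ ∀ b ∈ B, ⁅a, b⁆ ∈ D := Iff.rfl

theorem flip {D : Subgroup G} {a b : G} (h : ⁅a, b⁆ ∈ D) : ⁅b, a⁆ ∈ D := by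
  rw [← commutatorElement_inv]
  exact inv_mem h

theorem sq3 {N : Subgroup G} {x t : G} (o : orderOf x = 3) (h1 : t * x * t⁻¹ * x ∈ N)
    (h2 : t * (x * t⁻¹ * x⁻¹) ∈ N) : x ∈ N := by
  have h3 : x * x ∈ N := by simpa [mul_assoc] using mul_mem (inv_mem h2) h1
  have x3 : x ^ 3 = 1 := o ▸ pow_orderOf_eq_one x
  have := mul_mem h3 h3
  rwa [show x * x * (x * x) = x ^ 3 * x by rw [pow_three']; group, x3, one_mul] at this

variable [Finite G]

theorem nor_cm {A B D : Subgroup G} (h : A ≤ Ns D) {y : G} (h1 : y ∈ Ns A) (h2 : y ∈ Ns B)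
    (h3 : y ∈ Ns D) : y ∈ Ns (cm A B D h) :=
  mem_normalizer_fintype fun a ha => ⟨mem_normalizer_conj h1 ha.1, fun b hb => by
    rw [show ⁅y * a * y⁻¹, b⁆ = y * ⁅a, y⁻¹ * b * y⁻¹⁻¹⁆ * y⁻¹ by simp [commutatorElement_def, mul_assoc]]
    exact mem_normalizer_conj h3 (ha.2 _ (mem_normalizer_conj (inv_mem h2) hb))⟩

theorem two {Z C : Subgroup G} (le : Z ≤ C) (cZ : Nat.card Z = 2) (cC : Nat.card C ≤ 4) {a b : G}
    (ha : a ∈ C) (hb : b ∈ C) (na : a ∉ Z) (nb : b ∉ Z) : a * b ∈ Z := by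
  have e := card_mul_relIndex le
  have n1 : Z.relIndex C ≠ 1 := fun k => na (relIndex_eq_one.1 k ha)
  have n0 := (Nat.card_pos (α := C))
  have i : (Z.subgroupOf C).index = 2 := by
    change Z.relIndex C = 2
    rw [cZ] at e
    omega
  exact (mul_mem_iff_of_index_two i (a := ⟨a, ha⟩) (b := ⟨b, hb⟩)).2 (iff_of_false na nb)

theorem idx2 {A Z C : Subgroup G} (h : A ≤ Ns Z) (le : Z ≤ C) (cZ : Nat.card Z = 2)
    (cC : Nat.card C ≤ 4) {b : G} (hb : ∀ a ∈ A, ⁅a, b⁆ ∈ C) : (cm A {b} Z h).relIndex A ≤ 2 := by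
  classical
  refine (Nat.card_le_card_of_injective
    (fun q : A ⧸ (cm A {b} Z h).subgroupOf A => decide (⁅(q.out : G), b⁆ ∈ Z)) fun p q e => ?_).trans
    (by simp)
  simp only [decide_eq_decide] at e
  rw [← p.out_eq', ← q.out_eq', QuotientGroup.eq]
  refine ⟨mul_mem (inv_mem p.out.2) q.out.2, ?_⟩
  intro c hc
  rw [show c = b from hc]
  change ⁅(p.out : G)⁻¹ * q.out, b⁆ ∈ Z
  generalize p.out = a at e ⊢
  generalize q.out = a' at e ⊢
  rw [show ∀ c : G, ⁅(a : G)⁻¹ * a', c⁆ = (a : G)⁻¹ * (⁅(a' : G), c⁆ * ⁅(a : G), c⁆⁻¹) * (a : G)⁻¹⁻¹ from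
    fun c => by simp [commutatorElement_def, mul_assoc]]
  refine mem_normalizer_conj (h (inv_mem a.2)) ?_
  by_cases k : ⁅(a : G), b⁆ ∈ Z
  · exact mul_mem (e.1 k) (inv_mem k)
  · exact two le cZ cC (hb _ a'.2) (inv_mem (hb _ a.2)) (fun k' => k (e.2 k')) fun k' => k (inv_mem_iff.1 k')

theorem gen2 {A B : Subgroup G} (le : A ≤ B) (h : A.relIndex B ≤ 4) :
    ∃ b₁ ∈ B, ∃ b₂ ∈ B, B ≤ A ⊔ zpowers b₁ ⊔ zpowers b₂ := by
  by_cases k : B ≤ A
  · exact ⟨1, one_mem _, 1, one_mem _, k.trans (le_sup_left.trans le_sup_left)⟩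
  obtain ⟨b₁, m1, n1⟩ := SetLike.not_le_iff_exists.1 k
  by_cases k' : B ≤ A ⊔ zpowers b₁
  · exact ⟨b₁, m1, 1, one_mem _, k'.trans le_sup_left⟩
  obtain ⟨b₂, m2, n2⟩ := SetLike.not_le_iff_exists.1 k'
  refine ⟨b₁, m1, b₂, m2, relIndex_eq_one.1 ?_⟩
  have l2 : A ⊔ zpowers b₁ ⊔ zpowers b₂ ≤ B := sup_le (sup_le le (zpowers_le.2 m1)) (zpowers_le.2 m2)
  have e1 := relIndex_mul_relIndex _ _ _ (le_sup_left : A ≤ A ⊔ zpowers b₁)
    (le_sup_left : A ⊔ zpowers b₁ ≤ A ⊔ zpowers b₁ ⊔ zpowers b₂)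
  have e2 := relIndex_mul_relIndex _ _ _
    (le_sup_left.trans le_sup_left : A ≤ A ⊔ zpowers b₁ ⊔ zpowers b₂) l2
  have a1 : A.relIndex (A ⊔ zpowers b₁) ≠ 1 := fun e =>
    n1 (relIndex_eq_one.1 e (mem_sup_right (mem_zpowers _)))
  have a2 : (A ⊔ zpowers b₁).relIndex (A ⊔ zpowers b₁ ⊔ zpowers b₂) ≠ 1 := fun e =>
    n2 (relIndex_eq_one.1 e (mem_sup_right (mem_zpowers _)))
  have z : ∀ H K : Subgroup G, H.relIndex K ≠ 0 := fun H K => index_ne_zero_of_finite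
  have z1 := z A (A ⊔ zpowers b₁)
  have z2 := z (A ⊔ zpowers b₁) (A ⊔ zpowers b₁ ⊔ zpowers b₂)
  have z3 := z (A ⊔ zpowers b₁ ⊔ zpowers b₂) B
  rw [← e2, ← e1] at h
  generalize A.relIndex (A ⊔ zpowers b₁) = i at *
  generalize (A ⊔ zpowers b₁).relIndex (A ⊔ zpowers b₁ ⊔ zpowers b₂) = j at *
  generalize (A ⊔ zpowers b₁ ⊔ zpowers b₂).relIndex B = l at *
  by_contra k
  have : 2 * 2 * 2 ≤ i * j * l := Nat.mul_le_mul (Nat.mul_le_mul (by omega) (by omega)) (by omega)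
  omega

variable {Y K U V V' : Subgroup G} {z x x' t s : G}

omit [Finite G] in
theorem symm (h : LG Y K U V V' z x x' t s) : LG Y K U V' V z x' x s t :=
  { h with
    a := h.b
    b := h.a
    cap := inf_comm V V' ▸ h.cap
    gen := h.gen.trans (sup_le_sup_left (Subgroup.closure_mono (by
      rintro _ (rfl | rfl | rfl | rfl) <;> simp)) _)
    min := fun U₁ h1 h2 => h.min U₁ h2 h1
    two := by rw [inf_right_comm]; exact h.two }

omit [Finite G] in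
theorem ucm (h : LG Y K U V V' z x x' t s) {a b : G} (ha : a ∈ U) (hb : b ∈ U) : a * b = b * a :=
  congrArg Subtype.val (h.ea.1.is_comm.comm (⟨a, ha⟩ : U) ⟨b, hb⟩)

theorem unor (h : LG Y K U V V' z x x' t s) {D : Subgroup G} (hD : D ≤ U) : U ≤ Ns D := fun u hu =>
  mem_normalizer_fintype fun d hd => by rwa [ucm h hu (hD hd), mul_inv_cancel_right]

omit [Finite G] in
theorem ynor (h : LG Y K U V V' z x x' t s) : Y ≤ Ns (zpowers z) := fun y hy =>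
  Cs_le_Ns (by rw [Cs_zpowers]; exact h.Yz hy)

omit [Finite G] in
theorem cz (h : LG Y K U V V' z x x' t s) : Nat.card (zpowers z) = 2 := by rw [Nat.card_zpowers, h.oz]

theorem inV (h : LG Y K U V V' z x x' t s) {o : G} (ho : ∀ v ∈ V, ⁅v, o⁆ ∈ zpowers z) : o ∈ Ns V :=
  mem_normalizer_fintype fun v hv => by
    simpa [commutatorElement_def, mul_assoc] using mul_mem (zpowers_le.2 h.a.zV (flip (ho v hv))) hv

theorem lemA (h : LG Y K U V V' z x x' t s)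
    (cx : ∀ C : Subgroup G, C ≤ U → (∀ c ∈ C, ⁅c, x'⁆ ∈ zpowers z) → Nat.card C ≤ 4) {C : Subgroup G}
    (le : C ≤ U) (n : Y ≤ Ns C) (zC : zpowers z ≤ C) : V ≤ C ∨ Nat.card C ≤ 4 := by
  have zV := zpowers_le.2 h.a.zV
  by_cases k : C ⊓ V ≤ zpowers z
  · have nN : Y ≤ Ns (cm Y C (zpowers z) (ynor h)) := fun y hy =>
      nor_cm _ (le_normalizer hy) (n hy) (ynor h hy)
    have KN : K ≤ cm Y C (zpowers z) (ynor h) := fun k hk =>
      ⟨h.KY hk, fun c hc => flip (h.UK c (le hc) k hk)⟩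
    have tN : t ∈ cm Y C (zpowers z) (ynor h) := ⟨h.a.tY, fun c hc => flip (k ⟨by
      rw [commutatorElement_def, mul_assoc, mul_assoc, ← mul_assoc t]
      exact mul_mem hc (mem_normalizer_conj (n h.a.tY) (inv_mem hc)), h.a.tU c (le hc)⟩)⟩
    have := sq3 h.b.ox (KN h.b.sx) (mul_mem tN (mem_normalizer_conj (nN h.b.xY) (inv_mem tN)))
    exact .inr (cx C le fun c hc => flip (this.2 c hc))
  · obtain ⟨v, hv, nv⟩ := SetLike.not_le_iff_exists.1 k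
    refine .inl (by_contra fun nl => nv (h.a.xfp v hv.2 ?_))
    have d := card_dvd_of_le (inf_le_right : C ⊓ V ≤ V)
    have ne : Nat.card ↥(C ⊓ V) ≠ 8 := fun e =>
      nl ((eq_of_le_of_card_ge (inf_le_right : C ⊓ V ≤ V) (by rw [e, h.a.card])).ge.trans inf_le_left)
    rw [h.a.card] at d
    have c4 : Nat.card ↥(C ⊓ V) ≤ 4 := by
      have := Nat.le_of_dvd (by norm_num) d
      generalize Nat.card ↥(C ⊓ V) = m at *
      interval_cases m <;> omega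
    rw [commutatorElement_def, mul_assoc, mul_assoc, ← mul_assoc x]
    refine two (le_inf zC zV) (cz h) c4 hv ⟨mem_normalizer_conj (n h.a.xY) (inv_mem hv.1),
      mem_normalizer_conj h.a.xV (inv_mem hv.2)⟩ nv fun m => nv ?_
    simpa [mul_assoc] using mem_normalizer_conj (ynor h (inv_mem h.a.xY)) (inv_mem m)

theorem capK (h : LG Y K U V V' z x x' t s) {o : G} (ho : o ∈ O2 Y) (hv : o ∈ Ns V) : o ∈ K := by
  have := Fact.mk Nat.prime_two
  obtain ⟨b1, b2, b3, b4, -⟩ := P8.pf_BasJ.{u}.o2 Y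
  have nO : Y ≤ Ns (O2 Y) := le_normalizer.trans b3
  have KO := b4 K h.KY h.K2 h.nK
  have nt : t ∉ O2 Y := fun k => by
    have := sq3 h.b.ox (KO h.b.sx) (mul_mem k (mem_normalizer_conj (nO h.b.xY) (inv_mem k)))
    obtain ⟨n, hn⟩ := b2 ⟨_, this⟩
    have d := orderOf_dvd_of_pow_eq_one (show x' ^ 2 ^ n = 1 from congrArg Subtype.val hn)
    rw [h.b.ox] at d
    exact absurd (Nat.prime_three.dvd_of_dvd_pow d) (by decide)
  obtain ⟨a, ha, b, hb, rfl⟩ := (Solv.Coprime.mem_sup_iff (zpowers_le.2 (h.nK h.a.tY))).1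
    (h.a.o2 _ b2 b1 nO ⟨ho, hv⟩)
  obtain ⟨n, rfl⟩ := mem_zpowers_iff.1 hb
  have k2 : ∀ m : ℤ, t ^ (2 * m) ∈ K := fun m => by
    rw [zpow_mul, zpow_two]
    exact zpow_mem h.a.tt m
  rcases Int.even_or_odd' n with ⟨m, rfl | rfl⟩
  · exact mul_mem ha (k2 m)
  · rw [zpow_add, zpow_one, ← mul_assoc] at ho
    exact absurd ((mul_mem_cancel_left (KO (mul_mem ha (k2 m)))).1 ho) nt

omit [Finite G] in
theorem act {X : Type u} [Group X] {H Q U₁ U₂ : Subgroup G} {π : G → X} {M : Type u} [AddCommGroup M]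
    {p : G → M} (hP : Pj H Q π) (n1 : H ≤ Ns U₁) (n2 : H ≤ Ns U₂) (cen : ⁅U₂, Q⁆ ≤ U₁)
    (ha : ∀ a ∈ U₂, ∀ b ∈ U₂, p (a * b) = p a + p b) (hz : ∀ a ∈ U₂, p a = 0 ↔ a ∈ U₁)
    (hs : ∀ m : M, ∃ a ∈ U₂, p a = m) : ∃ _ : DistribMulAction X M, Sec H U₁ U₂ π p := by
  choose s hs1 hs2 using hP.sur
  choose r hr1 hr2 using hs
  have h1 := P8.PjBH.one hP
  have cm : ∀ {g a}, g ∈ H → a ∈ U₂ → g * a * g⁻¹ ∈ U₂ := fun hg => mem_normalizer_conj (n2 hg)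
  have key : ∀ g ∈ H, ∀ a ∈ U₂, p (s (π g) * r (p a) * (s (π g))⁻¹) = p (g * a * g⁻¹) := by
    intro g hg a hA
    have e1 := (P8.PjBH.eq_iff hP (hs1 _) hg).1 (hs2 (π g))
    have e2 := (P8.BrgH.p_eq ha hz (hr1 _) hA).1 (hr2 (p a))
    rw [P8.BrgH.p_eq ha hz (cm (hs1 _) (hr1 _)) (cm hg hA)]
    have := mem_normalizer_conj (n1 (hs1 (π g)))
      (mul_mem e2 (cen (commutator_mem_commutator (inv_mem hA) e1)))
    convert this using 1
    simp only [commutatorElement_def]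
    group
  have ind : ∀ {P : X → Prop}, (∀ g ∈ H, P (π g)) → ∀ x, P x := fun k x => hs2 x ▸ k _ (hs1 x)
  have ind' : ∀ {P : M → Prop}, (∀ a ∈ U₂, P (p a)) → ∀ m, P m := fun k m => hr2 m ▸ k _ (hr1 m)
  let i : SMul X M := ⟨fun x m => p (s x * r m * (s x)⁻¹)⟩
  have key' : ∀ g ∈ H, ∀ a ∈ U₂, π g • p a = p (g * a * g⁻¹) := key
  let j : DistribMulAction X M := { i with
    one_smul := ind' fun a hA => by rw [← h1, key' _ (one_mem _) _ hA]; simp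
    mul_smul := ind fun g hg => ind fun k hk => ind' fun a hA => by
      rw [← hP.mul _ hg _ hk, key' _ (mul_mem hg hk) _ hA, key' _ hk _ hA, key' _ hg _ (cm hk hA)]
      congr 1
      group
    smul_zero := ind fun g hg => by rw [← P8.BrgH.p_one ha, key' _ hg _ (one_mem _)]; simp
    smul_add := ind fun g hg => ind' fun a hA => ind' fun b hB => by
      rw [← ha _ hA _ hB, key' _ hg _ (mul_mem hA hB), key' _ hg _ hA, key' _ hg _ hB,
        ← ha _ (cm hg hA) _ (cm hg hB)]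
      congr 1
      group }
  exact ⟨j, ha, hz, fun m => ⟨_, hr1 m, hr2 m⟩, fun g hg a hA => (key' g hg a hA).symm⟩

end NSG2

open NSG2 in
theorem lg2 : StLG2.{u} := by
  intro G _ _ Y K U V V' z x x' t s h l
  have := Fact.mk Nat.prime_two
  obtain ⟨b1, b2, b3, b4, -⟩ := P8.pf_BasJ.{u}.o2 Y
  have nO : Y ≤ Ns (O2 Y) := le_normalizer.trans b3
  have KO := b4 K h.KY h.K2 h.nK
  have zV := zpowers_le.2 h.a.zV
  have zU := zV.trans h.a.le
  have U2 : IsPGroup 2 U := fun a => ⟨1, Subtype.ext (h.ea.2 a a.2)⟩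
  have ge := l.ge
  have cZ := cz h
  by_contra nl
  obtain ⟨C, mC, nC⟩ : ∃ C : Subgroup G, (∀ a, a ∈ C ↔ a ∈ U ∧ ∀ o ∈ O2 Y, ⁅a, o⁆ ∈ zpowers z) ∧
      Y ≤ Ns C := ⟨cm U (O2 Y) _ (unor h zU), fun _ => Iff.rfl, fun y hy =>
        nor_cm _ (h.nU hy) (nO hy) (ynor h hy)⟩
  have CU : C ≤ U := fun a ha => ((mC a).1 ha).1
  have zC : zpowers z ≤ C := fun a ha => (mC a).2 ⟨zU ha, fun o ho => by
    rw [commutatorElement_def, mul_assoc, mul_assoc, ← mul_assoc o]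
    exact mul_mem ha (mem_normalizer_conj (ynor h (b1 ho)) (inv_mem ha))⟩
  have c4 : Nat.card C ≤ 4 := (lemA h l.cx' CU nC zC).resolve_left fun k =>
    nl fun o ho => capK h ho (inV h fun v hv => ((mC v).1 (k hv)).2 o ho)
  have lt : ∀ {A B : Subgroup G}, A ≤ B → Nat.card A < Nat.card B → A < B := fun k1 k2 =>
    lt_of_le_of_ne k1 fun e => by rw [e] at k2; omega
  have lt' : ∀ {A B : Subgroup G} {a : G}, A ≤ B → a ∈ B → a ∉ A → Nat.card A < Nat.card B :=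
    fun k1 k2 k3 => lt_of_not_ge fun k => k3 ((eq_of_le_of_card_ge k1 k).ge k2)
  obtain ⟨a, ha, na, ca⟩ := P8.BasJH.zfix b2 U2 (lt zU (by omega)) (b1.trans h.nU)
  have g1 := lt' zC ((mC a).2 ⟨ha, ca⟩) na
  have g2 := card_dvd_of_le zC
  rw [cZ] at g1 g2
  obtain ⟨D, mD, nD⟩ : ∃ D : Subgroup G, (∀ a, a ∈ D ↔ a ∈ U ∧ ∀ o ∈ O2 Y, ⁅a, o⁆ ∈ C) ∧
      Y ≤ Ns D := ⟨cm U (O2 Y) _ (unor h CU), fun _ => Iff.rfl, fun y hy =>
        nor_cm _ (h.nU hy) (nO hy) (nC hy)⟩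
  have DU : D ≤ U := fun a ha => ((mD a).1 ha).1
  have CD : C ≤ D := fun a ha => (mD a).2 ⟨CU ha, fun o ho => zC (((mC a).1 ha).2 o ho)⟩
  obtain ⟨b, hb, nb, cb⟩ := P8.BasJH.zfix b2 U2 (lt CU (by omega)) (b1.trans h.nU)
  have g3 := lt' CD ((mD b).2 ⟨hb, cb⟩) nb
  have UD : U ≤ D := h.min D ((lemA h l.cx' DU nD (zC.trans CD)).resolve_right (by omega))
    ((lemA (symm h) l.cx DU nD (zC.trans CD)).resolve_right (by omega)) nD
  have all : ∀ u ∈ U, ∀ o ∈ O2 Y, ⁅u, o⁆ ∈ C := fun u hu => ((mD u).1 (UD hu)).2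
  have z0 : ∀ H K : Subgroup G, H.relIndex K ≠ 0 := fun H K => index_ne_zero_of_finite
  obtain ⟨v₁, m1, v₂, m2, gV⟩ := gen2 zV (by
    have := card_mul_relIndex zV
    rw [cZ, h.a.card] at this
    omega)
  have nOz := b1.trans (ynor h)
  have iO : K.relIndex (O2 Y) ≤ 4 := by
    refine (relIndex_le_of_le_left (H := cm (O2 Y) {v₁} _ nOz ⊓ cm (O2 Y) {v₂} _ nOz)
      (fun o ho => capK h ho.1.1 (inV h fun v hv => ?_)) (z0 _ _)).trans (relIndex_inf_le.trans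
      (Nat.mul_le_mul (idx2 nOz zC cZ c4 fun o ho => flip (all _ (h.a.le m1) o ho))
        (idx2 nOz zC cZ c4 fun o ho => flip (all _ (h.a.le m2) o ho))))
    have : V ≤ cm U {o} _ (unor h zU) := gV.trans (sup_le (sup_le
      (fun a ha => ⟨zU ha, by rintro _ rfl; exact ((mC a).1 (zC ha)).2 _ ho.1.1⟩)
      (zpowers_le.2 ⟨h.a.le m1, by rintro _ rfl; exact flip (ho.1.2 _ rfl)⟩))
      (zpowers_le.2 ⟨h.a.le m2, by rintro _ rfl; exact flip (ho.2.2 _ rfl)⟩))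
    exact (this hv).2 o rfl
  obtain ⟨o₁, k1, o₂, k2, gO⟩ := gen2 KO iO
  have iU : C.relIndex U ≤ 4 := by
    refine (relIndex_le_of_le_left (H := cm U {o₁} _ (unor h zU) ⊓ cm U {o₂} _ (unor h zU))
      (fun a ha => (mC a).2 ⟨ha.1.1, fun o ho => ?_⟩) (z0 _ _)).trans (relIndex_inf_le.trans
      (Nat.mul_le_mul (idx2 _ zC cZ c4 fun a ha => all a ha _ k1)
        (idx2 _ zC cZ c4 fun a ha => all a ha _ k2)))
    have : O2 Y ≤ cm Y {a} _ (ynor h) := gO.trans (sup_le (sup_le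
      (fun k hk => ⟨h.KY hk, by rintro _ rfl; exact flip (h.UK _ ha.1.1 k hk)⟩)
      (zpowers_le.2 ⟨b1 k1, by rintro _ rfl; exact flip (ha.1.2 _ rfl)⟩))
      (zpowers_le.2 ⟨b1 k2, by rintro _ rfl; exact flip (ha.2.2 _ rfl)⟩))
    exact flip ((this ho).2 a rfl)
  have := card_mul_relIndex CU
  have := Nat.mul_le_mul c4 iU
  omega

open NSG2 P8.BrgH in
theorem lg3 : StLG3.{u} := by
  intro G _ _ Y K U V V' z x x' t s h l OK
  have := Fact.mk Nat.prime_two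
  have := Fact.mk Nat.prime_three
  have := P8.pf_Bas1.{u}
  have := P8.pf_PjB.{u, u}
  obtain ⟨b1, b2, b3, b4, -⟩ := P8.pf_BasJ.{u}.o2 Y
  have zU := (zpowers_le.2 h.a.zV).trans h.a.le
  have sq : ∀ a ∈ U, a * a ∈ zpowers z := fun a ha => by
    rw [← pow_two, h.ea.2 a ha]
    exact one_mem _
  obtain ⟨X, _, _, π, hP, h0⟩ := quo Y
  obtain ⟨M, _, _, p, ha, hz, hm⟩ := exists_p (unor h zU) sq
  obtain ⟨_, sc⟩ := act hP (ynor h) h.nU
    (commutator_le.2 fun a ha o ho => h.UK a ha o (OK ho)) ha hz hm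
  have two : ∀ m : M, m + m = 0 := fun m => by
    obtain ⟨u, hu, rfl⟩ := hm m
    rw [← ha u hu u hu, hz _ (mul_mem hu hu)]
    exact sq u hu
  obtain ⟨D, cD, mD⟩ := K35.FQ8.exists_D ha hz le_rfl
  have hM : Nat.card M ≤ 32 := by
    have e := card_mul_relIndex zU
    have := l.le
    rw [← cD, (AddSubgroup.eq_top_iff' D).2 fun m => by
      obtain ⟨u, hu, rfl⟩ := hm m
      exact mD u hu, AddSubgroup.card_top, cz h] at e
    omega
  have fth : P8.Fth X M := fun g hg => by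
    obtain ⟨y, hy, rfl⟩ := hP.sur g
    refine (hP.ker y hy).2 (b4 (cm Y U _ (ynor h)) (fun a ha => ha.1) (h.two.to_le fun a ha =>
      ⟨⟨ha.1, inV h fun v hv => flip (ha.2 v (h.a.le hv))⟩,
        inV (symm h) fun v hv => flip (ha.2 v (h.b.le hv))⟩)
      (fun a ha => nor_cm _ (le_normalizer ha) (h.nU ha) (ynor h ha))
      ⟨hy, fun u hu => flip (comm_mem sc h.nU hy hu (hg _))⟩)
  have n27 := K35.Bd.not27 two fth hM
  obtain ⟨-, c1, -, c2, -⟩ := P8.PjB.card.{u, u} hP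
  have := c2 h.sol
  have cF : Cs (pCore 3 X) ≤ pCore 3 X := (IsPSolvable.of_isSolvable 3 X).centralizer_pCore_le
    (Solv.pPrimeCore_eq_bot_iff.2 fun L hL hc => le_bot_iff.1 (h0 ▸ Solv.le_pCore hL (by
      refine IsPGroup.of_card
        (Nat.eq_prime_pow_of_unique_prime_dvd Nat.card_pos.ne' fun {q} hq hd => ?_)
      rcases h.pr q hq (((hd.trans L.card_subgroup_dvd_card).trans c1.symm.dvd).trans
        (relIndex_dvd_card _ _)) with rfl | rfl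
      · rfl
      · exact absurd (hc.symm.eq_one_of_dvd hd) (by norm_num))))
  have ab : ∀ P : Subgroup X, IsPGroup 3 P → ∀ a ∈ P, ∀ b ∈ P, a * b = b * a := fun P hp a ha b hb => by
    obtain ⟨n, hn⟩ := IsPGroup.iff_card.1 hp
    have n2 : n ≤ 2 := by
      by_contra k
      exact n27 (((pow_dvd_pow 3 (show 3 ≤ n by omega)).trans hn.symm.dvd).trans
        P.card_subgroup_dvd_card)
    suffices k : (⟨a, ha⟩ : P) * ⟨b, hb⟩ = ⟨b, hb⟩ * ⟨a, ha⟩ from congrArg Subtype.val k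
    interval_cases n
    · exact (Nat.card_eq_one_iff_unique.1 hn).1.elim _ _
    · exact (isCyclic_of_prime_card (p := 3) hn).commGroup.mul_comm _ _
    · exact (IsPGroup.commGroupOfCardEqPrimeSq hn).mul_comm _ _
  have F3 := Solv.pCore_isPGroup 3 X
  have inF : ∀ y ∈ Y, orderOf y = 3 → π y ∈ pCore 3 X := fun y hy o => by
    have p3 : IsPGroup 3 (zpowers (π y)) := by
      rintro ⟨_, i, rfl⟩
      refine ⟨1, Subtype.ext ?_⟩
      change (π y ^ i) ^ 3 ^ 1 = 1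
      rw [pow_one, ← zpow_natCast, ← zpow_mul, mul_comm, zpow_mul, zpow_natCast,
        ← P8.PjBH.pow hP hy, ← o, pow_orderOf_eq_one, P8.PjBH.one hP, one_zpow]
    exact cF (mem_Cs.2 fun f hf => ab _ (p3.to_sup_of_normal_right F3) _ (mem_sup_right hf) _
      (mem_sup_left (mem_zpowers _)))
  have xY := h.a.xY
  have xY' := h.b.xY
  have c := mul_mem (mul_mem xY xY') (inv_mem xY)
  refine OK ((hP.ker _ (mul_mem c (inv_mem xY'))).1 ?_)
  rw [hP.mul _ c _ (inv_mem xY'), P8.PjBH.cj hP xY xY', P8.PjBH.inv hP xY',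
    ab _ F3 _ (inF x xY h.a.ox) _ (inF x' xY' h.b.ox)]
  group

end Cfsg.Lib.K7
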