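import Cfsg.Agent.K7.NSV6

/-!
# Fixed points of an element of order three commuting with a quadratic involution
-/

set_option autoImplicit false

namespace Cfsg.Lib.K7.NSGCa

open Cfsg Subgroup Cfsg.Lib.Trans Cfsg.Lib.Gold
open Cfsg.Lib.P8 (EA)
open scoped commutatorElement
open NSV6

universe u

variable {G : Type u} [Group G]

/-- The norm with respect to an element of order three. -/
def nm (x e : G) : G := e * (x * e * x⁻¹) * (x * (x * e * x⁻¹) * x⁻¹)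

theorem nm_c {E : Subgroup G} (cm : ∀ a ∈ E, ∀ b ∈ E, a * b = b * a) {x e : G} (h3 : x ^ 3 = 1)
    (hx : x ∈ Ns E) (he : e ∈ E) : nm x e ∈ E ⊓ C1 x := by
  have h1 := (cjm hx).2 he
  have h2 := (cjm hx).2 h1
  refine ⟨mul_mem (mul_mem he h1) h2, mem_C1.2 ?_⟩
  have a := cm _ he _ (mul_mem h1 h2)
  have b : x * nm x e * x⁻¹ = (x * e * x⁻¹) * (x * (x * e * x⁻¹) * x⁻¹) * (x ^ 3 * e * (x ^ 3)⁻¹) := by
    simp only [nm, pow_succ, pow_zero]; group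
  rw [h3, one_mul, inv_one, mul_one, ← a, ← mul_assoc e] at b
  exact (mul_inv_eq_iff_eq_mul.1 b).symm

theorem eab {R : Subgroup G} (h : ∀ y ∈ R, y * y = 1) : EA R := by
  have i : ∀ y ∈ R, y⁻¹ = y := fun y hy => inv_eq_of_mul_eq_one_right (h y hy)
  refine ⟨⟨⟨fun a b => Subtype.ext ?_⟩⟩, fun a ha => by rw [sq, h a ha]⟩
  change (a : G) * b = b * a
  rw [← i _ (mul_mem a.2 b.2), mul_inv_rev, i _ a.2, i _ b.2]

theorem cmul {V : Subgroup G} (cm : ∀ a ∈ V, ∀ b ∈ V, a * b = b * a) {t : G} (tV : t ∈ Ns V) {a b : G}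
    (ha : a ∈ V) (hb : b ∈ V) : ⁅a * b, t⁆ = ⁅a, t⁆ * ⁅b, t⁆ := by
  have h1 : ∀ a ∈ V, ⁅a, t⁆ ∈ V := fun a ha => by
    have : ⁅a, t⁆ = a * (t * a⁻¹ * t⁻¹) := by rw [commutatorElement_def]; group
    rw [this]; exact mul_mem ha ((cjm tV).2 (inv_mem ha))
  have : ⁅a * b, t⁆ = a * ⁅b, t⁆ * a⁻¹ * ⁅a, t⁆ := by simp only [commutatorElement_def]; group
  rw [this, cm a ha _ (h1 b hb), mul_inv_cancel_right, cm _ (h1 b hb) _ (h1 a ha)]

theorem img {V K : Subgroup G} (cm : ∀ a ∈ V, ∀ b ∈ V, a * b = b * a) {t : G} (tV : t ∈ Ns V)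
    (le : K ≤ V) : ∃ I : Subgroup G, (∀ y, y ∈ I ↔ ∃ k ∈ K, ⁅k, t⁆ = y) ∧
      Nat.card ↥(K ⊓ C1 t) * Nat.card I = Nat.card K := by
  let f : V →* G := MonoidHom.mk' (fun a => ⁅(a : G), t⁆) fun a b => cmul cm tV a.2 b.2
  have k : f.ker = (C1 t).subgroupOf V := Subgroup.ext fun a =>
    commutatorElement_eq_one_iff_mul_comm.trans mem_C1.symm
  refine ⟨(K.subgroupOf V).map f, fun y => ⟨fun ⟨a, l, m⟩ => ⟨a, l, m⟩,
    fun ⟨a, l, m⟩ => ⟨⟨a, le l⟩, l, m⟩⟩, ?_⟩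
  rw [← relIndex_ker, k, relIndex_subgroupOf le, ← inf_relIndex_left]
  exact crel _ _ inf_le_left

theorem cnt [Finite G] (hDp : StDp.{u}) {V U : Subgroup G} {x t : G} (ea : EA V) (cV : Nat.card V = 64)
    (cU : Nat.card U = 8) (ox : orderOf x = 3) (xV : x ∈ Ns V) (xU : x ∈ Ns U) (tV : t ∈ Ns V)
    (tx : t ∈ C1 x) (hU : V ⊓ C1 t = U) (hc : ∀ v ∈ V, ⁅v, t⁆ ∈ U) (nx : ¬ V ≤ C1 x) :
    Nat.card ↥(V ⊓ C1 x) = 4 ∧ Nat.card ↥(U ⊓ C1 x) = 2 := by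
  have cm : ∀ a ∈ V, ∀ b ∈ V, a * b = b * a := fun a ha b hb =>
    congrArg Subtype.val (ea.1.is_comm.comm (⟨a, ha⟩ : V) ⟨b, hb⟩)
  have le : U ≤ V := hU ▸ inf_le_left
  have h3 : x ^ 3 = 1 := ox ▸ pow_orderOf_eq_one x
  have tx' : x * t * x⁻¹ = t := by rw [← mem_C1.1 tx, mul_inv_cancel_right]
  have cj' : ∀ v, ⁅x * v * x⁻¹, t⁆ = x * ⁅v, t⁆ * x⁻¹ := fun v => by
    conv_lhs => rw [← tx']
    simp only [commutatorElement_def]; group
  obtain ⟨I, hI, cI⟩ := img cm tV (le_refl V)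
  have eI : I = U := by
    refine eq_of_le_of_card_ge (fun y hy => ?_) (by rw [hU, cU, cV] at cI; omega)
    obtain ⟨k, hk, rfl⟩ := (hI y).1 hy
    exact hc k hk
  obtain ⟨J, hJ, cJ⟩ := img cm tV (inf_le_left : V ⊓ C1 x ≤ V)
  have eJ : J = U ⊓ C1 x := by
    ext y
    rw [hJ]
    constructor
    · rintro ⟨k, hk, rfl⟩
      refine ⟨hc k hk.1, mem_C1.2 ?_⟩
      have := cj' k
      rw [← mem_C1.1 hk.2, mul_inv_cancel_right] at this
      rw [eq_mul_inv_iff_mul_eq.1 this]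
    · rintro ⟨hy, yx⟩
      obtain ⟨k, hk, rfl⟩ := (hI y).1 (eI ▸ hy)
      have h1 := (cjm xV).2 hk
      refine ⟨nm x k, nm_c cm h3 xV hk, ?_⟩
      have f : x * ⁅k, t⁆ * x⁻¹ = ⁅k, t⁆ := by rw [← mem_C1.1 yx, mul_inv_cancel_right]
      rw [nm, cmul cm tV (mul_mem hk h1) ((cjm xV).2 h1), cmul cm tV hk h1, cj', cj', cj', f, f, ← sq,
        ea.2 _ (le hy), one_mul]
  rw [eJ, inf_right_comm, hU] at cJ
  have d : Nat.card ↥(U ⊓ C1 x) ∣ 2 ^ 3 := (card_dvd_of_le inf_le_left).trans (by rw [cU]; rfl)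
  have n8 : ¬ U ≤ C1 x := fun h => nx (by
    rw [inf_eq_left.2 h, cU] at cJ
    exact (eq_of_le_of_card_ge (inf_le_left : V ⊓ C1 x ≤ V) (by omega)).ge.trans inf_le_right)
  have eU : EA U := ⟨⟨⟨fun a b => Subtype.ext (cm _ (le a.2) _ (le b.2))⟩⟩, fun a ha => ea.2 a (le ha)⟩
  have nb : ∀ y : G, y ∈ Ns (⊥ : Subgroup G) := fun _ => le_normalizer_of_normal (mem_top _)
  obtain ⟨i, hi, e⟩ := (Nat.dvd_prime_pow Nat.prime_two).1 d
  suffices i = 1 by subst this; rw [← cJ, e]; exact ⟨rfl, rfl⟩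
  have c := crel _ _ (inf_le_left : U ⊓ C1 x ≤ U)
  interval_cases i
  · have := (hDp G (Ns U) ⊥ U x 3 Nat.prime_three (by norm_num) (IsPGroup.of_card (n := 3) cU) bot_le
      le_normalizer (fun y _ => nb y) le_rfl xU ox (card_eq_one.1 e)).1
    rw [relIndex_bot_left, cU] at this
    exact absurd this (by decide)
  · rfl
  · refine absurd (fun v hv => ?_) n8
    have a1 := cm2 (K := U ⊓ C1 x) (H := U) (by rw [e, cU] at c; omega)
      (mem_Ns_inf xU (le_normalizer (mem_C1.2 rfl))) xU hv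
    exact mem_C1.2 (commutatorElement_eq_one_iff_mul_comm.1 (mem_bot.1 (nrm eU bot_le h3 (nb x) a1.1
      (mem_bot.2 (commutatorElement_eq_one_iff_mul_comm.2 (mem_C1.1 a1.2))))))
  · exact absurd ((eq_of_le_of_card_ge (inf_le_left : U ⊓ C1 x ≤ U) (by omega)).ge.trans inf_le_right) n8

end Cfsg.Lib.K7.NSGCa
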