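import Cfsg.Agent.K7.LocB
import Cfsg.Agent.P8.PjB
import Cfsg.Agent.Local.CharP

/-!
# Simple groups of order `7 * 3 ^ a * 2 ^ b`: the subgroups `Y` and `K`
-/

set_option autoImplicit false
set_option maxRecDepth 100000

namespace Cfsg.Lib.K7

open Cfsg Subgroup Cfsg.Lib.Trans Cfsg.Lib.Gold
open Cfsg.Lib.P8 (L32 V3 O2 Om Jt Phi EA SR4 Ch E9 Pj Ty Sec SecOK Mx Crd)
open Cfsg.Lib.K35 (PSL Alt A3 NC)
open scoped commutatorElement

universe u

namespace NSI1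

/-- Upper triangular matrices. -/
abbrev UT (m : L32) : Prop := m.1 1 0 = 0 ∧ m.1 2 0 = 0 ∧ m.1 2 1 = 0

/-- The normal four-group of the point stabilizer. -/
abbrev IA (m : L32) : Prop := m.1 1 0 = 0 ∧ m.1 2 0 = 0 ∧ m.1 2 1 = 0 ∧ m.1 1 2 = 0

/-- The point stabilizer. -/
abbrev FX (m : L32) : Prop := m.1.mulVec ![1, 0, 0] = ![1, 0, 0]

theorem m1 : ∀ a : L32, IA a → ∀ b : L32, (IA b → IA (a * b)) ∧ (FX b → IA (b * a * b⁻¹)) := by
  decide +kernel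

theorem m0 : ∀ a : L32, IA a → IA a⁻¹ := by decide +kernel

set_option synthInstance.maxSize 2000 in
theorem m2 : ∀ a : L32, (UT a → UT (xA * a * xA⁻¹) → IA a) ∧
    (FX a → UT a ∨ UT (xA * a) ∨ UT (xA⁻¹ * a)) ∧
    (UT a → ¬ IA a → IA ((a * xA * a⁻¹ * xA⁻¹)⁻¹ * xA)) := by decide +kernel

theorem m3 : ∀ a : L32, UT a → ¬ IA a → ∀ b : L32, UT b → (IA (b * a) ↔ ¬ IA b) := by
  decide +kernel

theorem m4 : ∀ a : L32, a.1 1 0 = 0 ∧ a.1 2 0 = 0 ∧ a.1 2 1 = 0 ∧ a.1 0 1 = 0 →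
    ∀ v : V3, v 2 = 0 → a.1.mulVec v = v := by decide +kernel

theorem m5 : IA 1 ∧ FX xA ∧ (∀ a : V3, a + a = 0) ∧ Fintype.card {v : V3 // v 2 = 0} = 4 := by
  decide +kernel

variable {G : Type u} [Group G] [Finite G]

theorem perf {L : Subgroup G} (s : Group.IsSolvable L) (h : L ≤ ⁅L, L⁆) : L = ⊥ := by
  by_contra n
  have := (nontrivial_iff_ne_bot L).2 n
  have h1 := Group.IsSolvable.commutator_lt_top_of_nontrivial L
  rw [← map_subtype_lt_map_subtype, commutator_def, map_commutator, ← MonoidHom.range_eq_map,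
    range_subtype] at h1
  exact h1.not_ge h

theorem mod3 {P N : Subgroup G} (hN : P ≤ Ns N) {x w : G} (hx : x ∈ P) (hw : w ∈ P) (wN : w ∈ N)
    (x3 : x ^ 3 = 1) {k : ℕ} (h : (w⁻¹ * x) ^ 2 ^ k = 1) : x ∈ N := by
  have : (N.subgroupOf P).Normal := normal_subgroupOf_of_le_normalizer hN
  let φ := QuotientGroup.mk' (N.subgroupOf P)
  have e1 : φ ⟨w, hw⟩ = 1 := (QuotientGroup.eq_one_iff _).2 wN
  have e2 : φ ⟨x, hx⟩ ^ 3 = 1 := by
    rw [← map_pow, show (⟨x, hx⟩ : P) ^ 3 = 1 from Subtype.ext x3, map_one]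
  have e3 : φ ⟨x, hx⟩ ^ 2 ^ k = 1 := by
    have : φ (((⟨w, hw⟩ : P)⁻¹ * ⟨x, hx⟩) ^ 2 ^ k) = 1 := by
      rw [show ((⟨w, hw⟩ : P)⁻¹ * ⟨x, hx⟩) ^ 2 ^ k = 1 from Subtype.ext h, map_one]
    rwa [map_pow, map_mul, map_inv, e1, inv_one, one_mul] at this
  have e4 : φ ⟨x, hx⟩ = 1 := by
    have := pow_gcd_eq_one.2 ⟨e2, e3⟩
    rwa [Nat.Coprime.gcd_eq_one (Nat.Coprime.pow_right k (by decide)), pow_one] at this
  exact (QuotientGroup.eq_one_iff (⟨x, hx⟩ : P)).1 e4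

end NSI1

set_option maxHeartbeats 800000 in
open NSI1 in
theorem i1 : StI1.{u} := by
  intro G _ _ M S V g π c z x s h
  have := Fact.mk Nat.prime_two
  have nl := h.nl
  have no := nl.no
  have nb := nl.nb
  have ns := h.ns
  have k := nl.crd
  have pj := nl.ty.toPj
  have nor := nl.nW
  have hz := nl.zW
  have mV : ∀ v, v ∈ V ↔ v ∈ O2 M ∧ v * v = 1 ∧ O2 M ≤ C1 v := fun v => h.eq ▸ no.memV v
  have ea2 : ∀ a ∈ V, a * a = 1 := fun a ha => ((mV a).1 ha).2.1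
  have inj : ∀ a ∈ V, ∀ b ∈ V, c a = c b → a = b := fun a ha b hb e => by
    have := (k.zero _ (mul_mem ha hb)).1 (by rw [k.add a ha b hb, e, m5.2.2.1 _])
    rw [eq_inv_of_mul_eq_one_left this, inv_eq_of_mul_eq_one_left (ea2 b hb)]
  have cm : ∀ m ∈ M, ∀ a ∈ V, m * a = a * m ↔ (π m).1.mulVec (c a) = c a := fun m hm a ha => by
    rw [← k.eqv m hm a ha, ← mul_inv_eq_iff_eq_mul]
    exact ⟨fun e => by rw [e], inj _ (mem_normalizer_conj (nor hm) ha) _ ha⟩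
  have z1 : z ≠ 1 := fun e => by have := ns.oz; rw [e, orderOf_one] at this; omega
  have sM : S ≤ M := nb.syl.le
  have mS : ∀ {m}, m ∈ M → (m ∈ S ↔ UT (π m)) := fun {m} hm =>
    (nl.memS m).trans ⟨fun k => k.2, fun k => ⟨hm, k⟩⟩
  have mP : ∀ {m}, m ∈ M → (m ∈ M ⊓ C1 z ↔ FX (π m)) := fun {m} hm => by
    rw [mem_inf, mem_C1, cm m hm z hz, nl.cz]
    exact ⟨fun k => k.2, fun k => ⟨hm, k⟩⟩
  have TS := no.leT
  have SP : S ≤ M ⊓ C1 z := le_inf sM ns.zS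
  have xP : x ∈ M ⊓ C1 z := (mP h.xM).2 (h.px ▸ m5.2.1)
  have x3 : x ^ 3 = 1 := by rw [← h.ox, pow_orderOf_eq_one]
  -- the normalizer of `S` fixes `z`
  have nz : Ns S ≤ C1 z := fun n hn => by
    have zS : z ∈ S := TS ((mV z).1 hz).1
    have a1 := mem_normalizer_conj hn zS
    have a2 : S ≤ C1 (n * z * n⁻¹) := fun t ht => mem_C1.2 (by
      have := mem_C1.1 (ns.zS (mem_normalizer_conj' hn ht))
      calc t * (n * z * n⁻¹) = n * (n⁻¹ * t * n * z) * n⁻¹ := by group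
        _ = _ := by rw [this]; group)
    have a3 : n * z * n⁻¹ ∈ O2 M := nl.ty.ch ⟨sM a1, mem_Cs.2 fun t ht => mem_C1.1 (a2 (TS ht))⟩
    have a4 : n * z * n⁻¹ ∈ V :=
      (mV _).2 ⟨a3, by rw [conj_mul, ea2 z hz, mul_one, mul_inv_cancel], TS.trans a2⟩
    rcases ns.gz h.eq _ a4 a2 with e | e
    · exact absurd (conj_eq_one_iff.1 e) z1
    · exact mem_C1.2 (mul_inv_eq_iff_eq_mul.1 e)
  have gz : g ∈ C1 z := nz nb.nor
  have QP : O2 (M ⊓ C1 z) ≤ M ⊓ C1 z := Local.pCoreOf_le _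
  have nQ : M ⊓ C1 z ≤ Ns (O2 (M ⊓ C1 z)) := Local.le_normalizer_pCoreOf _
  have QS : O2 (M ⊓ C1 z) ≤ S := Local.pCoreOf_le_sylowIn (nb.syl.mono SP inf_le_left)
  have Q2 : IsPGroup 2 (O2 (M ⊓ C1 z)) := Local.isPGroup_pCoreOf _
  have mQ : ∀ q, q ∈ O2 (M ⊓ C1 z) ↔ q ∈ M ∧ IA (π q) := fun q => by
    refine ⟨fun hq => ⟨sM (QS hq), (m2 _).1 ((mS (sM (QS hq))).1 (QS hq)) ?_⟩, fun hq => ?_⟩
    · have a1 := QS (mem_normalizer_conj (nQ xP) hq)
      rwa [mS (sM a1), P8.PjBH.cj pj h.xM (sM (QS hq)), h.px] at a1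
    · let R : Subgroup G :=
        { carrier := {a | a ∈ M ∧ IA (π a)}
          mul_mem' := fun {a b} ha hb =>
            ⟨mul_mem ha.1 hb.1, by rw [pj.mul a ha.1 b hb.1]; exact (m1 _ ha.2 _).1 hb.2⟩
          one_mem' := ⟨one_mem _, by rw [P8.PjBH.one pj]; exact m5.1⟩
          inv_mem' := fun {a} ha =>
            ⟨inv_mem ha.1, by rw [P8.PjBH.inv pj ha.1]; exact m0 _ ha.2⟩ }
      have mR : ∀ a, a ∈ R ↔ a ∈ M ∧ IA (π a) := fun _ => Iff.rfl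
      clear_value R
      have RS : R ≤ S := fun a ha => (mS ((mR a).1 ha).1).2
        ⟨((mR a).1 ha).2.1, ((mR a).1 ha).2.2.1, ((mR a).1 ha).2.2.2.1⟩
      refine Local.le_pCoreOf (RS.trans SP) (fun p hp => ?_) (nb.syl.isPGroup.to_le RS) ((mR q).2 hq)
      refine mem_normalizer_of_cj_le (cj_le_iff.2 fun a ha => ?_)
      obtain ⟨a1, a2⟩ := (mR a).1 ha
      refine (mR _).2 ⟨mul_mem (mul_mem hp.1 a1) (inv_mem hp.1), ?_⟩
      rw [P8.PjBH.cj pj hp.1 a1]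
      exact (m1 _ a2 _).2 ((mP hp.1).1 hp)
  have memP : M ⊓ C1 z = S ⊔ zpowers x := by
    refine le_antisymm (fun p hp => ?_) (sup_le SP (zpowers_le.2 xP))
    have xi := inv_mem h.xM
    rcases (m2 _).2.1 ((mP hp.1).1 hp) with e | e | e
    · exact mem_sup_left ((mS hp.1).2 e)
    · rw [← h.px, ← pj.mul _ h.xM _ hp.1, ← mS (mul_mem h.xM hp.1)] at e
      simpa using mul_mem (mem_sup_right (inv_mem (mem_zpowers x))) (mem_sup_left e :
        x * p ∈ S ⊔ zpowers x)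
    · rw [← h.px, ← P8.PjBH.inv pj h.xM, ← pj.mul _ xi _ hp.1, ← mS (mul_mem xi hp.1)] at e
      simpa using mul_mem (mem_sup_right (mem_zpowers x)) (mem_sup_left e :
        x⁻¹ * p ∈ S ⊔ zpowers x)
  have nT : M ≤ Ns (O2 M) := no.nT.ge
  have gS : cj g S = S := cj_eq_of_mem_normalizer nb.nor
  have T'S : cj g (O2 M) ≤ S := (cj_mono g TS).trans gS.le
  have TQ : O2 M ≤ O2 (M ⊓ C1 z) := fun t ht =>
    (mQ t).2 ⟨pj.le ht, (pj.ker t (pj.le ht)).2 ht ▸ m5.1⟩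
  have sS := T'S h.sT
  have sQ : s ∉ O2 (M ⊓ C1 z) := fun e => h.s12 ((mQ s).1 e).2.2.2.2
  have two : ∀ b ∈ S, Xor (b * s ∈ O2 (M ⊓ C1 z)) (b ∈ O2 (M ⊓ C1 z)) := fun b hb => by
    have e := m3 _ ((mS (sM sS)).1 sS) (fun e => sQ ((mQ s).2 ⟨sM sS, e⟩)) _ ((mS (sM hb)).1 hb)
    rw [← pj.mul _ (sM hb) _ (sM sS)] at e
    rw [mQ, mQ, and_iff_right (sM hb), and_iff_right (sM (mul_mem hb sS)), e]
    by_cases r : IA (π b)
    · exact .inr ⟨r, fun n => n r⟩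
    · exact .inl ⟨r, r⟩
  have gg : ∀ {X : Subgroup G}, S ≤ Ns X → cj g (cj g X) = X := fun hX => by
    rw [cj_cj, cj_eq_of_mem_normalizer (hX nb.sq)]
  have ng : ∀ {X : Subgroup G}, S ≤ Ns X → S ≤ Ns (cj g X) := fun hX => by
    exact gS.ge.trans ((cj_mono g hX).trans (cj_normalizer g _).le)
  have sol : Group.IsSolvable (Yy M g z) := by
    have a1 : C1 z ≤ Ns (zpowers z) := (Cs_zpowers z).ge.trans Cs_le_Ns
    refine isSolvable_of_le (le_trans (sup_le inf_le_right ?_) a1) (nb.nc (zpowers z)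
      (IsPGroup.of_card (n := 1) (by rw [Nat.card_zpowers, ns.oz, pow_one]))
      (fun e => z1 (zpowers_eq_bot.1 e)) (nz.trans a1))
    exact cj_le_of_mem_of_le gz inf_le_right
  have xK : ∀ q ∈ O2 (M ⊓ C1 z), ⁅q, x⁆ ∈ Kk M g z := fun q hq => by
    have uQ : ⁅q, x⁆ ∈ O2 (M ⊓ C1 z) := by
      have := mul_mem hq (mem_normalizer_conj (nQ xP) (inv_mem hq))
      rwa [← mul_assoc, ← mul_assoc] at this
    refine ⟨uQ, by_contra fun n => ?_⟩
    obtain ⟨K, xK, qK, KP, nK, mK⟩ : ∃ K : Subgroup G, x ∈ K ∧ q * x * q⁻¹ ∈ K ∧ K ≤ M ⊓ C1 z ∧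
        M ⊓ C1 z ≤ Ns K ∧ ∀ D : Subgroup G, x ∈ D → M ⊓ C1 z ≤ Ns D → K ≤ D := by
      refine ⟨closure {y | ∃ p ∈ M ⊓ C1 z, y = p * x * p⁻¹}, subset_closure ⟨1, one_mem _, by simp⟩,
        subset_closure ⟨q, QP hq, rfl⟩, (closure_le _).2 ?_, fun p hp => ?_,
        fun D xD nD => (closure_le _).2 ?_⟩
      · rintro _ ⟨p, hp, rfl⟩
        exact mul_mem (mul_mem hp xP) (inv_mem hp)
      · refine mem_normalizer_of_cj_le ?_
        rw [cj_closure]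
        refine closure_mono ?_
        rintro _ ⟨_, ⟨r, hr, rfl⟩, rfl⟩
        exact ⟨p * r, mul_mem hp hr, by group⟩
      · rintro _ ⟨p, hp, rfl⟩
        exact mem_normalizer_conj (nD hp) xD
    have SK := SP.trans nK
    have gL : g ∈ Ns (K ⊔ cj g K) := cj_eq_self_iff.1 (by rw [cj_sup, gg SK, sup_comm])
    have PL : M ⊓ C1 z ≤ Ns (K ⊔ cj g K) := by
      rw [memP]
      refine sup_le (fun t ht => cj_eq_self_iff.1 ?_)
        (zpowers_le.2 (le_normalizer (mem_sup_left xK)))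
      rw [cj_sup, cj_eq_of_mem_normalizer (SK ht), cj_eq_of_mem_normalizer (ng SK ht)]
    have LY : K ⊔ cj g K ≤ Yy M g z := sup_le_sup KP (cj_mono g KP)
    have xL : x ∈ K ⊔ cj g K := mem_sup_left xK
    have uL : ⁅q, x⁆ ∈ K ⊔ cj g K := mem_sup_left (mul_mem qK (inv_mem xK))
    have nD : ∀ {p}, p ∈ Ns (K ⊔ cj g K) → p ∈ Ns ⁅K ⊔ cj g K, K ⊔ cj g K⁆ := fun hp =>
      cj_eq_self_iff.1 (by rw [cj_commutator, cj_eq_of_mem_normalizer hp])
    have u0 := mem_normalizer_conj' nb.nor (QS uQ)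
    have u1 := mem_normalizer_conj' gL uL
    replace n : g⁻¹ * ⁅q, x⁆ * g ∉ O2 (M ⊓ C1 z) := fun e => n (mem_cj.2 e)
    generalize g⁻¹ * ⁅q, x⁆ * g = v at n u0 u1
    have wD := commutator_mem_commutator u1 xL
    have vM := sM u0
    have c1 := mul_mem (mul_mem vM h.xM) (inv_mem vM)
    have wM := mul_mem c1 (inv_mem h.xM)
    have wP : ⁅v, x⁆ ∈ M ⊓ C1 z :=
      mul_mem (mul_mem (mul_mem (SP u0) xP) (inv_mem (SP u0))) (inv_mem xP)
    have wQ : ⁅v, x⁆⁻¹ * x ∈ O2 (M ⊓ C1 z) := by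
      refine (mQ _).2 ⟨mul_mem (inv_mem wM) h.xM, ?_⟩
      rw [commutatorElement_def, pj.mul _ (inv_mem wM) _ h.xM, P8.PjBH.inv pj wM,
        pj.mul _ c1 _ (inv_mem h.xM), P8.PjBH.cj pj vM h.xM, P8.PjBH.inv pj h.xM, h.px]
      exact (m2 _).2.2 ((mS vM).1 u0) fun e => n ((mQ v).2 ⟨vM, e⟩)
    obtain ⟨j, hj⟩ := Q2 ⟨_, wQ⟩
    have xD := mod3 (fun p hp => nD (PL hp)) xP wP wD x3 (congrArg Subtype.val hj)
    have KD := mK _ xD fun p hp => nD (PL hp)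
    have e := perf (isSolvable_of_le LY sol) (sup_le KD
      ((cj_mono g KD).trans (cj_eq_of_mem_normalizer (nD gL)).le))
    rw [e, mem_bot] at xL
    have := h.ox
    rw [xL, orderOf_one] at this
    omega
  have SQ := SP.trans nQ
  refine ⟨gz, mQ, memP, ?_, ?_, sol, ?_, xK⟩
  · have a1 : 4 ≤ Nat.card ↥(V ⊓ cj g V) := by
      choose f f1 f2 using k.sur
      have b1 : ∀ v : V3, v 2 = 0 → g * f v * g⁻¹ ∈ V ⊓ cj g V := fun v hv => by
        have b2 := (conj_mem_cj (g := g)).2 (f1 v)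
        refine ⟨(mV _).2 ⟨h.le b2, by rw [conj_mul, ea2 _ (f1 v), mul_one, mul_inv_cancel],
          fun t ht => mem_C1.2 ?_⟩, b2⟩
        have b3 : g⁻¹ * t * g ∈ cj g (O2 M) := by
          rw [← mem_cj, gg (sM.trans nT)]; exact ht
        have b4 := (cm _ (sM (T'S b3)) _ (f1 v)).2 (by rw [f2]; exact m4 _ (h.allB _ b3) v hv)
        calc t * (g * f v * g⁻¹) = g * (g⁻¹ * t * g * f v) * g⁻¹ := by group
          _ = _ := by rw [b4]; group
      rw [← m5.2.2.2, ← Nat.card_eq_fintype_card]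
      refine Nat.card_le_card_of_injective
        (fun v : {v : V3 // v 2 = 0} => (⟨_, b1 v.1 v.2⟩ : ↥(V ⊓ cj g V))) fun a b e => ?_
      have e1 : g * f a * g⁻¹ = g * f b * g⁻¹ := congrArg Subtype.val e
      rw [mul_left_inj, mul_right_inj] at e1
      exact Subtype.ext (by rw [← f2 a, e1, f2])
    have a2 := card_dvd_of_le (inf_le_left : V ⊓ cj g V ≤ V)
    have a3 : Nat.card ↥(V ⊓ cj g V) ≠ 8 := fun e => by
      have b1 := eq_of_le_of_card_ge (inf_le_right : V ⊓ cj g V ≤ cj g V)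
        (by rw [e, card_cj, ns.cW])
      have b2 : g ∈ Ns V := mem_normalizer_of_cj_le (b1.ge.trans inf_le_left)
      rw [← h.eq, no.nV] at b2
      exact nb.out b2
    rw [ns.cW] at a2
    have a4 := Nat.le_of_dvd (by norm_num) a2
    generalize Nat.card ↥(V ⊓ cj g V) = n at a1 a2 a3 a4
    interval_cases n <;> omega
  · have Q'S : cj g (O2 (M ⊓ C1 z)) ≤ S := (cj_mono g QS).trans gS.le
    have a1 : (O2 (M ⊓ C1 z)).relIndex S = 2 := relIndex_eq_two_iff.2 ⟨s, sS, two⟩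
    have a2 : (cj g (O2 (M ⊓ C1 z))).relIndex S = 2 := by
      rw [← a1, ← relIndex_cj g (O2 (M ⊓ C1 z)) S, gS]
    have a3 : (O2 (M ⊓ C1 z)).relIndex (cj g (O2 (M ⊓ C1 z))) = 2 :=
      relIndex_eq_two_iff.2 ⟨s, cj_mono g TQ h.sT, fun b hb => two b (Q'S hb)⟩
    rw [Kk, ← relIndex_mul_relIndex _ _ _ inf_le_right Q'S, inf_relIndex_right, a2, a3]
  · have gK : g ∈ Ns (Kk M g z) := cj_eq_self_iff.1 (by rw [Kk, cj_inf, gg SQ, inf_comm])
    have PK : M ⊓ C1 z ≤ Ns (Kk M g z) := by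
      conv_lhs => rw [memP]
      refine sup_le (fun t ht => cj_eq_self_iff.1 ?_) (zpowers_le.2 ?_)
      · rw [Kk, cj_inf, cj_eq_of_mem_normalizer (SQ ht), cj_eq_of_mem_normalizer (ng SQ ht)]
      · refine mem_normalizer_of_cj_le (cj_le_iff.2 fun a ha => ?_)
        have := mul_mem (inv_mem (xK a ha.1)) ha
        rwa [show ⁅a, x⁆⁻¹ * a = x * a * x⁻¹ by rw [commutatorElement_def]; group] at this
    exact sup_le PK (cj_le_of_mem_of_le gK PK)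

end Cfsg.Lib.K7
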