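import Cfsg.Agent.K7.LocB
import Cfsg.Agent.Gold.Cm
import Cfsg.Agent.Local.PCoreOf

/-!
# Simple groups of order `p * 3 ^ a * 2 ^ b`: the linear configuration
-/

set_option autoImplicit false

namespace Cfsg.Lib.K7

open Cfsg Subgroup Cfsg.Lib.Trans Cfsg.Lib.Gold
open Cfsg.Lib.P8 (L32 V3 O2 Om Jt Phi EA SR4 Ch E9 Pj Ty Sec SecOK Mx Crd)
open Cfsg.Lib.K35 (PSL Alt A3 NC)
open Cfsg.Lib.Local.MSS (pCoreOf_le le_pCoreOf self_le_normalizer_pCoreOf isPGroup_pCoreOf pCoreOf_cj)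
open scoped commutatorElement

universe u

namespace NSI4

/-- Upper triangular matrices. -/
def UT (m : L32) : Prop := m.1 1 0 = 0 ∧ m.1 2 0 = 0 ∧ m.1 2 1 = 0

theorem diag {m : L32} (h : UT m) : m.1 0 0 = 1 ∧ m.1 1 1 = 1 ∧ m.1 2 2 = 1 := by
  have d := m.2
  obtain ⟨h1, h2, h3⟩ := h
  rw [Matrix.det_fin_three, h1, h2, h3] at d
  generalize m.1 0 0 = a at *
  generalize m.1 1 1 = b at *
  generalize m.1 2 2 = c at *
  generalize m.1 0 1 = e at *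
  generalize m.1 0 2 = f at *
  generalize m.1 1 2 = k at *
  revert a b c e f k
  decide

theorem mul_ent (a b : L32) (i j : Fin 3) :
    (a * b).1 i j = a.1 i 0 * b.1 0 j + a.1 i 1 * b.1 1 j + a.1 i 2 * b.1 2 j := by
  rw [Matrix.SpecialLinearGroup.coe_mul, Matrix.mul_apply, Fin.sum_univ_three]

theorem one_of_ne {a : ZMod 2} (h : a ≠ 0) : a = 1 := by
  revert a
  decide

theorem mul12 {a b : L32} (ha : UT a) (hb : UT b) (a1 : a.1 1 2 ≠ 0) (b1 : b.1 1 2 ≠ 0) :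
    (a * b).1 1 2 = 0 := by
  rw [mul_ent, ha.1, (diag ha).2.1, (diag hb).2.2, one_of_ne a1, one_of_ne b1]
  generalize b.1 0 2 = k
  revert k
  decide

theorem nrm21 {a b s : L32} (a0 : a.1 2 0 = 0) (hb : UT b) (hs : UT s) (s1 : s.1 1 2 ≠ 0)
    (e : b * a = a * s) : a.1 2 1 = 0 := by
  have := congrArg (fun m : L32 => m.1 2 2) e
  simp only [mul_ent] at this
  rw [hb.2.1, hb.2.2, (diag hb).2.2, a0, one_of_ne s1, (diag hs).2.2] at this
  generalize a.1 0 2 = k at *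
  generalize a.1 1 2 = l at *
  generalize a.1 2 2 = m at *
  generalize a.1 2 1 = n at *
  generalize s.1 0 2 = o at *
  revert k l m n o
  decide

theorem sxA {s r : L32} (hs : UT s) (s1 : s.1 1 2 ≠ 0) (e : s * r = 1) (hr : UT r) :
    inA (s * xA * r * xA) := by
  have r1 : r.1 1 2 = 1 := by
    have := congrArg (fun m : L32 => m.1 1 2) e
    simp only [mul_ent] at this
    rw [hs.1, (diag hs).2.1, one_of_ne s1, (diag hr).2.2] at this
    have o : (1 : L32).1 1 2 = 0 := by decide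
    rw [o] at this
    generalize r.1 0 2 = k at *
    generalize r.1 1 2 = l at *
    revert k l
    decide
  have x0 : xA.1 0 0 = 1 ∧ xA.1 0 1 = 0 ∧ xA.1 0 2 = 0 ∧ xA.1 1 0 = 0 ∧ xA.1 1 1 = 0 ∧ xA.1 1 2 = 1 ∧
      xA.1 2 0 = 0 ∧ xA.1 2 1 = 1 ∧ xA.1 2 2 = 1 := by decide
  obtain ⟨a1, a2, a3, a4, a5, a6, a7, a8, a9⟩ := x0
  obtain ⟨b1, b2, b3⟩ := diag hs
  obtain ⟨c1, c2, c3⟩ := diag hr
  simp only [inA, mul_ent, a1, a2, a3, a4, a5, a6, a7, a8, a9, b2, b3, c1, c2, c3, hs.1, hs.2.1, hs.2.2, hr.1,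
    hr.2.1, hr.2.2, one_of_ne s1, r1]
  generalize r.1 0 2 = k
  generalize r.1 0 1 = l
  revert k l
  decide

theorem vec_fix (w : V3) (h : w + xA.1.mulVec w = 0 ∨ w + xA.1.mulVec w = ![1, 0, 0]) :
    w = 0 ∨ w + ![1, 0, 0] = 0 := by
  revert w
  decide

variable {G : Type u} [Group G]

theorem mem_zp {z a : G} (oz : orderOf z = 2) (h : a ∈ zpowers z) : a = 1 ∨ a = z := by
  have z2 : z * z = 1 := by rw [← pow_two, ← oz, pow_orderOf_eq_one]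
  obtain ⟨n, rfl⟩ := h
  have e : z ^ (2 : ℤ) = 1 := by rw [zpow_two, z2]
  obtain ⟨m, rfl | rfl⟩ := Int.even_or_odd' n
  · exact Or.inl (by simp only [zpow_mul, e, one_zpow])
  · exact Or.inr (by simp only [zpow_add, zpow_mul, e, one_zpow, one_mul, zpow_one])

theorem cube {K : Subgroup G} {q x : G} (hq : q ∈ Ns K) (hx : x ∈ Ns K) (h : ⁅q, x⁆ ∈ K) (h3 : x ^ 3 = 1)
    (hy : (q * x⁻¹) ^ 3 = 1) : q ^ 3 ∈ K := by
  let φ := QuotientGroup.mk' (K.subgroupOf (Ns K))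
  have c : Commute (φ ⟨q, hq⟩) (φ ⟨x, hx⟩) := by
    rw [← commutatorElement_eq_one_iff_commute, ← map_commutatorElement]
    exact (QuotientGroup.eq_one_iff _).2 h
  have e1 : (⟨x, hx⟩ : Ns K) ^ 3 = 1 := Subtype.ext h3
  have e2 : ((⟨q, hq⟩ : Ns K) * (⟨x, hx⟩ : Ns K)⁻¹) ^ 3 = 1 := Subtype.ext hy
  have e3 := congrArg φ e2
  rw [map_pow, map_mul, map_inv, c.inv_right.mul_pow, inv_pow, ← map_pow φ _ 3, ← map_pow φ _ 3, e1, map_one,
    inv_one, mul_one] at e3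
  exact (QuotientGroup.eq_one_iff ((⟨q, hq⟩ : Ns K) ^ 3)).1 e3

theorem hf_cj {Y K U V : Subgroup G} {z x t s : G} (h : Hf Y K U V z x t s) (g : G) :
    Hf (cj g Y) (cj g K) (cj g U) (cj g V) (g * z * g⁻¹) (g * x * g⁻¹) (g * t * g⁻¹) (g * s * g⁻¹) where
  le := cj_mono g h.le
  card := (card_cj g V).trans h.card
  zV := conj_mem_cj.2 h.zV
  xY := conj_mem_cj.2 h.xY
  ox := ((MulAut.conj g).orderOf_eq x).trans h.ox
  xV := cj_Ns g V ▸ conj_mem_cj.2 h.xV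
  xfp := by
    intro v hv hc
    obtain ⟨v, rfl⟩ := conj_surj g v
    rw [← conjugate_commutatorElement, ← cj_zpowers, conj_mem_cj] at hc
    rw [← cj_zpowers, conj_mem_cj]
    exact h.xfp v (conj_mem_cj.1 hv) hc
  tY := conj_mem_cj.2 h.tY
  tV := cj_C1 g t ▸ cj_mono g h.tV
  tU := by
    intro v hv
    obtain ⟨v, rfl⟩ := conj_surj g v
    rw [← conjugate_commutatorElement, conj_mem_cj]
    exact h.tU v (conj_mem_cj.1 hv)
  tt := by
    rw [conj_mul', conj_mem_cj]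
    exact h.tt
  tx := by
    rw [← conjugate_commutatorElement, conj_mem_cj]
    exact h.tx
  sx := by
    rw [conj_inv', conj_mul', conj_mul', conj_mul', conj_mem_cj]
    exact h.sx
  sV := cj_Ns g V ▸ conj_mem_cj.2 h.sV
  nsV := by
    obtain ⟨v, hv, n⟩ := h.nsV
    refine ⟨_, conj_mem_cj.2 hv, ?_⟩
    rwa [← conjugate_commutatorElement, ← cj_zpowers, conj_mem_cj]
  o2 := by
    intro O hO h1 h2
    obtain ⟨O, rfl⟩ := cj_surj g O
    rw [← cj_Ns] at h2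
    rw [← cj_Ns, ← cj_zpowers, ← cj_inf, ← cj_sup]
    exact cj_mono g (h.o2 O (isPGroup_cj_iff.1 hO) (cj_le_cj.1 h1) (cj_le_cj.1 h2))

variable [Finite G] {M S₀ V : Subgroup G} {g : G} {π : G → L32} {c : G → V3} {z x s : G}

omit [Finite G] in
theorem pinv (h : IB M S₀ V g π c z x s) {a : G} (ha : a ∈ M) : π a * π a⁻¹ = 1 := by
  rw [← h.nl.ty.mul _ ha _ (inv_mem ha), mul_inv_cancel]
  exact (h.nl.ty.ker 1 M.one_mem).2 (one_mem _)

omit [Finite G] in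
theorem QS (h : IB M S₀ V g π c z x s) (k : I1 M S₀ V g π z x) : O2 (M ⊓ C1 z) ≤ S₀ := fun q hq =>
  have := (k.memQ q).1 hq
  (h.nl.memS q).2 ⟨this.1, this.2.1, this.2.2.1, this.2.2.2.1⟩

omit [Finite G] in
theorem gS (h : IB M S₀ V g π c z x s) : cj g S₀ = S₀ := mem_Ns_iff.1 h.nl.nb.nor

omit [Finite G] in
theorem QS' (h : IB M S₀ V g π c z x s) (k : I1 M S₀ V g π z x) : cj g (O2 (M ⊓ C1 z)) ≤ S₀ :=
  (cj_mono g (QS h k)).trans (gS h).le

omit [Finite G] in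
theorem SP (h : IB M S₀ V g π c z x s) : S₀ ≤ M ⊓ C1 z := le_inf h.nl.nb.syl.1 h.ns.zS

omit [Finite G] in
theorem TQ (h : IB M S₀ V g π c z x s) (k : I1 M S₀ V g π z x) : O2 M ≤ O2 (M ⊓ C1 z) := fun t ht => by
  have hM := pCoreOf_le M ht
  refine (k.memQ t).2 ⟨hM, ?_⟩
  rw [(h.nl.ty.ker t hM).2 ht]
  unfold inA
  decide

omit [Finite G] in
theorem dQ (h : IB M S₀ V g π c z x s) (k : I1 M S₀ V g π z x) {a b : G} (ha : a ∈ S₀) (hb : b ∈ S₀)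
    (na : a ∉ O2 (M ⊓ C1 z)) (nb : b ∉ O2 (M ⊓ C1 z)) : a * b ∈ O2 (M ⊓ C1 z) := by
  have a1 := (h.nl.memS a).1 ha
  have b1 := (h.nl.memS b).1 hb
  have c1 := (h.nl.memS _).1 (mul_mem ha hb)
  refine (k.memQ _).2 ⟨c1.1, c1.2.1, c1.2.2.1, c1.2.2.2, ?_⟩
  rw [h.nl.ty.mul _ a1.1 _ b1.1]
  exact mul12 a1.2 b1.2 (fun e => na ((k.memQ _).2 ⟨a1.1, a1.2.1, a1.2.2.1, a1.2.2.2, e⟩))
    (fun e => nb ((k.memQ _).2 ⟨b1.1, b1.2.1, b1.2.2.1, b1.2.2.2, e⟩))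

omit [Finite G] in
theorem dQ' (h : IB M S₀ V g π c z x s) (k : I1 M S₀ V g π z x) {a b : G} (ha : a ∈ S₀) (hb : b ∈ S₀)
    (na : a ∉ cj g (O2 (M ⊓ C1 z))) (nb : b ∉ cj g (O2 (M ⊓ C1 z))) : a * b ∈ cj g (O2 (M ⊓ C1 z)) := by
  obtain ⟨a, rfl⟩ := conj_surj g a
  obtain ⟨b, rfl⟩ := conj_surj g b
  rw [← gS h, conj_mem_cj] at ha hb
  rw [conj_mem_cj] at na nb
  rw [conj_mul', conj_mem_cj]
  exact dQ h k ha hb na nb

omit [Finite G] in
theorem QK (h : IB M S₀ V g π c z x s) (k : I1 M S₀ V g π z x) {t : G} (ht : t ∈ O2 (M ⊓ C1 z))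
    (nt : t ∉ cj g (O2 (M ⊓ C1 z))) : O2 (M ⊓ C1 z) ≤ Kk M g z ⊔ zpowers t := fun q hq => by
  by_cases e : q ∈ cj g (O2 (M ⊓ C1 z))
  · exact mem_sup_left (show q ∈ Kk M g z from ⟨hq, e⟩)
  · have : q * t ∈ Kk M g z := ⟨mul_mem hq ht, dQ' h k (QS h k hq) (QS h k ht) e nt⟩
    have e2 : q = q * t * t⁻¹ := by group
    rw [e2]
    exact mul_mem (mem_sup_left this) (mem_sup_right (inv_mem (mem_zpowers t)))

omit [Finite G] in
theorem sqK (h : IB M S₀ V g π c z x s) (k : I1 M S₀ V g π z x) {q : G} (hq : q ∈ O2 (M ⊓ C1 z)) :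
    q * q ∈ Kk M g z := by
  refine ⟨mul_mem hq hq, ?_⟩
  by_cases e : q ∈ cj g (O2 (M ⊓ C1 z))
  · exact mul_mem e e
  · exact dQ' h k (QS h k hq) (QS h k hq) e e

omit [Finite G] in
theorem sS (h : IB M S₀ V g π c z x s) (k : I1 M S₀ V g π z x) : s ∈ S₀ :=
  QS' h k (cj_mono g (TQ h k) h.sT)

omit [Finite G] in
theorem sQ (h : IB M S₀ V g π c z x s) (k : I1 M S₀ V g π z x) : s ∉ O2 (M ⊓ C1 z) := fun e =>
  h.s12 ((k.memQ s).1 e).2.2.2.2

omit [Finite G] in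
theorem xP (k : I1 M S₀ V g π z x) : x ∈ M ⊓ C1 z := k.memP ▸ mem_sup_right (mem_zpowers x)

omit [Finite G] in
theorem PY : M ⊓ C1 z ≤ Yy M g z := le_sup_left

omit [Finite G] in
theorem gz (k : I1 M S₀ V g π z x) : g * z * g⁻¹ = z := by rw [mem_C1.1 k.gz, mul_inv_cancel_right]

omit [Finite G] in
theorem Yz (k : I1 M S₀ V g π z x) : Yy M g z ≤ C1 z :=
  sup_le inf_le_right ((cj_mono g inf_le_right).trans (by rw [cj_C1, gz k]))

omit [Finite G] in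
theorem ccm (h : IB M S₀ V g π c z x s) {v a : G} (hv : v ∈ V) (ha : a ∈ M) :
    c ⁅v, a⁆ = c v + (π a).1.mulVec (c v) := by
  have v2 : v⁻¹ = v := inv_eq_of_sq ((h.nl.no.memV v).1 (h.eq ▸ hv)).2.1
  have e : ⁅v, a⁆ = v * (a * v * a⁻¹) := by rw [commutatorElement_def, v2]; group
  rw [e, h.nl.crd.add _ hv _ (mem_normalizer_conj (h.nl.nW ha) hv), h.nl.crd.eqv _ ha _ hv]

omit [Finite G] in
theorem half (h : IB M S₀ V g π c z x s) (k : I1 M S₀ V g π z x)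
    (hU : ∀ u ∈ Uu M V g z, ∀ t ∈ O2 M, ⁅u, t⁆ ∈ V) {t : G} (ht : t ∈ O2 M)
    (nt : t ∉ cj g (O2 (M ⊓ C1 z))) : Hf (Yy M g z) (Kk M g z) (Uu M V g z) V z x t s where
  le := by
    refine le_trans ?_ (le_iSup (fun k : Yy M g z => cj (k : G) (V ⊔ cj g V)) 1)
    rw [OneMemClass.coe_one, cj_one]
    exact le_sup_left
  card := h.ns.cW
  zV := h.nl.zW
  xY := PY (xP k)
  ox := h.ox
  xV := h.nl.nW h.xM
  xfp := by
    intro v hv hc
    have e := ccm h hv h.xM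
    rw [h.px] at e
    have c1 : c 1 = 0 := (h.nl.crd.zero 1 V.one_mem).2 rfl
    have := vec_fix (c v) ((mem_zp h.ns.oz hc).imp (fun o => by rw [← e, o, c1]) fun o => by rw [← e, o, h.nl.cz])
    rcases this with o | o
    · rw [(h.nl.crd.zero v hv).1 o]
      exact one_mem _
    · rw [← h.nl.cz, ← h.nl.crd.add _ hv _ h.nl.zW, h.nl.crd.zero _ (mul_mem hv h.nl.zW)] at o
      rw [eq_inv_of_mul_eq_one_left o]
      exact inv_mem (mem_zpowers z)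
  tY := PY (pCoreOf_le _ (TQ h k ht))
  tV := fun v hv => mem_C1.2 (mem_C1.1 (((h.nl.no.memV v).1 (h.eq ▸ hv)).2.2 ht)).symm
  tU := fun u hu => hU u hu t ht
  tt := sqK h k (TQ h k ht)
  tx := k.xK t (TQ h k ht)
  sx := by
    have s1 := (h.nl.memS s).1 (sS h k)
    have s2 := (h.nl.memS _).1 (inv_mem (sS h k))
    have m1 := mul_mem s1.1 h.xM
    have m2 := mul_mem m1 s2.1
    have hq : s * x * s⁻¹ * x ∈ O2 (M ⊓ C1 z) := by
      refine (k.memQ _).2 ⟨mul_mem m2 h.xM, ?_⟩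
      rw [h.nl.ty.mul _ m2 _ h.xM, h.nl.ty.mul _ m1 _ s2.1, h.nl.ty.mul _ s1.1 _ h.xM, h.px]
      exact sxA s1.2 h.s12 (pinv h s1.1) s2.2
    have x3 : x ^ 3 = 1 := by rw [← h.ox, pow_orderOf_eq_one]
    have q3 := cube (k.nK (PY (pCoreOf_le _ hq))) (k.nK (PY (xP k))) (k.xK _ hq) x3
      (by rw [mul_inv_cancel_right, conj_pow, x3, mul_one, mul_inv_cancel])
    have q2 := sqK h k hq
    generalize s * x * s⁻¹ * x = q at *
    have e : q = q ^ 3 * (q * q)⁻¹ := by group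
    rw [e]
    exact mul_mem q3 (inv_mem q2)
  sV := h.nl.nW ((h.nl.memS s).1 (sS h k)).1
  nsV := by
    obtain ⟨v, hv, e⟩ := h.nl.crd.sur ![0, 0, 1]
    refine ⟨v, hv, fun hc => h.s12 ?_⟩
    have e2 := congrFun (ccm h hv ((h.nl.memS s).1 (sS h k)).1) 1
    have c1 : c 1 = 0 := (h.nl.crd.zero 1 V.one_mem).2 rfl
    have e3 : c ⁅v, s⁆ 1 = 0 := by
      rcases mem_zp h.ns.oz hc with o | o
      · rw [o, c1]; rfl
      · rw [o, h.nl.cz]; rfl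
    rw [e3, e] at e2
    simpa [Matrix.mulVec, dotProduct, Fin.sum_univ_three] using e2.symm
  o2 := by
    intro O hO h1 h2
    have nV : Ns V = M := h.eq ▸ h.nl.no.nV
    rw [nV]
    refine le_trans ?_ (QK h k (TQ h k ht) nt)
    exact le_pCoreOf (le_inf inf_le_right (inf_le_left.trans (h1.trans (Yz k))))
      (le_Ns_inf (PY.trans h2) (inf_le_left.trans le_normalizer)) hO.to_inf_left

end NSI4

open NSI4 in
theorem i4 : StI4.{u} := by
  intro G _ _ M S₀ V g π c z x s h k j hU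
  have gP : g * g ∈ M ⊓ C1 z := SP h h.nl.nb.sq
  have ggP : cj g (cj g (M ⊓ C1 z)) = M ⊓ C1 z := by rw [cj_cj, cj_eq_of_mem gP]
  have ggQ : cj g (cj g (O2 (M ⊓ C1 z))) = O2 (M ⊓ C1 z) := by
    rw [cj_cj]; exact mem_Ns_iff.1 (self_le_normalizer_pCoreOf _ gP)
  have ggT : cj g (cj g (O2 M)) = O2 M := by
    rw [cj_cj]; exact mem_Ns_iff.1 (self_le_normalizer_pCoreOf _ gP.1)
  have gY : cj g (Yy M g z) = Yy M g z := by rw [Yy, cj_sup, ggP, sup_comm]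
  have gK : cj g (Kk M g z) = Kk M g z := by rw [Kk, cj_inf, ggQ, inf_comm]
  have tT : g * s * g⁻¹ ∈ O2 M := ggT ▸ conj_mem_cj.2 h.sT
  have nt : g * s * g⁻¹ ∉ cj g (O2 (M ⊓ C1 z)) := fun e => sQ h k (conj_mem_cj.1 e)
  have ha := half h k hU tT nt
  have hb := hf_cj (half h k hU (t := g⁻¹ * s * g) (mem_cj.1 h.sT)
    (fun e => sQ h k (by rw [← ggQ]; exact mem_cj.2 e))) g
  have e0 : g * (g⁻¹ * s * g) * g⁻¹ = s := by group
  rw [gY, gK, mem_Ns_iff.1 j.gU, gz k, e0] at hb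
  have nV : Ns V = M := h.eq ▸ h.nl.no.nV
  refine ⟨ha, hb, k.sol, ?_, h.ns.oz, Yz k, inf_le_left.trans ((pCoreOf_le _).trans PY), k.nK,
    (isPGroup_pCoreOf _).to_inf_left, ?_, j.ea, j.UK, k.cap, ?_, ?_, ?_⟩
  · intro p pp hp
    have := Fact.mk pp
    obtain ⟨a, b, e⟩ := h.nl.nb.gl.ord
    have d := hp.trans (card_subgroup_dvd_card _)
    rw [e, pp.dvd_mul, pp.dvd_mul] at d
    rcases d with (d | d) | d
    · exfalso
      have p7 := (Nat.prime_dvd_prime_iff_eq pp (by norm_num)).1 d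
      obtain ⟨y, hy⟩ := exists_prime_orderOf_dvd_card' p hp
      rw [← orderOf_coe, p7] at hy
      have zy : z ∈ zpowers (y : G) := h.nl.nb.gl.cp _ hy ▸ mem_C1.2 (mem_C1.1 (Yz k y.2)).symm
      have := orderOf_dvd_of_mem_zpowers zy
      rw [h.ns.oz, hy] at this
      omega
    · exact Or.inr ((Nat.prime_dvd_prime_iff_eq pp Nat.prime_three).1 (pp.dvd_of_dvd_pow d))
    · exact Or.inl ((Nat.prime_dvd_prime_iff_eq pp Nat.prime_two).1 (pp.dvd_of_dvd_pow d))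
  · intro y hy
    refine mem_normalizer_of_cj_le ?_
    rw [Uu, cj_iSup]
    refine iSup_le fun r => ?_
    rw [cj_cj]
    exact le_iSup (fun k : Yy M g z => cj (k : G) (V ⊔ cj g V)) ⟨y * r, mul_mem hy r.2⟩
  · have l : ∀ a ∈ ({x, g * x * g⁻¹, g * s * g⁻¹, s} : Set G),
        a ∈ Kk M g z ⊔ closure ({x, g * x * g⁻¹, g * s * g⁻¹, s} : Set G) :=
      fun a m => mem_sup_right (subset_closure m)
    have q : O2 (M ⊓ C1 z) ≤ Kk M g z ⊔ closure ({x, g * x * g⁻¹, g * s * g⁻¹, s} : Set G) :=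
      (QK h k (TQ h k tT) nt).trans (sup_le le_sup_left (zpowers_le.2 (l _ (by simp))))
    have hS : S₀ ≤ Kk M g z ⊔ closure ({x, g * x * g⁻¹, g * s * g⁻¹, s} : Set G) := fun a m => by
      by_cases e : a ∈ O2 (M ⊓ C1 z)
      · exact q e
      · have e2 : a = a * s * s⁻¹ := by group
        rw [e2]
        exact mul_mem (q (dQ h k m (sS h k) e (sQ h k))) (inv_mem (l _ (by simp)))
    refine sup_le ?_ ?_
    · rw [k.memP]
      exact sup_le hS (zpowers_le.2 (l _ (by simp)))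
    · rw [k.memP, cj_sup, gS h, cj_zpowers]
      exact sup_le hS (zpowers_le.2 (l _ (by simp)))
  · intro U₁ h1 h2 h3
    refine iSup_le fun r => ?_
    rw [← mem_Ns_iff.1 (h3 r.2)]
    exact cj_mono _ (sup_le h1 h2)
  · refine h.nl.nb.syl.2.1.to_le fun a ⟨⟨a1, a2⟩, a3⟩ => ?_
    have aM : a ∈ M := nV ▸ a2
    have az : a ∈ C1 z := Yz k a1
    have aP : a ∈ cj g (M ⊓ C1 z) := by
      rw [cj_inf, cj_C1, gz k, ← nV, cj_Ns]
      exact ⟨a3, az⟩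
    have n : a ∈ Ns (cj g (O2 (M ⊓ C1 z))) := by
      rw [← pCoreOf_cj]
      exact self_le_normalizer_pCoreOf _ aP
    have b1 := (h.nl.memS _).1 (QS' h k (mem_normalizer_conj n (cj_mono g (TQ h k) h.sT)))
    have s1 := (h.nl.memS s).1 (sS h k)
    have e := h.nl.crd.eqv a aM z h.nl.zW
    rw [mem_C1.1 az, mul_inv_cancel_right, h.nl.cz] at e
    have e1 : (π a).1 1 0 = 0 := by
      simpa [Matrix.mulVec, dotProduct, Fin.sum_univ_three] using (congrFun e 1).symm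
    have e2 : (π a).1 2 0 = 0 := by
      simpa [Matrix.mulVec, dotProduct, Fin.sum_univ_three] using (congrFun e 2).symm
    refine (h.nl.memS a).2 ⟨aM, e1, e2, nrm21 e2 b1.2 s1.2 h.s12 ?_⟩
    rw [← h.nl.ty.mul _ b1.1 _ aM, ← h.nl.ty.mul _ aM _ s1.1, inv_mul_cancel_right]

end Cfsg.Lib.K7
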