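import Cfsg.Agent.K7.LocB
import Cfsg.Agent.P8.Bas2
import Cfsg.Agent.P8.PjB

/-!
# The final step in the axis case
-/

set_option autoImplicit false

namespace Cfsg.Lib.K7

open Cfsg Subgroup Cfsg.Lib.Trans Cfsg.Lib.Gold
open Cfsg.Lib.P8 (L32 V3 O2 Om Jt Phi EA SR4 Ch E9 Pj Ty Sec SecOK Mx Crd)
open Cfsg.Lib.K35 (PSL Alt A3 NC)
open scoped commutatorElement

universe u

namespace NSI5

variable {G : Type u} [Group G]

/-- Elements of `T` that are central modulo `V`. -/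
def Wp (T V : Subgroup G) (w : G) : Prop := w ∈ T ∧ ∀ τ ∈ T, ⁅w, τ⁆ ∈ V

theorem cmul {T V : Subgroup G} (hc : ∀ t ∈ T, ∀ v ∈ V, t * v = v * t) {a b τ : G} (ha : a ∈ T)
    (hb : ⁅b, τ⁆ ∈ V) : ⁅a * b, τ⁆ = ⁅b, τ⁆ * ⁅a, τ⁆ := by
  have h1 : ⁅a * b, τ⁆ = (a * ⁅b, τ⁆) * (a⁻¹ * ⁅a, τ⁆) := by
    simp only [commutatorElement_def]; group
  rw [h1, hc a ha _ hb]; group

theorem Wp.mul {T V : Subgroup G} (hc : ∀ t ∈ T, ∀ v ∈ V, t * v = v * t) {a b : G} (ha : Wp T V a)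
    (hb : Wp T V b) : Wp T V (a * b) :=
  ⟨mul_mem ha.1 hb.1, fun τ h => by rw [cmul hc ha.1 (hb.2 τ h)]; exact mul_mem (hb.2 τ h) (ha.2 τ h)⟩

theorem Wp.cj {T V : Subgroup G} {m a : G} (hT : m ∈ Ns T) (hV : m ∈ Ns V) (ha : Wp T V a) :
    Wp T V (m * a * m⁻¹) := by
  refine ⟨mem_normalizer_conj hT ha.1, fun τ h => ?_⟩
  have h1 : ⁅m * a * m⁻¹, τ⁆ = m * ⁅a, m⁻¹ * τ * m⁆ * m⁻¹ := by
    simp only [commutatorElement_def]; group
  rw [h1]
  exact mem_normalizer_conj hV (ha.2 _ (mem_normalizer_conj' hT h))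

theorem cV {T V : Subgroup G} (hc : ∀ t ∈ T, ∀ v ∈ V, t * v = v * t) {v τ : G} (hv : v ∈ V)
    (h : τ ∈ T) : ⁅v, τ⁆ = 1 := by
  rw [commutatorElement_eq_one_iff_mul_comm]; exact (hc τ h v hv).symm

theorem Wp.ofV {T V : Subgroup G} (le : V ≤ T) (hc : ∀ t ∈ T, ∀ v ∈ V, t * v = v * t) {v : G}
    (hv : v ∈ V) : Wp T V v := ⟨le hv, fun τ h => by rw [cV hc hv h]; exact one_mem _⟩

/-- The ordered product. -/
def pr (f : ℕ → G) : ℕ → G
  | 0 => 1
  | n + 1 => pr f n * f n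

theorem pr_sum {T V : Subgroup G} (le : V ≤ T) (hc : ∀ t ∈ T, ∀ v ∈ V, t * v = v * t) (f : ℕ → G)
    (hf : ∀ i, Wp T V (f i)) (ψ : G → V3) (h1 : ψ 1 = 0)
    (hψ : ∀ a b, Wp T V a → Wp T V b → ψ (a * b) = ψ a + ψ b) (n : ℕ) :
    Wp T V (pr f n) ∧ ψ (pr f n) = ∑ i ∈ Finset.range n, ψ (f i) := by
  induction n with
  | zero => exact ⟨Wp.ofV le hc (one_mem _), by simpa [pr] using h1⟩
  | succ n ih =>
    refine ⟨Wp.mul hc ih.1 (hf n), ?_⟩
    rw [Finset.sum_range_succ, ← ih.2]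
    exact hψ _ _ ih.1 (hf n)

theorem mat (s : L32) (h : inB s) (h12 : s.1 1 2 ≠ 0) (v : V3) (e : s.1.mulVec v = v) : v 2 = 0 := by
  obtain ⟨h10, h20, h21, h01⟩ := h
  have d := s.2
  rw [Matrix.det_fin_three, h10, h20, h21, h01] at d
  have e1 := congrFun e 1
  simp only [Matrix.mulVec, dotProduct, Fin.sum_univ_three, h10] at e1
  revert d e1 h12
  generalize s.1 0 0 = a
  generalize s.1 1 1 = b
  generalize s.1 2 2 = c
  generalize s.1 1 2 = x
  generalize s.1 0 2 = y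
  generalize v 0 = v0
  generalize v 1 = v1
  generalize v 2 = v2
  revert a b c x y v0 v1 v2
  decide

theorem two (a b : V3) (h : a = b) : a + b = 0 := by
  subst h; funext i
  have : ∀ x : ZMod 2, x + x = 0 := by decide
  exact this _

/-- The norm under an element of order 7 is central. -/
theorem norm7 [Finite G] {T V : Subgroup G} (two' : IsPGroup 2 T) (le : V ≤ T)
    (hc : ∀ t ∈ T, ∀ v ∈ V, t * v = v * t) (c : G → V3)
    (add : ∀ a ∈ V, ∀ b ∈ V, c (a * b) = c a + c b) (zero : ∀ a ∈ V, c a = 0 ↔ a = 1)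
    (sq : ∀ a ∈ V, a * a = 1) {y w : G} (o : orderOf y = 7) (yT : y ∈ Ns T) (yV : y ∈ Ns V)
    (fp : T ⊓ C1 y = ⊥) (hw : Wp T V w) {τ : G} (hτ : τ ∈ T) :
    ∑ i ∈ Finset.range 7, c ⁅y ^ i * w * (y ^ i)⁻¹, τ⁆ = 0 := by
  have c1 : c 1 = 0 := (zero 1 (one_mem _)).2 rfl
  have hadd : ∀ τ ∈ T, ∀ a b, Wp T V a → Wp T V b → c ⁅a * b, τ⁆ = c ⁅a, τ⁆ + c ⁅b, τ⁆ := by
    intro τ hτ a b ha hb
    rw [cmul hc ha.1 (hb.2 τ hτ), add _ (hb.2 τ hτ) _ (ha.2 τ hτ), add_comm]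
  set f : ℕ → G := fun i => y ^ i * w * (y ^ i)⁻¹ with hf
  have fW : ∀ i, Wp T V (f i) := fun i => Wp.cj (pow_mem yT i) (pow_mem yV i) hw
  have A : ∀ τ ∈ T, Wp T V (pr f 7) ∧ c ⁅pr f 7, τ⁆ = ∑ i ∈ Finset.range 7, c ⁅f i, τ⁆ := fun τ hτ =>
    pr_sum le hc f fW (fun a => c ⁅a, τ⁆) (by simpa using c1) (hadd τ hτ) 7
  have B : ∀ τ ∈ T, c ⁅y * pr f 7 * y⁻¹, τ⁆ = ∑ i ∈ Finset.range 7, c ⁅f i, τ⁆ := by
    intro τ hτ
    have h := (pr_sum le hc f fW (fun a => c ⁅y * a * y⁻¹, τ⁆) (by simpa using c1) (fun a b ha hb => by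
      have : y * (a * b) * y⁻¹ = (y * a * y⁻¹) * (y * b * y⁻¹) := by group
      simp only [this]
      exact hadd τ hτ _ _ (Wp.cj yT yV ha) (Wp.cj yT yV hb)) 7).2
    have e : ∀ i, y * f i * y⁻¹ = f (i + 1) := fun i => by simp only [hf, pow_succ']; group
    simp only [e] at h
    rw [h]
    have f7 : f 7 = f 0 := by
      simp only [hf]; rw [← o, pow_orderOf_eq_one, pow_zero]
    have s1 := Finset.sum_range_succ (fun i => c ⁅f i, τ⁆) 7
    have s2 := Finset.sum_range_succ' (fun i => c ⁅f i, τ⁆) 7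
    simp only [f7] at s1
    rw [s1] at s2
    exact (add_right_cancel s2).symm
  have nW := (A τ hτ).1
  set n := pr f 7 with hn
  have C : ⁅n⁻¹, y⁆ ∈ T ⊓ Cs T := by
    have e : ⁅n⁻¹, y⁆ = n⁻¹ * (y * n * y⁻¹) := by simp only [commutatorElement_def]; group
    rw [e]
    refine mem_inf.2 ⟨T.mul_mem (T.inv_mem nW.1) (mem_normalizer_conj yT nW.1),
      mem_centralizer_of_conj_eq fun t ht => ?_⟩
    have m1 := (Wp.cj yT yV nW).2 t ht
    have m2 := nW.2 t ht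
    have h0 : c (⁅y * n * y⁻¹, t⁆ * ⁅n, t⁆) = 0 := by
      rw [add _ m1 _ m2]; exact two _ _ ((B t ht).trans (A t ht).2.symm)
    have h1 := (zero _ (mul_mem m1 m2)).1 h0
    have h2 : ⁅y * n * y⁻¹, t⁆ = ⁅n, t⁆ := by
      have := sq _ m2
      rw [← h1] at this
      exact (mul_right_cancel this).symm
    have h3 : (y * n * y⁻¹) * t * (y * n * y⁻¹)⁻¹ = n * t * n⁻¹ := by
      simp only [commutatorElement_def] at h2
      exact mul_right_cancel h2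
    calc n⁻¹ * (y * n * y⁻¹) * t * (n⁻¹ * (y * n * y⁻¹))⁻¹
        = n⁻¹ * ((y * n * y⁻¹) * t * (y * n * y⁻¹)⁻¹) * n := by group
      _ = t := by rw [h3]; group
  have nZ : ∀ k ∈ Ns T, k ∈ Ns (T ⊓ Cs T) := fun k hk => by
    rw [← cj_eq_self_iff, cj_inf, cj_eq_of_mem_normalizer hk,
      cj_eq_of_mem_normalizer (normalizer_le_normalizer_centralizer T hk)]
  obtain ⟨b, bT, bc, hb⟩ := P8.pf_Bas2.lift (U₁ := T ⊓ Cs T) (U₂ := T) (x := y) (a := n⁻¹) two' inf_le_left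
    (fun k hk => nZ k (le_normalizer hk)) (nZ y yT) yT (by rw [o]; decide) (inv_mem nW.1) C
  have b1 : b = 1 := by
    have : b ∈ T ⊓ C1 y := ⟨bT, mem_centralizer_singleton_iff.2 bc⟩
    rw [fp] at this; exact mem_bot.1 this
  rw [b1, mul_one, inv_inv] at hb
  have : ⁅n, τ⁆ = 1 := by
    rw [commutatorElement_eq_one_iff_mul_comm]
    exact (mem_centralizer_iff.1 hb.2 τ hτ).symm
  rw [← (A τ hτ).2, this, c1]

end NSI5

open NSI5 in
theorem i5 (hLin : StLin) : StI5.{u} := by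
  intro G _ _ M S₀ V g π c z x s ib i1 i2 hU h4
  have no := ib.nl.no
  have pj := ib.nl.ty.toPj
  have crd := ib.nl.crd
  have eV := ib.eq
  have SM : S₀ ≤ M := fun h hh => ((ib.nl.memS h).1 hh).1
  have TS := no.leT
  have nT : ∀ m ∈ M, m ∈ Ns (O2 M) := fun m hm => by rw [no.nT]; exact hm
  have nV : ∀ m ∈ M, m ∈ Ns V := fun m hm => by rw [← eV, no.nV]; exact hm
  have cVT : Cs V = O2 M := by rw [← eV]; exact no.cV
  have hc : ∀ t ∈ O2 M, ∀ v ∈ V, t * v = v * t := fun t ht v hv => by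
    rw [← cVT] at ht; exact (mem_centralizer_iff.1 ht v hv).symm
  have le : V ≤ O2 M := fun v hv => ((no.memV v).1 (by rw [eV]; exact hv)).1
  have sq : ∀ a ∈ V, a * a = 1 := fun v hv => ((no.memV v).1 (by rw [eV]; exact hv)).2.1
  have c1 : c 1 = 0 := (crd.zero 1 (one_mem _)).2 rfl
  have nV' : ∀ k ∈ S₀, k ∈ Ns (cj g V) := fun k hk => by
    refine mem_normalizer_of_cj_le (cj_le_iff.2 fun w hw => mem_cj.2 ?_)
    have h1 : g⁻¹ * k * g ∈ S₀ := mem_normalizer_conj' ib.nl.nb.nor hk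
    have h2 := mem_normalizer_conj (nV _ (SM h1)) (mem_cj.1 hw)
    have e : g⁻¹ * (k * w * k⁻¹) * g = g⁻¹ * k * g * (g⁻¹ * w * g) * (g⁻¹ * k * g)⁻¹ := by group
    rw [e]; exact h2
  have idx : V.relIndex (cj g V) = 2 := by
    have h1 := (V.subgroupOf (cj g V)).card_mul_index
    have h2 : Nat.card (V.subgroupOf (cj g V)) = 4 := by
      rw [← i1.cap, ← inf_subgroupOf_right]
      exact Nat.card_congr (subgroupOfEquivOfLe inf_le_right).toEquiv
    rw [h2, card_cj, ib.ns.cW] at h1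
    unfold relIndex
    omega
  obtain ⟨v', v'V', v'V⟩ : ∃ v' ∈ cj g V, v' ∉ V := by
    by_contra h
    push Not at h
    rw [relIndex_eq_one.2 h] at idx
    exact absurd idx (by decide)
  have ix : ∀ a ∈ cj g V, a ∉ V → a * v'⁻¹ ∈ V := fun a ha hn => by
    have := (mul_mem_iff_of_index_two (H := V.subgroupOf (cj g V)) idx
      (a := ⟨a, ha⟩) (b := ⟨v'⁻¹, inv_mem v'V'⟩)).2 (by
        simp only [mem_subgroupOf, inv_mem_iff]; exact iff_of_false hn v'V)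
    exact this
  have sv : ∀ k ∈ S₀, k * v' * k⁻¹ * v'⁻¹ ∈ V ∧ k * v' * k⁻¹ * v'⁻¹ ∈ cj g V := fun k hk => by
    have h1 := mem_normalizer_conj (nV' k hk) v'V'
    refine ⟨ix _ h1 fun h => v'V ?_, mul_mem h1 (inv_mem v'V')⟩
    have := mem_normalizer_conj' (nV k (SM hk)) h
    simpa [mul_assoc] using this
  have cv : ∀ t ∈ O2 M, ⁅v', t⁆ ∈ V ∧ ⁅v', t⁆ ∈ cj g V := fun t ht => by
    have e : ⁅v', t⁆ = (t * v' * t⁻¹ * v'⁻¹)⁻¹ := by simp only [commutatorElement_def]; group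
    rw [e]; exact ⟨inv_mem (sv t (TS ht)).1, inv_mem (sv t (TS ht)).2⟩
  have vW : Wp (O2 M) V v' := ⟨ib.le v'V', fun t ht => (cv t ht).1⟩
  have mW : ∀ m ∈ M, Wp (O2 M) V (m * v' * m⁻¹) := fun m hm => Wp.cj (nT m hm) (nV m hm) vW
  have sM : s ∈ M := by
    have h1 : g⁻¹ * s * g ∈ S₀ := TS (mem_cj.1 ib.sT)
    have h2 := mem_normalizer_conj ib.nl.nb.nor h1
    have e : g * (g⁻¹ * s * g) * g⁻¹ = s := by group
    rw [e] at h2; exact SM h2
  have c2 : ∀ w ∈ V, w ∈ cj g V → c w 2 = 0 := fun w hw hw' => by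
    refine mat (π s) (ib.allB s ib.sT) ib.s12 _ ?_
    rw [← crd.eqv s sM w hw]
    have h1 := hc _ (mem_cj.1 ib.sT) _ (mem_cj.1 hw')
    have h2 : s * w * s⁻¹ = w := by
      calc s * w * s⁻¹ = g * ((g⁻¹ * s * g) * (g⁻¹ * w * g)) * g⁻¹ * s⁻¹ := by group
        _ = w := by rw [h1]; group
    rw [h2]
  have hadd : ∀ τ ∈ O2 M, ∀ a b, Wp (O2 M) V a → Wp (O2 M) V b → c ⁅a * b, τ⁆ = c ⁅a, τ⁆ + c ⁅b, τ⁆ := by
    intro τ hτ a b ha hb
    rw [cmul hc ha.1 (hb.2 τ hτ), crd.add _ (hb.2 τ hτ) _ (ha.2 τ hτ), add_comm]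
  have key : ∀ τ ∈ O2 M, ⁅v', τ⁆ = 1 → ⁅x * v' * x⁻¹, τ⁆ = 1 → ∀ m ∈ M, ⁅m * v' * m⁻¹, τ⁆ = 1 := by
    intro τ hτ t1 t2
    choose sec secM secπ using pj.sur
    have inv : ∀ m ∈ M, ∀ k ∈ S₀, c ⁅m * k * v' * (m * k)⁻¹, τ⁆ = c ⁅m * v' * m⁻¹, τ⁆ := by
      intro m hm k hk
      have e : m * k * v' * (m * k)⁻¹ = (m * (k * v' * k⁻¹ * v'⁻¹) * m⁻¹) * (m * v' * m⁻¹) := by group
      have d := mem_normalizer_conj (nV m hm) (sv k hk).1
      rw [e, hadd τ hτ _ _ (Wp.ofV le hc d) (mW m hm), cV hc d hτ, c1, zero_add]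
    set e : L32 → V3 := fun h => c ⁅sec h * v' * (sec h)⁻¹, τ⁆ with he
    have ev : ∀ m ∈ M, e (π m) = c ⁅m * v' * m⁻¹, τ⁆ := fun m hm => by
      have h1 : m⁻¹ * sec (π m) ∈ O2 M := (P8.PjBH.eq_iff pj hm (secM _)).1 (secπ _).symm
      have h2 := inv m hm _ (TS h1)
      rw [mul_inv_cancel_left] at h2
      exact h2
    have z0 : ∀ h, e h = 0 := by
      refine hLin e (fun h k k1 k2 k3 => ?_) (fun h => ?_) (fun h σ o => ?_) (fun h => ?_) ?_ ?_
      · have kS : sec k ∈ S₀ := (ib.nl.memS _).2 ⟨secM k, by rw [secπ]; exact ⟨k1, k2, k3⟩⟩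
        have h1 : h * k = π (sec h * sec k) := by rw [pj.mul _ (secM _) _ (secM _), secπ, secπ]
        rw [h1, ev _ (mul_mem (secM _) (secM _)), inv _ (secM _) _ kS]
      · have h1 : h⁻¹ = π (sec h)⁻¹ := by rw [P8.PjBH.inv pj (secM _), secπ]
        have h2 := crd.eqv _ (inv_mem (secM h)) _ ((mW _ (secM h)).2 τ hτ)
        have h3 : (sec h)⁻¹ * ⁅sec h * v' * (sec h)⁻¹, τ⁆ * (sec h)⁻¹⁻¹ =
            ⁅v', (sec h)⁻¹ * τ * sec h⁆ := by simp only [commutatorElement_def]; group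
        have h4 := cv _ (mem_normalizer_conj' (nT _ (secM h)) hτ)
        rw [h3] at h2
        rw [h1]
        have := c2 _ h4.1 h4.2
        rw [h2] at this
        exact this
      · obtain ⟨y, hy, yπ, oy⟩ := P8.PjBH.odd pj (sec σ) (secM σ) (by rw [secπ, o]; decide)
        rw [secπ] at yπ oy
        have yM : y ∈ M := zpowers_le.2 (secM σ) hy
        have h1 := norm7 pj.two le hc c crd.add crd.zero sq (oy.trans o) (nT y yM) (nV y yM)
          (no.fp y yM (oy.trans o)) (mW _ (secM h)) hτ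
        rw [← h1]
        refine Finset.sum_congr rfl fun i _ => ?_
        have h2 : σ ^ i * h = π (y ^ i * sec h) := by
          rw [pj.mul _ (pow_mem yM i) _ (secM h), P8.PjBH.pow pj yM, yπ, secπ]
        rw [h2, ev _ (mul_mem (pow_mem yM i) (secM h))]
        congr 2; group
      · have m := secM h
        have xM := ib.xM
        have h1 : h * xA = π (sec h * x) := by rw [pj.mul _ m _ xM, secπ, ib.px]
        have h2 : h * xA * xA = π (sec h * x * x) := by rw [pj.mul _ (mul_mem m xM) _ xM, ← h1, ib.px]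
        rw [h2, h1, ev _ (mul_mem m xM), ev _ (mul_mem (mul_mem m xM) xM), he]
        simp only
        rw [← hadd τ hτ _ _ (mW _ m) (mW _ (mul_mem m xM)),
          ← hadd τ hτ _ _ (Wp.mul hc (mW _ m) (mW _ (mul_mem m xM))) (mW _ (mul_mem (mul_mem m xM) xM))]
        have d := mem_normalizer_conj (nV _ m) (h4 v' v'V')
        have e3 : sec h * v' * (sec h)⁻¹ * (sec h * x * v' * (sec h * x)⁻¹) *
            (sec h * x * x * v' * (sec h * x * x)⁻¹) =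
            sec h * (v' * (x * v' * x⁻¹) * (x * x * v' * (x * x)⁻¹)) * (sec h)⁻¹ := by group
        rw [e3, cV hc d hτ, c1]
      · rw [← P8.PjBH.one pj, ev 1 (one_mem _), one_mul, inv_one, mul_one, t1, c1]
      · rw [← ib.px, ev x ib.xM, t2, c1]
    intro m hm
    exact (crd.zero _ ((mW m hm).2 τ hτ)).1 ((ev m hm).symm.trans (z0 _))
  have VU : V ≤ Uu M V g z := by rw [hU]; exact le_sup_left.trans le_sup_left
  have NT : Cs (Uu M V g z) ≤ O2 M := by rw [← cVT]; exact centralizer_le VU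
  have nM : M ≤ Ns (Cs (Uu M V g z)) := by
    intro m hm
    refine mem_normalizer_of_cj_le (cj_le_iff.2 fun τ hτ => ?_)
    have τT := NT hτ
    have a1 : v' ∈ Uu M V g z := by rw [hU]; exact (le_sup_right.trans le_sup_left : cj g V ≤ _) v'V'
    have a2 : x * v' * x⁻¹ ∈ Uu M V g z := by
      rw [hU]; exact (le_sup_right : cj x (cj g V) ≤ _) (conj_mem_cj.2 v'V')
    have k := key τ τT (commutatorElement_eq_one_iff_mul_comm.2 (mem_centralizer_iff.1 hτ _ a1))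
      (commutatorElement_eq_one_iff_mul_comm.2 (mem_centralizer_iff.1 hτ _ a2))
    have τ' := mem_normalizer_conj (nT m hm) τT
    have k1 : ∀ l ∈ M, l * v' * l⁻¹ ∈ C1 (m * τ * m⁻¹) := fun l hl => by
      have h1 := commutatorElement_eq_one_iff_mul_comm.1 (k (m⁻¹ * l) (mul_mem (inv_mem hm) hl))
      refine mem_centralizer_singleton_iff.2 ?_
      calc l * v' * l⁻¹ * (m * τ * m⁻¹) = m * (m⁻¹ * l * v' * (m⁻¹ * l)⁻¹ * τ) * m⁻¹ := by group
        _ = m * τ * m⁻¹ * (l * v' * l⁻¹) := by rw [h1]; group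
    have k0 : V ≤ C1 (m * τ * m⁻¹) := fun v hv => mem_centralizer_singleton_iff.2 (hc _ τ' v hv).symm
    have k2 : ∀ l ∈ M, ∀ w ∈ cj g V, l * w * l⁻¹ ∈ C1 (m * τ * m⁻¹) := fun l hl w hw => by
      by_cases hV : w ∈ V
      · exact k0 (mem_normalizer_conj (nV l hl) hV)
      · have e : l * w * l⁻¹ = (l * (w * v'⁻¹) * l⁻¹) * (l * v' * l⁻¹) := by group
        rw [e]
        exact mul_mem (k0 (mem_normalizer_conj (nV l hl) (ix w hw hV))) (k1 l hl)
    have k3 : Uu M V g z ≤ C1 (m * τ * m⁻¹) := by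
      rw [hU]
      refine sup_le (sup_le k0 fun w hw => ?_) (cj_le_iff.2 (k2 x ib.xM))
      simpa using k2 1 (one_mem _) w hw
    exact mem_centralizer_iff.2 fun u hu => mem_centralizer_singleton_iff.1 (k3 hu)
  have bot := no.nrm _ (pj.two.to_le NT) nM (normalizer_le_normalizer_centralizer _ i2.gU)
  have zU := VU ib.nl.zW
  have zC : z ∈ Cs (Uu M V g z) := mem_centralizer_iff.2 fun u hu => by
    have := i2.ea.1
    exact congrArg Subtype.val (this.is_comm.comm (⟨u, hu⟩ : Uu M V g z) ⟨z, zU⟩)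
  rw [bot] at zC
  have := ib.ns.oz
  rw [mem_bot.1 zC, orderOf_one] at this
  exact absurd this (by decide)

end Cfsg.Lib.K7
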