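import Cfsg.Agent.K7.NSU2

/-!
# Abelian 2-subgroups of `G₂(2)`
-/

set_option autoImplicit false
set_option maxRecDepth 100000

namespace Cfsg.Lib.K7.NSU4

open Cfsg Subgroup Cfsg.Lib.Trans Cfsg.Lib.Gold Cfsg.Lib.Chev Cfsg.Lib.Class NSU2

/-- The codes of the elements of the Sylow subgroup. -/
def cd (e : ℕ) : ℕ := Nat.land (Nat.shiftRight 0x1060600600030001003020600600010003003030100100060003001010200200020001001060600600030001003020600600010003003030100100060003001010200200020001002030600600060002006010600600020006006060100100030006002020200200010002002030600600060002006010600600020006006060100100030006002020200200010002002060300300030002006020300300010006006030200200060006002010100100020002002060300300030002006020300300010006006030200200060006002010100100020002001030300300060001003010300300020003003060200200030003001020100100010001001030300300060001003010300300020003003060200200030003001020100100010001 (Nat.mul 36 e)) 68719476735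

/-- Outer elements. -/
def ou (e : ℕ) : Bool := xor (e.testBit 1) (xor (e.testBit 2) (e.testBit 3))

/-- The code of a product. -/
def pd (e f : ℕ) : ℕ := Nat.rec 0 (fun a _ => Nat.rec 0 (fun b _ =>
  enc (mk a * cond (ou e) ((mk b).map (· ^ 3)) (mk b))) (Nat.succ (cd f))) (Nat.succ (cd e))

theorem cd_eq_1' : type_of% @cd.eq_1 := @cd.eq_1
theorem ou_eq_1' : type_of% @ou.eq_1 := @ou.eq_1
theorem pd_eq_1' : type_of% @pd.eq_1 := @pd.eq_1

theorem spec : ∀ e < 64, (∀ r ∈ swL e, r < 12) ∧ fe (swL e) = cd e ∧ (g2Ev (swL e)).2 = ou e := by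
  decide +kernel

theorem pd_eq {e f : ℕ} (he : e < 64) (hf : f < 64) : pd e f = enc (sw e * sw f).left.1.1 := by
  have h : ∀ e < 64, mk (cd e) = (sw e).left.1.1 := fun e he => by
    rw [← (spec e he).2.1, fe_eq, mk_enc, sw, (g2Ev_spec (spec e he).1).1]
  have e1 : pd e f = enc (mk (cd e) * cond (ou e) ((mk (cd f)).map (· ^ 3)) (mk (cd f))) := rfl
  have e2 : (sw e).right = cond (ou e) cube9 1 := by
    rw [sw, (g2Ev_spec (spec e he).1).2, (spec e he).2.2]
  rw [e1, h e he, h f hf, SemidirectProduct.mul_left, e2]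
  cases ou e <;> rfl

theorem bound (hUS : StUS) {B : Subgroup Gm} (h2 : IsPGroup 2 B) (hc : IsMulCommutative B)
    (p : ℕ → Prop) [DecidablePred p] (hp : ∀ x, ∀ e < 64, sw e ∈ cj x B → p e) {n : ℕ}
    (h : ((Finset.range 64).filter fun e => p e ∧ n < ((Finset.range 64).filter fun f =>
      p f ∧ pd e f = pd f e).card).card ≤ n) : Nat.card B ≤ n := by
  classical
  obtain ⟨S, hS, hm⟩ := hUS
  have : Fact (Nat.Prime 2) := ⟨Nat.prime_two⟩
  have : Finite Gm := Nat.finite_of_card_ne_zero (by rw [card_GamU33]; decide)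
  obtain ⟨x, -, hx⟩ := hS.exists_cj_le h2 le_top
  let E := (Finset.range 64).filter fun e => sw e ∈ cj x B
  have mE : ∀ e, e ∈ E ↔ e < 64 ∧ sw e ∈ cj x B := fun e => by simp [E]
  have h1 : Nat.card B ≤ E.card := by
    rw [← card_cj x B, ← Nat.card_eq_finsetCard]
    refine Nat.card_le_card_of_surjective (fun e : E => (⟨sw e, ((mE e).1 e.2).2⟩ : cj x B))
      fun b => ?_
    obtain ⟨e, he, e1⟩ := (hm b).1 (hx b.2)
    exact ⟨⟨e, (mE e).2 ⟨he, e1 ▸ b.2⟩⟩, Subtype.ext e1.symm⟩
  by_contra hn
  refine hn (h1.trans ((Finset.card_le_card fun e he => ?_).trans h))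
  obtain ⟨h3, h4⟩ := (mE e).1 he
  refine Finset.mem_filter.2 ⟨Finset.mem_range.2 h3, hp x e h3 h4, (not_le.1 hn).trans_le
    (h1.trans (Finset.card_le_card fun f hf => ?_))⟩
  obtain ⟨h5, h6⟩ := (mE f).1 hf
  refine Finset.mem_filter.2 ⟨Finset.mem_range.2 h5, hp x f h5 h6, ?_⟩
  have k := congrArg Subtype.val (hc.is_comm.comm (⟨_, mem_cj.1 h4⟩ : B) ⟨_, mem_cj.1 h6⟩)
  have k' : sw e * sw f = sw f * sw e := by
    refine (MulAut.conj x⁻¹).injective ?_
    simpa [mul_assoc] using k
  rw [pd_eq h3 h5, pd_eq h5 h3, k']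

theorem main (hUS : StUS) (hU1 : StU1) : StU4 := by
  refine ⟨fun B h2 hc => bound hUS h2 hc (fun _ => True) (fun _ _ _ _ => trivial)
    (by decide +kernel), fun E hL hE => bound hUS (fun g => ⟨1, Subtype.ext (hE.2 g g.2)⟩) hE.1
      (fun e => ou e = false ∧ pd e e = cd 0) (fun x e he h => ⟨?_, ?_⟩) (by decide +kernel)⟩
  · have k : sw e ∈ L0 := by
      simpa [mul_assoc] using (inferInstance : L0.Normal).conj_mem _ (hL (mem_cj.1 h)) x
    rw [hU1.2.2.1, sw, (g2Ev_spec (spec e he).1).2, (spec e he).2.2] at k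
    by_contra hn
    rw [(Bool.not_eq_false _).mp hn] at k
    exact absurd (DFunLike.congr_fun k (T9.c 3)) (by decide +kernel)
  · have k := hE.2 _ (mem_cj.1 h)
    have k' : sw e * sw e = 1 := by
      refine (MulAut.conj x⁻¹).injective ?_
      simpa [mul_assoc, pow_two] using k
    rw [pd_eq he he, k']
    decide +kernel

end Cfsg.Lib.K7.NSU4
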