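import Cfsg.Agent.K7.LocB

/-!
# Modules for `U₃(3)` on which the elements of order seven have no fixed points: a certificate
-/

set_option autoImplicit false

namespace Cfsg.Lib.K7

open Cfsg Subgroup Cfsg.Lib.Class

universe u

namespace U6c

/-- The matrix with the given code. -/
def mat (n : ℕ) : Matrix (Fin 3) (Fin 3) T9 :=
  Matrix.of fun i j => T9.c (n >>> (4 * (3 * i.1 + j.1)) % 16)

/-- The matrix is special unitary. -/
def good (n : ℕ) : Prop := (mat n).det = 1 ∧ (mat n).transpose * (mat n).map (· ^ 3) = 1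

instance good.dec (n : ℕ) : Decidable (good n) :=
  decidable_of_iff (mat n 0 0 * mat n 1 1 * mat n 2 2 - mat n 0 0 * mat n 1 2 * mat n 2 1 -
    mat n 0 1 * mat n 1 0 * mat n 2 2 + mat n 0 1 * mat n 1 2 * mat n 2 0 +
    mat n 0 2 * mat n 1 0 * mat n 2 1 - mat n 0 2 * mat n 1 1 * mat n 2 0 = 1 ∧
    (mat n).transpose * (mat n).map (· ^ 3) = 1) (by rw [good, Matrix.det_fin_three])

/-- The unitary matrix with the given code. -/
noncomputable def su (n : ℕ) : SU 3 T9 3 :=
  if h : good n then ⟨⟨mat n, h.1⟩,
    (Perm.mem_SU_iff_mul (Chev.cube9 : T9 →+* T9) (fun _ => rfl) _).2 h.2⟩ else 1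

/-- The group element with the given code. -/
noncomputable def el (n : ℕ) : L0 := Chev.su33Equiv (su n)

theorem su_val {n : ℕ} (h : good n) : (su n).1.1 = mat n := by
  rw [su, dif_pos h]

theorem el_val (n : ℕ) : (el n : Chev.GamU33) = SemidirectProduct.inl (su n) := rfl

theorem el_mul {a b c d : ℕ} (ha : good a) (hb : good b) (hc : good c) (hd : good d)
    (h : mat a * mat b = mat c * mat d) : el a * el b = el c * el d := by
  rw [el, el, el, el, ← map_mul, ← map_mul]
  refine congrArg _ (Subtype.ext (Subtype.ext ?_))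
  change (su a).1.1 * (su b).1.1 = (su c).1.1 * (su d).1.1
  rw [su_val ha, su_val hb, su_val hc, su_val hd, h]

theorem el_one : el 0x100010001 = 1 := by
  rw [el, ← map_one Chev.su33Equiv]
  refine congrArg _ (Subtype.ext (Subtype.ext ?_))
  rw [su_val (by decide +kernel)]
  change mat _ = 1
  decide +kernel

theorem el_mul' {a b c : ℕ} (ha : good a) (hb : good b) (hc : good c) (h : mat a * mat b = mat c) :
    el a * el b = el c := by
  rw [el_mul ha hb hc (d := 0x100010001) (by decide +kernel) (by
    rw [h, show mat 0x100010001 = 1 by decide +kernel, mul_one]), el_one, mul_one]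

theorem el_ne {a : ℕ} (ha : good a) (h : mat a ≠ 1) : el a ≠ 1 := fun e => h (by
  rw [el, ← map_one Chev.su33Equiv] at e
  rw [← su_val ha, Chev.su33Equiv.injective e]
  rfl)

def tb (T b i : ℕ) : ℕ := T >>> (b * i) % 2 ^ b

def wT (i : ℕ) : ℕ := tb 0x2470450570668115511866075117664570671227761682405273138134470450238234268615540413656167627686832651763238251664712550006750143407246325143566600030001327713271151705686641681504283531334470614265054861461805276681804242676562372125156508253315763246667840118618353731337341716526643264504276173628318580413286227462153637376416237421138146861327386822114353365373736707020408135137540683115521176118716507141181805372671833152125088736412317172516411186168512646127862272134276711135822733048821224356526152327816531058371405351281505241651634423235682466507343151054526513521077463512237173246763627433153614058431462708030807422286268531731087315536183766057733723045862318376531470328137337821142173721165251115863708276256171668711238513686508341381732761047151507343667766676164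740625224750228642253405084866466143115413351762117832432078550840002512521088045300054831172234138526386134540615813673267625164740431272268010808507057722866615861386712077836060407508526228173006100030422822057383215512508146371580628318153637462618423282504286372780328324078532426088812536282507181055836521235580165862723045404386346880125215642265436045823423561826078227413286652364426866466084516172625653142808646364463353411228450164168682642508526085832804808030641267866536118142217880215334664480563088412681624721020006600656365736811182635243732364412337142507171383251168831513686238118682862002450850351508243124153516671183504225416146646343408642214461404281376436324273617264540087762562114432342273635461337750667218641462381704682100006060118667840088048600128182733272721364135711153422075822805173641740235165404060804570550003283736615314532373084100077186807146372671805252646507615470617634731183411335282218770214227117480085074300241237531683863338421763088676816265317831346341665716020002100338334480235511176766811048241566128722866057246164412085432513652766168407143183440218635328137470171433117643368833667141411823087423505346271315870625642618712010804707761167242422084766271217833078561826807672371880638368281614813176156704562676324653707356001200020227436251811128376861054832351652807356135813114256526143651504643683404672225531337228840372708143318512681341431118138780617540325138058516523761656314536044421861726085450317315100010001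 36 i

def hT (i : ℕ) : ℕ := tb 0x580470006770750006060100006780580002840770002600060002450780003880840003020600003850450001570880001200020001740850006550570006030200006540740002480550002300030002870540003440480003470870001010300003750440001100010001 36 i

def pT (f i : ℕ) : ℕ := tb (if f = 0 then 0xabf7cd1a89f92a6bfb7738fa530fe151f4f5f84ca9b49c6da3b1f0b2f60a49e866e52f5ef268d863ef6f5c841e9bf3aff1c37aeeed90d33eecebeabddd88d1c2e928138ce3e7e6bfe4473593e23ae0b6df5b27ded72d4580dcdba6daa0d986d6d5d4d2a2168ec9b8add098cfc6cecccbcac8c7c5c491c1c0be3c58bcbb40bab9b78208b5b333b0aeac95aaa87402a7a5a44ea19f9e9d1c4b11729a9997969492428f8d8b8a7d87858323817f7e7c187b04797876757371706e6c6a696765646261605f5d295a59575655540052504f4d06314a48464443413f3d3b3937363432302e2c2b200c25262422211f1d1b1917151412100e0d0b0907050301 else 0xf8f3e6f1b3dcdbc5edb0fba8e4e7fad6f9ee83c0eaebf7c8768a7871f6f56cdfdebb8b9465ce6299d46ebcf4b7ec8ff2daf0e2ef9f55d07354819ab9e95d5092cb75e87ea5a1d948e5e3bacc46e1c4c7e06a87cad2ddcf56aa44793facc1d8d7d59ed37f415abe9d37d136968d4fcd34b5c9a4c670c3c230bf2e85bd5f7b2c4ab87cb6aeb4b2b1afad26aba967a724a697a3a2a043229c2b219b3957981f959391908e8c4d89888684618280597d6064177a1577147472696f6d6b12686619631d10525e5c5b3b580e1b32530d513d4e4c4b0b4947450942403e3c3a38073533312f2d052a292827252303201e1c1a18160113110f000c0a08060402)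 8 i

def kT (f i : ℕ) : ℕ := tb (if f = 0 then 0xe14020015061110050101021400150a04020011020d0d070c0e0a0d00000b020a05150c021213170a121300020b000f000e1500000b0a0f0000000e130d1202000b10171400000b00011601000912050007130010110d0200000c00100017000000000f0a0a1404120002000d00000000000000000100000009020000170000000816000000000000020000150a0000000a000000000915050f0000000000000700000000110000000200000000100002000000000000000000000000000000000000000400000000000000000000000a08000000000000000000000000000000000000050e10000000000000000000000000000000000000000000 else 0x110f100b001601110908001501110017000d100a150a0003000510001100000e0307060f000315090f000900060213001100170012000b11001400100a08000f04080004070305000000131300000b170008000217000e16130b01000b04000002160007151113090000000b08170000110004000000000000000700141600170005000a00000000000000000c050000020000000c00001300001202000000000000000000000000000a000005001508000000000000001100000000000012000900160000000f00000f0900000006000000000000000000000000000000000000000000000000000000000000000000000000000000000000000000)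 8 i

def gT (f : ℕ) : ℕ := if f = 0 then 0x450317315 else 0x861726085

def sT (f : ℕ) : ℕ := if f = 0 then 0x750440001 else 0x10300003

def prT (i : ℕ) : ℕ := tb 0x14131211100f0e0d0c0b0a09080706050402020101000000 8 i

def pfT (i : ℕ) : ℕ := tb 0x10101010101010101010101010101010101000100010000 8 i

def pw (l : List ℕ) (i : ℕ) : ℕ := l.getD i 0

def ys : List ℕ := [0x100010001, 0x450317315, 0x536044421, 0x138780617, 0x143651504, 0x807672371, 0x766811048, 0x100010001]

def ds : List ℕ := [0x100010001, 0x10300003, 0x300030002, 0x30200006, 0x200020001, 0x20600003, 0x600060002, 0x60100006, 0x100010001]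

def rel : List (ℕ × List ℕ) :=
  [(4, []), (6, []), (8, []), (10, []), (15, []), (19, []), (26, []), (28, []), (30, []), (40,
    []), (42, []), (56, []), (71, []), (73, []), (83, []), (92, []), (104, []), (109, []), (2,
    [1]), (8, [1]), (15, [1]), (17, [1]), (26, [1]), (30, [1]), (35, [1]), (42, [1]), (53, [1]),
    (60, [1]), (66, [1]), (71, [1]), (73, [1]), (92, [1]), (102, [1]), (104, [1]), (107, [1]), (2,
    [1, 0]), (4, [1, 0]), (6, [1, 0]), (8, [1, 0]), (17, [1, 0]), (19, [1, 0]), (28, [1, 0]), (30,
    [1, 0]), (35, [1, 0]), (39, [1, 0]), (40, [1, 0]), (42, [1, 0]), (53, [1, 0]), (56, [1, 0]),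
    (58, [1, 0]), (73, [1, 0]), (92, [1, 0]), (104, [1, 0]), (109, [1, 0]), (4, [1, 1]), (10, [1,
    1]), (15, [1, 1]), (17, [1, 1]), (19, [1, 1]), (40, [1, 1]), (42, [1, 1]), (58, [1, 1]), (66,
    [1, 1]), (81, [1, 1]), (0, [1, 0, 0]), (2, [1, 0, 0]), (4, [1, 0, 0]), (19, [1, 0, 0]), (42,
    [1, 0, 0]), (53, [1, 0, 0]), (76, [1, 0, 0]), (81, [1, 0, 0]), (107, [1, 0, 0]), (109, [1, 0,
    0]), (0, [1, 0, 1]), (10, [1, 0, 1]), (15, [1, 0, 1]), (26, [1, 0, 1]), (28, [1, 0, 1]), (30,
    [1, 0, 1]), (40, [1, 0, 1]), (45, [1, 0, 1]), (53, [1, 0, 1]), (60, [1, 0, 1]), (71, [1, 0,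
    1]), (73, [1, 0, 1]), (81, [1, 0, 1]), (92, [1, 0, 1]), (102, [1, 0, 1]), (107, [1, 0, 1]),
    (109, [1, 0, 1]), (2, [1, 1, 0]), (6, [1, 1, 0]), (19, [1, 1, 0]), (26, [1, 1, 0]), (28, [1, 1,
    0]), (30, [1, 1, 0]), (35, [1, 1, 0]), (39, [1, 1, 0]), (40, [1, 1, 0]), (42, [1, 1, 0]), (56,
    [1, 1, 0]), (6, [1, 0, 0, 0]), (8, [1, 0, 0, 0]), (10, [1, 0, 0, 0]), (12, [1, 0, 0, 0]), (15,
    [1, 0, 0, 0]), (26, [1, 0, 0, 0]), (30, [1, 0, 0, 0]), (2, [1, 0, 1, 0]), (6, [1, 0, 1, 0]),
    (0, [1, 0, 1, 1]), (0, [1, 1, 0, 0])]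

def orb (i : ℕ) : List ℕ := (List.range 7).map fun k => (pT 0)^[k] i

def pts (r : ℕ × List ℕ) : List ℕ := r.2.foldl (fun l f => l.map (pT f)) (orb r.1)

def msk (l : List ℕ) : ℕ := l.foldr (fun i m => m ^^^ 2 ^ i) 0

theorem c1 : (∀ i < 252, good (wT i)) ∧ (∀ i < 24, good (hT i)) ∧ (∀ f < 2, good (gT f) ∧ good (sT f)) ∧
    wT 0 = 0x100010001 ∧ hT 0 = 0x100010001 := by
  refine ⟨?_, ?_, ?_, ?_, ?_⟩ <;> decide +kernel

theorem c2 : ∀ f < 2, ∀ i < 252, pT f i < 252 ∧ kT f i < 24 ∧
    mat (gT f) * mat (wT i) = mat (wT (pT f i)) * mat (hT (kT f i)) := by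
  decide +kernel

theorem c3 : ∀ i < 24, i = 0 ∨ (prT i < i ∧ pfT i < 2 ∧ mat (sT (pfT i)) * mat (hT (prT i)) = mat (hT i)) := by
  decide +kernel

theorem c4 : (∀ i < 8, good (pw ys i)) ∧ (∀ i < 7, mat (gT 0) * mat (pw ys i) = mat (pw ys (i + 1))) ∧
    pw ys 7 = 0x100010001 ∧ mat (gT 0) ≠ 1 ∧ (∀ i < 9, good (pw ds i)) ∧
    (∀ i < 8, mat (sT 1) * mat (pw ds i) = mat (pw ds (i + 1))) ∧ pw ds 8 = 0x100010001 ∧
    good 0x470870001 ∧ mat (sT 0) * mat (sT 0) = mat 0x470870001 ∧ mat (sT 0) * mat (sT 1) = mat (sT 1) * mat 0x470870001 := by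
  refine ⟨?_, ?_, ?_, ?_, ?_, ?_, ?_, ?_, ?_, ?_⟩ <;> decide +kernel

theorem c5 : (∀ r ∈ rel, r.1 < 252 ∧ ∀ f ∈ r.2, f < 2) ∧ msk (rel.flatMap pts) = 1 := by
  refine ⟨?_, ?_⟩ <;> decide +kernel

theorem pow_el {g n : ℕ} {l : List ℕ} (hg : good g) (h0 : pw l 0 = 0x100010001)
    (h1 : ∀ i < n + 1, good (pw l i)) (h2 : ∀ i < n, mat g * mat (pw l i) = mat (pw l (i + 1))) :
    ∀ i < n + 1, el g ^ i = el (pw l i) := by
  intro i
  induction i with
  | zero => intro _; rw [h0, el_one, pow_zero]
  | succ i ih =>
    intro hi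
    rw [pow_succ', ih (by omega), el_mul' hg (h1 i (by omega)) (h1 _ hi) (h2 i (by omega))]

theorem o7 : orderOf (el (gT 0)) = 7 := by
  have : Fact (Nat.Prime 7) := ⟨by norm_num⟩
  have g := (c1.2.2.1 0 (by norm_num)).1
  refine orderOf_eq_prime ?_ (el_ne g c4.2.2.2.1)
  rw [pow_el g rfl c4.1 c4.2.1 7 (by norm_num), c4.2.2.1, el_one]

theorem d8 : el (sT 1) ^ 8 = 1 := by
  rw [pow_el (c1.2.2.1 1 (by norm_num)).2 rfl c4.2.2.2.2.1 c4.2.2.2.2.2.1 8 (by norm_num),
    c4.2.2.2.2.2.2.1, el_one]

theorem rd : el (sT 0) * el (sT 1) = el (sT 1) * (el (sT 0) * el (sT 0)) := by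
  obtain ⟨-, -, -, -, -, -, -, g, e, f⟩ := c4
  have a := (c1.2.2.1 0 (by norm_num)).2
  have b := (c1.2.2.1 1 (by norm_num)).2
  rw [el_mul' a a g e, el_mul a b b g f]

section
variable {B : Type u} [AddCommGroup B] [DistribMulAction L0 B]

theorem fixH {v : B} (h : ∀ f < 2, el (sT f) • v = v) : ∀ i < 24, el (hT i) • v = v := by
  intro i
  induction i using Nat.strong_induction_on with
  | _ i ih =>
    intro hi
    rcases c3 i hi with rfl | ⟨a, b, e⟩
    · rw [c1.2.2.2.2, el_one, one_smul]
    · rw [← el_mul' (c1.2.2.1 _ b).2 (c1.2.1 _ (by omega)) (c1.2.1 _ hi) e, mul_smul,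
        ih _ a (by omega), h _ b]

theorem act {v : B} (h : ∀ f < 2, el (sT f) • v = v) {f i : ℕ} (hf : f < 2) (hi : i < 252) :
    pT f i < 252 ∧ el (gT f) • el (wT i) • v = el (wT (pT f i)) • v := by
  obtain ⟨a, b, e⟩ := c2 f hf i hi
  refine ⟨a, ?_⟩
  rw [← mul_smul, el_mul (c1.2.2.1 f hf).1 (c1.1 i hi) (c1.1 _ a) (c1.2.1 _ b) e, mul_smul,
    fixH h _ b]

/-- The sum over a list of points vanishes. -/
def Z (v : B) (l : List ℕ) : Prop := (∀ i ∈ l, i < 252) ∧ (l.map fun i => el (wT i) • v).sum = 0

theorem Z.map {v : B} (h : ∀ f < 2, el (sT f) • v = v) {l : List ℕ} (z : Z v l) {f : ℕ} (hf : f < 2) :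
    Z v (l.map (pT f)) := by
  refine ⟨fun i hi => ?_, ?_⟩
  · obtain ⟨j, hj, rfl⟩ := List.mem_map.1 hi
    exact (act h hf (z.1 j hj)).1
  · have := congrArg (fun b => el (gT f) • b) z.2
    simp only [smul_zero, List.smul_sum, List.map_map] at this
    rw [List.map_map, ← this]
    exact congrArg _ (List.map_congr_left fun j hj => (act h hf (z.1 j hj)).2.symm)

theorem Z.orb (h7 : ∀ y : L0, orderOf y = 7 → ∀ b : B, y • b = b → b = 0) {v : B}
    (h : ∀ f < 2, el (sT f) • v = v) {i : ℕ} (hi : i < 252) : Z v (orb i) := by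
  have k : ∀ k : ℕ, (pT 0)^[k] i < 252 ∧ el (wT ((pT 0)^[k] i)) • v = el (gT 0) ^ k • el (wT i) • v := by
    intro k
    induction k with
    | zero => exact ⟨hi, by simp⟩
    | succ k ih =>
      rw [Function.iterate_succ_apply', ← (act h (by norm_num) ih.1).2, ih.2, pow_succ', mul_smul]
      exact ⟨(act h (by norm_num) ih.1).1, rfl⟩
  refine ⟨fun j hj => ?_, ?_⟩
  · obtain ⟨a, -, rfl⟩ := List.mem_map.1 hj
    exact (k a).1
  · rw [U6c.orb, List.map_map]
    have e : ∀ a, ((fun i => el (wT i) • v) ∘ fun k => (pT 0)^[k] i) a =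
      el (gT 0) ^ a • el (wT i) • v := fun a => (k a).2
    rw [funext e]
    refine h7 _ o7 _ ?_
    have p : el (gT 0) ^ 7 = 1 := o7 ▸ pow_orderOf_eq_one _
    generalize el (wT i) • v = w
    simp only [List.range_succ, List.range_zero, List.map_append, List.map_cons, List.map_nil,
      List.sum_append, List.sum_cons, List.sum_nil, smul_add, ← mul_smul, ← pow_succ', smul_zero]
    norm_num only
    rw [p, pow_zero]
    abel

theorem Z.pts (h7 : ∀ y : L0, orderOf y = 7 → ∀ b : B, y • b = b → b = 0) {v : B}
    (h : ∀ f < 2, el (sT f) • v = v) {r : ℕ × List ℕ} (h1 : r.1 < 252) (h2 : ∀ f ∈ r.2, f < 2) :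
    Z v (pts r) := by
  have k : ∀ (w l : List ℕ), (∀ f ∈ w, f < 2) → Z v l → Z v (w.foldl (fun l f => l.map (pT f)) l) := by
    intro w
    induction w with
    | nil => exact fun l _ z => z
    | cons f w ih => exact fun l hw z => ih _ (fun a ha => hw a (by simp [ha])) (z.map h (hw f (by simp)))
  exact k _ _ h2 (Z.orb h7 h h1)

omit [DistribMulAction L0 B] in
theorem sum_msk (h2 : ∀ b : B, b + b = 0) (u : ℕ → B) (l : List ℕ) (hl : ∀ i ∈ l, i < 252) :
    (l.map u).sum = ∑ i ∈ Finset.range 252, if (msk l).testBit i then u i else 0 := by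
  induction l with
  | nil => simp [msk]
  | cons a l ih =>
    have e : msk (a :: l) = msk l ^^^ 2 ^ a := rfl
    rw [List.map_cons, List.sum_cons, ih fun i hi => hl i (by simp [hi]), e,
      ← Finset.sum_ite_eq_of_mem (Finset.range 252) a u (Finset.mem_range.2 (hl a (by simp))),
      ← Finset.sum_add_distrib]
    refine Finset.sum_congr rfl fun i _ => ?_
    rw [Nat.testBit_xor, Nat.testBit_two_pow]
    by_cases c : a = i <;> cases (msk l).testBit i <;> simp [c, h2]

theorem key0 (h2 : ∀ b : B, b + b = 0) (h7 : ∀ y : L0, orderOf y = 7 → ∀ b : B, y • b = b → b = 0)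
    {v : B} (h : ∀ f < 2, el (sT f) • v = v) : v = 0 := by
  have k : ∀ L : List (ℕ × List ℕ), (∀ r ∈ L, r.1 < 252 ∧ ∀ f ∈ r.2, f < 2) → Z v (L.flatMap U6c.pts) := by
    intro L
    induction L with
    | nil => exact fun _ => ⟨by simp, by simp⟩
    | cons r L ih =>
      intro hL
      have a := Z.pts h7 h (hL r (by simp)).1 (hL r (by simp)).2
      have b := ih fun s hs => hL s (by simp [hs])
      rw [List.flatMap_cons]
      exact ⟨fun i hi => (List.mem_append.1 hi).elim (a.1 i) (b.1 i), by
        rw [List.map_append, List.sum_append, a.2, b.2, add_zero]⟩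
  obtain ⟨a, b⟩ := k rel c5.1
  rw [sum_msk h2 _ _ a, c5.2, Finset.sum_eq_single 0 (fun i _ hi => by
    rw [if_neg (by rw [show (1 : ℕ) = 2 ^ 0 from rfl, Nat.testBit_two_pow]; simpa using hi.symm)])
    (by simp), if_pos (by decide), c1.2.2.2.1, el_one, one_smul] at b
  exact b

theorem key (h2 : ∀ b : B, b + b = 0) (h7 : ∀ y : L0, orderOf y = 7 → ∀ b : B, y • b = b → b = 0)
    {v : B} (h : el 0x750440001 • v = v) : v = 0 := by
  have st : ∀ w : B, el (sT 0) • w = w → el (sT 0) • el (sT 1) • w = el (sT 1) • w := fun w hw => by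
    rw [← mul_smul, rd, mul_smul, mul_smul, hw, hw]
  have one : ∀ (n : ℕ) (w : B), el (sT 0) • w = w → (fun b => b + el (sT 1) • b)^[n] w = 0 → w = 0 := by
    intro n
    induction n with
    | zero => exact fun w _ e => e
    | succ n ih =>
      intro w hw e
      have : w + el (sT 1) • w = 0 := ih _ (by rw [smul_add, hw, st w hw]) e
      refine key0 h2 h7 fun f hf => ?_
      obtain rfl | rfl : f = 0 ∨ f = 1 := by omega
      · exact hw
      · rw [← add_right_inj w, this, h2]
  refine one 8 v h ?_
  have sq : ∀ (g : L0) (w : B), w + g • w + g • (w + g • w) = w + (g * g) • w := fun g w => by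
    rw [smul_add, mul_smul, add_assoc, ← add_assoc (g • w), h2, zero_add]
  have i2 : ∀ g : L0, (fun b : B => b + g • b)^[2] = fun b => b + (g * g) • b := fun g =>
    funext fun w => sq g w
  rw [show 8 = 2 * (2 * 2) from rfl, Function.iterate_mul, Function.iterate_mul, i2, i2, i2]
  have e : el (sT 1) * el (sT 1) * (el (sT 1) * el (sT 1)) *
      (el (sT 1) * el (sT 1) * (el (sT 1) * el (sT 1))) = 1 := by
    rw [← d8]
    simp only [pow_succ, pow_zero, one_mul, mul_assoc]
  simp only [e, one_smul, h2]

end

theorem mat_eq_1' : type_of% @mat.eq_1 := @mat.eq_1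
theorem su_eq_1' : type_of% @su.eq_1 := @su.eq_1
theorem el_eq_1' : type_of% @el.eq_1 := @el.eq_1
theorem good_eq_1' : type_of% @good.eq_1 := @good.eq_1
theorem orb_eq_1' : type_of% @orb.eq_1 := @orb.eq_1
theorem msk_eq_1' : type_of% @msk.eq_1 := @msk.eq_1

end U6c

end Cfsg.Lib.K7
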