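import Cfsg.Agent.K7.LocB
import Cfsg.Agent.Class.HermSimple

/-!
# A Sylow 2-subgroup of `G₂(2)` and basic facts on `U₃(3)`
-/

set_option autoImplicit false

namespace Cfsg.Lib.K7

open Cfsg Subgroup Cfsg.Lib.Trans Cfsg.Lib.Gold Cfsg.Lib.Chev Cfsg.Lib.Class

universe u

namespace NSUS

/-- The multiplication table. -/
def tb (i e : ℕ) : ℕ := 0x1f1e1d1c1b1a191817161514131211100f0e0d0c0b0a090807060504030201003f3e3d3c3b3a393837363534333231302f2e2d2c2b2a292827262524232221200f2e0d2c0b2a092807260524032201201f3e1d3c1b3a193817361534133211302f0e2d0c2b0a290827062504230221003f1e3d1c3b1a3918371635143312311007061514232231300f0e1d1c2b2a393817160504333221201f1e0d0c3b3a292827263534030211102f2e3d3c0b0a191837362524131201003f3e2d2c1b1a09080b0a39380f0e3d3c03023130070635341b1a29281f1e2d2c13122120171625242b2a19182f2e1d1c23221110272615143b3a09083f3e0d0c3332010037360504213c033e0538273a29340b360d302f32312c132e1528372a39241b261d203f22011c231e2518071a09142b162d100f12110c330e3508170a19043b063d001f023e3f3c3d3a3b383936373435323330312e2f2c2d2a2b282926272425222320211e1f1c1d1a1b181916171415121310110e0f0c0d0a0b08090607040502030001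 >>> (8 * (64 * (i - 6) + e)) % 64

/-- The matrices. -/
def mt (e : ℕ) : Matrix (Fin 3) (Fin 3) T9 := Matrix.of fun i j => T9.c
  (0x1060600060003000100030206000600010003000303010001000600030001010200020002000100010606000600030001000302060006000100030003030100010006000300010102000200020001000203060006000600020006010600060002000600060601000100030006000202020002000100020002030600060006000200060106000600020006000606010001000300060002020200020001000200020603000300030002000602030003000100060006030200020006000600020101000100020002000206030003000300020006020300030001000600060302000200060006000201010001000200020001030300030006000100030103000300020003000306020002000300030001020100010001000100010303000300060001000301030003000200030003060200020003000300010201000100010001 >>> (40 * e + 4 * (3 * i.1 + j.1)) % 16)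

/-- The field automorphisms. -/
def fl (e : ℕ) : Bool := Nat.testBit 0xc33cc33cc33cc33c e

theorem ev_sw : ∀ e < 64, g2Ev (swL e) = (mt e, fl e) := by decide +kernel

set_option synthInstance.maxSize 4000 in
theorem step : ∀ i < 12, 6 ≤ i → ∀ e < 64, (g2Mat i * cond (g2Out i) ((mt e).map (· ^ 3)) (mt e),
    xor (g2Out i) (fl e)) = (mt (tb i e), fl (tb i e)) := by decide +kernel

theorem inj : ∀ e < 64, ∀ f < e, mt e ≠ mt f ∨ fl e ≠ fl f := by decide +kernel

theorem swL_lt (e : ℕ) : ∀ r ∈ swL e, r < 12 ∧ 6 ≤ r := fun r h => by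
  have := (List.mem_filter.1 h).1
  simp only [List.mem_cons, List.not_mem_nil, or_false] at this
  omega

theorem tb_lt (i e : ℕ) : tb i e < 64 := Nat.mod_lt _ (by decide)

theorem mul_sw {i e : ℕ} (h1 : i < 12) (h2 : 6 ≤ i) (he : e < 64) : g2Elt i * sw e = sw (tb i e) := by
  refine g2_word_eq (l := i :: swL e) (fun r hr => ?_) (fun r hr => (swL_lt _ r hr).1) ?_
  · rcases List.mem_cons.1 hr with rfl | hr
    exacts [h1, (swL_lt _ r hr).1]
  · rw [ev_sw _ (tb_lt i e), ← step i h1 h2 e he]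
    change (g2Mat i * cond (g2Out i) ((g2Ev (swL e)).1.map (· ^ 3)) (g2Ev (swL e)).1,
      xor (g2Out i) (g2Ev (swL e)).2) = _
    rw [ev_sw e he]

theorem mul_l {l : List ℕ} (hl : ∀ r ∈ l, r < 12 ∧ 6 ≤ r) {e : ℕ} (he : e < 64) :
    ∃ f < 64, (l.map g2Elt).prod * sw e = sw f := by
  induction l with
  | nil => exact ⟨e, he, one_mul _⟩
  | cons r l ih =>
    obtain ⟨f, hf, h⟩ := ih fun s hs => hl s (List.mem_cons_of_mem _ hs)
    have := hl r List.mem_cons_self
    exact ⟨_, tb_lt r f, by rw [List.map_cons, List.prod_cons, mul_assoc, h, mul_sw this.1 this.2 hf]⟩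

theorem cube_ne : cube9 ≠ 1 := fun h =>
  absurd (congrArg (fun σ : RingAut T9 => σ (T9.c 3)) h) (by decide +kernel)

theorem ev_of_eq {l l' : List ℕ} (hl : ∀ r ∈ l, r < 12) (hl' : ∀ r ∈ l', r < 12)
    (h : (l.map g2Elt).prod = (l'.map g2Elt).prod) : g2Ev l = g2Ev l' := by
  refine Prod.ext (by rw [← (g2Ev_spec hl).1, ← (g2Ev_spec hl').1, h]) ?_
  have := (g2Ev_spec hl).2
  rw [h, (g2Ev_spec hl').2] at this
  revert this
  cases (g2Ev l).2 <;> cases (g2Ev l').2 <;> simp [cube_ne, cube_ne.symm]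

theorem sw_inj {e f : ℕ} (he : e < 64) (hf : f < 64) (h : sw e = sw f) : e = f := by
  have := ev_of_eq (fun r hr => (swL_lt _ r hr).1) (fun r hr => (swL_lt _ r hr).1) h
  rw [ev_sw e he, ev_sw f hf, Prod.mk.injEq] at this
  rcases lt_trichotomy e f with c | c | c
  · exact ((inj f hf e c).elim (· this.1.symm) (· this.2.symm)).elim
  · exact c
  · exact ((inj e he f c).elim (· this.1) (· this.2)).elim

theorem fin : Finite Gm := Nat.finite_of_card_ne_zero (by rw [card_GamU33]; decide)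

theorem mem_L0 (a : Gm) : a ∈ L0 ↔ a.right = 1 := by
  rw [L0, commutator_GamU33, SemidirectProduct.range_inl_eq_ker_rightHom]
  rfl

theorem chk : g2Ev [2, 9, 2, 9, 2, 9] = g2Ev [] ∧ g2Ev [3, 8, 3, 8, 3, 8] = g2Ev [] ∧
    g2Ev [3, 7, 3, 7, 3, 7, 3, 7] = g2Ev [] ∧ g2Ev [2, 4, 2, 4, 2, 4, 2, 4] = g2Ev [] ∧
    g2Ev [3, 7, 2, 9] = g2Ev [2, 9, 3, 7] ∧ g2Ev [2, 4, 3, 8] = g2Ev [3, 8, 2, 4] ∧
    g2Ev [2, 9] ≠ g2Ev [] ∧ g2Ev [3, 8] ≠ g2Ev [] ∧ g2Ev [3, 7, 3, 7] ≠ g2Ev [] ∧
    g2Ev [2, 4, 2, 4] ≠ g2Ev [] ∧ g2Ev [2, 9, 3, 8] ≠ g2Ev [3, 8, 2, 9] := by decide +kernel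

theorem two {a b : ℕ} (h : a < 12 ∧ b < 12 ∧ (g2Ev [a, b]).2 = false) : g2Elt a * g2Elt b ∈ L0 := by
  have := (g2Ev_spec (l := [a, b]) (by simpa using ⟨h.1, h.2.1⟩)).2
  rw [h.2.2] at this
  exact (mem_L0 _).2 (by simpa using this)

theorem cl {a b c d : ℕ} (h : a < 12 ∧ b < 12) (h' : c < 12 ∧ d < 12 ∧ (g2Ev [c, d]).2 = false)
    (e1 : g2Ev [a, b, a, b, a, b] = g2Ev []) (e2 : g2Ev [c, d, c, d, c, d, c, d] = g2Ev [])
    (e3 : g2Ev [c, d, a, b] = g2Ev [a, b, c, d]) (e4 : g2Ev [a, b] ≠ g2Ev [])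
    (e5 : g2Ev [c, d, c, d] ≠ g2Ev []) : Cl (g2Elt a * g2Elt b) := by
  have := Fact.mk Nat.prime_three
  refine ⟨orderOf_eq_prime ?_ fun e => e4 (ev_of_eq (by simpa using h) (by simp) (by simpa using e)),
    _, two h', orderOf_eq_prime_pow (p := 2) (n := 1) (fun e => e5 (ev_of_eq
      (by simp [h'.1, h'.2.1]) (by simp) (by simpa [sq, mul_assoc] using e))) ?_, ?_⟩
  · simpa [pow_succ, mul_assoc] using g2_word_eq (by simp [h.1, h.2]) (by simp) e1
  · simpa [pow_succ, mul_assoc] using g2_word_eq (by simp [h'.1, h'.2.1]) (by simp) e2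
  · simpa [mul_assoc] using g2_word_eq (by simp [h.1, h.2, h'.1, h'.2.1])
      (by simp [h.1, h.2, h'.1, h'.2.1]) e3

end NSUS

open NSUS

theorem us : StUS := by
  have := NSUS.fin
  let S : Submonoid Gm := ⟨⟨{s | ∃ e < 64, s = sw e}, by
    rintro _ _ ⟨e, -, rfl⟩ ⟨f, hf, rfl⟩
    exact mul_l (swL_lt e) hf⟩, 0, by decide, rfl⟩
  let S' : Subgroup Gm := ⟨S, fun {x} hx => by
    rw [inv_eq_of_mul_eq_one_right (mul_pow_sub_one (orderOf_pos x).ne' x ▸ pow_orderOf_eq_one x)]
    exact S.pow_mem hx _⟩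
  have hc : Nat.card S' = 64 := by
    rw [← Nat.card_fin 64]
    refine (Nat.card_congr (Equiv.ofBijective (fun e : Fin 64 => (⟨sw e, e, e.2, rfl⟩ : S'))
      ⟨fun e f h => Fin.ext (sw_inj e.2 f.2 (congrArg Subtype.val h)), ?_⟩)).symm
    rintro ⟨_, e, he, rfl⟩
    exact ⟨⟨e, he⟩, rfl⟩
  refine ⟨S', ⟨le_top, IsPGroup.of_card (n := 6) hc, ?_⟩, fun _ => Iff.rfl⟩
  have := S'.card_mul_index
  rw [hc, card_GamU33] at this
  rw [relIndex_top_right]
  omega

theorem u1 : StU1 := by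
  obtain ⟨h1, h2, h3, h4, h5, h6, h7, h8, h9, h10, h11⟩ := chk
  have e := psu33Equiv.trans su33Equiv
  have := Form.isSimpleGroup_PSU T9.card 3 le_rfl (by simp)
  refine ⟨?_, e.symm.isSimpleGroup, mem_L0, _, two (a := 2) (b := 9) (by decide), _,
    two (a := 3) (b := 8) (by decide), cl (by decide) (by decide) h1 h3 h5 h7 h9,
    cl (by decide) (by decide) h2 h4 h6 h8 h10, fun c => h11 (ev_of_eq (by simp) (by simp)
      (by simpa [mul_assoc] using c))⟩
  have h := L0.card_mul_index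
  rw [← Nat.card_congr e.toEquiv, card_PSU33 T9.card, card_GamU33] at h
  omega

end Cfsg.Lib.K7
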