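import Cfsg.Agent.K7.NSU3
import Cfsg.Agent.K7.NSU5
import Cfsg.Agent.Class.HermSimple

/-! # A Sylow 2-subgroup of `G₂(2)` and the derived group -/

set_option autoImplicit false

namespace Cfsg.Lib.K7.NSUSh

open Cfsg Subgroup Cfsg.Lib.Trans Cfsg.Lib.Gold Cfsg.Lib.Chev Cfsg.Lib.Class NSU3

theorem t1 : ∀ i ∈ [6, 7, 8, 9, 10, 11], ∀ e < 64, ∃ k < 64, pm (g2Ev [i]) (T e) = T k := by
  decide +kernel

theorem t2 : ∀ e < 64, ∃ k < 64, pm (T e) (T k) = (1, false) := by decide +kernel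

theorem t3 : ∀ e < 64, ∀ f < 64, T e = T f → e = f := by decide +kernel

theorem step (l : List ℕ) (hl : ∀ i ∈ l, i ∈ [6, 7, 8, 9, 10, 11]) {e : ℕ} (he : e < 64) :
    ∃ k < 64, (l.map g2Elt).prod * sw e = sw k := by
  induction l with
  | nil => exact ⟨e, he, by simp⟩
  | cons i l ih =>
    obtain ⟨k, hk, h⟩ := ih fun j hj => hl j (List.mem_cons_of_mem _ hj)
    have hi := hl i List.mem_cons_self
    obtain ⟨k', hk', h'⟩ := t1 i hi k hk
    have h1 : R (([i] : List ℕ).map g2Elt).prod (g2Ev [i]) := R.ev fun r hr => by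
      rw [List.mem_singleton.1 hr]
      simp only [List.mem_cons, List.not_mem_nil, or_false] at hi
      omega
    refine ⟨k', hk', ?_⟩
    rw [List.map_cons, List.prod_cons, mul_assoc, h]
    refine ((R.mul h1 (R.sw hk)).eq_iff (R.sw hk')).2 h' |>.symm.trans ?_ |>.symm
    simp

def SS : Subgroup Gm where
  carrier := {s | ∃ e < 64, s = sw e}
  one_mem' := ⟨0, by norm_num, rfl⟩
  mul_mem' := by
    rintro _ _ ⟨e, -, rfl⟩ ⟨f, hf, rfl⟩
    exact step (swL e) (fun i hi => List.mem_of_mem_filter hi) hf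
  inv_mem' := by
    rintro _ ⟨e, he, rfl⟩
    obtain ⟨k, hk, h⟩ := t2 e he
    exact ⟨k, hk, inv_eq_of_mul_eq_one_right (((R.mul (R.sw he) (R.sw hk)).eq_iff R.one).2 h)⟩

theorem SS_eq_1' : type_of% @SS.eq_1 := @SS.eq_1

theorem card_SS : Nat.card SS = 64 := by
  have : Function.Bijective fun e : Fin 64 => (⟨sw e, e.1, e.2, rfl⟩ : SS) :=
    ⟨fun e f h => Fin.ext (t3 _ e.2 _ f.2 (((R.sw e.2).eq_iff (R.sw f.2)).1 (congrArg Subtype.val h))),
      fun ⟨_, e, he, h⟩ => ⟨⟨e, he⟩, Subtype.ext h.symm⟩⟩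
  rw [← Nat.card_eq_of_bijective _ this, Nat.card_fin]

theorem us : StUS := by
  refine ⟨SS, ⟨le_top, IsPGroup.of_card (n := 6) card_SS, ?_⟩, fun _ => Iff.rfl⟩
  have h := card_mul_relIndex (le_top : SS ≤ ⊤)
  rw [card_SS, card_top, card_GamU33] at h
  omega

theorem mem (a : Gm) : a ∈ L0 ↔ a.right = 1 := by
  rw [L0, commutator_GamU33, SemidirectProduct.range_inl_eq_ker_rightHom, MonoidHom.mem_ker]
  rfl

open NSU5 in
theorem u1 : StU1 := by
  have c0 : Cl r0 := ⟨or0, j4, (mem _).2 rfl, oj, jr⟩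
  refine ⟨?_, ?_, mem, r0, (mem _).2 rfl, el 0x200020001 * r0 * (el 0x200020001)⁻¹, ?_, c0, cl_cj c0 _, ?_⟩
  · have h := L0.card_mul_index
    rw [card_GamU33, ← Nat.card_congr (psu33Equiv.trans su33Equiv).toEquiv, card_PSU33 T9.card] at h
    omega
  · have := Form.isSimpleGroup_PSU T9.card 3 le_rfl (by norm_num)
    exact (psu33Equiv.trans su33Equiv).symm.isSimpleGroup
  · exact (inferInstance : L0.Normal).conj_mem _ ((mem _).2 rfl) _
  · have ok1 : ok (mat 0x200020001) := by decide +kernel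
    have kr : (el 0x200020001).right = 1 := rfl
    have rr : r0.right = 1 := rfl
    have kk : (el 0x200020001)⁻¹ = el 0x200020001 := inv_eq_of_mul_eq_one_right (ext' (by
      rw [M_mul1 kr, M_el ok1, M_one]; decide +kernel) (by simp [kr]))
    intro h
    have h1 := congrArg M h
    rw [kk, mul_assoc, mul_assoc, mul_assoc, M_mul1 rr, M_mul1 kr, M_mul1 kr, M_mul1 rr, M_mul1 rr,
      M_mul1 kr, M_el ok1, Mr0] at h1
    revert h1
    decide +kernel

end Cfsg.Lib.K7.NSUSh
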