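import Cfsg.Agent.K7.NUd
import Cfsg.Agent.K7.NSB0
import Cfsg.Agent.K7.TS

/-!
# Pushing up `U₃(3)`: transfer of the model to the quotient group
-/

set_option autoImplicit false

namespace Cfsg.Lib.K7.NU

open Cfsg Subgroup Cfsg.Lib.Trans Cfsg.Lib.Gold
open Cfsg.Lib.P8 (O2 Om EA Pj Ty Mx)
open scoped commutatorElement

universe u

namespace NU2

theorem card_le {X : Type u} [Group X] (L : Subgroup X) [L.Normal] (hC : Cs L = ⊥) (hU : U33 L) :
    Nat.card X ≤ 12096 := by
  obtain ⟨F, _, _, hF, ⟨e₀⟩⟩ := hU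
  obtain ⟨φ⟩ := Class.nonempty_ringEquiv_of_card_eq (F := F) (K := Class.T9) (hF.trans rfl)
  let e := e₀.trans ((Class.psuEquiv 3 3 φ).trans (Chev.psu33Equiv.trans Chev.su33Equiv))
  have : Finite Chev.GamU33 := Nat.finite_of_card_ne_zero (by rw [Chev.card_GamU33]; decide)
  choose f hf using fun x : X =>
    Chev.exists_conj_GamU33 (e.symm.trans ((MulAut.conjNormal x).trans e))
  rw [← Chev.card_GamU33]
  refine Nat.card_le_card_of_injective f fun x x' h => ?_
  have k : x⁻¹ * x' ∈ Cs L := mem_Cs.2 fun l hl => by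
    have e1 := hf x (e ⟨l, hl⟩)
    rw [h, ← hf x'] at e1
    simp only [MulEquiv.trans_apply, MulEquiv.symm_apply_apply] at e1
    have e2 : x * l * x⁻¹ = x' * l * x'⁻¹ := congrArg Subtype.val (e.injective (Subtype.ext e1))
    calc l * (x⁻¹ * x') = x⁻¹ * (x * l * x⁻¹) * x' := by group
      _ = _ := by rw [e2]; group
  rw [hC, mem_bot] at k
  exact inv_mul_eq_one.1 k

theorem ue {Y X : Type*} [Group Y] [Group X] (f : Y →* X) (hf : Function.Injective f) {a b r h y : Y}
    (u : UE a b r h y) : UE (f a) (f b) (f r) (f h) (f y) := by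
  have cl : closure ({f a, f b} : Set X) = (closure ({a, b} : Set Y)).map f := by
    rw [MonoidHom.map_closure, Set.image_pair]
  have o := fun x => orderOf_injective f hf x
  refine ⟨(o a).trans u.oa, (o b).trans u.ob, (o r).trans u.or, ?_, ?_, ?_, cl ▸ u.three.map f, ?_, ?_,
    fun i j k => u.nb i j ?_, ?_, ?_, (o y).trans u.oy, ?_, ?_, fun k => u.ry (hf ?_)⟩
  · simpa using congrArg f u.ab
  · simpa using congrArg f u.ra
  · simpa using congrArg f u.rb
  · rw [cl, card_map_of_injective hf, u.c27]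
  · rw [cl]
    rintro _ ⟨x, hx, rfl⟩
    exact (u.el x hx).imp (fun k => by rw [← MonoidHom.map_zpowers]; exact mem_map_of_mem f k)
      fun k => f.map_isConj k
  · rwa [← MonoidHom.map_zpowers, ← map_pow, ← map_pow, ← map_mul, mem_map_iff_mem hf] at k
  · rw [← map_pow, u.h8, map_one]
  · rw [cl]
    exact le_normalizer_map f (mem_map_of_mem f u.hE)
  · simpa using congrArg f u.ay
  · obtain ⟨e, he, e', he', i, k⟩ := u.dc
    exact ⟨f e, cl ▸ mem_map_of_mem f he, f e', cl ▸ mem_map_of_mem f he', i, by simpa using congrArg f k⟩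
  · simpa using k

theorem ui {X : Type*} [Group X] {L : Subgroup X} {r : L} (u : UI (⊤ : Subgroup L) r) : UI L (r : X) := by
  refine ⟨fun t ht t2 => ?_, fun t ht s hs t2 s2 t1 s1 ne cm d hd d2 dt ds => ?_,
    fun t ht s hs t2 s2 t1 s1 ne cm => ?_⟩
  · obtain ⟨l, hl⟩ := u.one ⟨t, ht⟩ (mem_top _) (Subtype.ext t2)
    exact ⟨l, congrArg Subtype.val hl⟩
  · simpa [Subtype.ext_iff] using u.rk ⟨t, ht⟩ (mem_top _) ⟨s, hs⟩ (mem_top _) (Subtype.ext t2)
      (Subtype.ext s2) (fun k => t1 (congrArg Subtype.val k)) (fun k => s1 (congrArg Subtype.val k))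
      (fun k => ne (congrArg Subtype.val k)) (Subtype.ext cm) ⟨d, hd⟩ (mem_top _) (Subtype.ext d2)
      (Subtype.ext dt) (Subtype.ext ds)
  · obtain ⟨x, c, h1, h2, h3, h4, h5⟩ := u.four ⟨t, ht⟩ (mem_top _) ⟨s, hs⟩ (mem_top _) (Subtype.ext t2)
      (Subtype.ext s2) (fun k => t1 (congrArg Subtype.val k)) (fun k => s1 (congrArg Subtype.val k))
      (fun k => ne (congrArg Subtype.val k)) (Subtype.ext cm)
    exact ⟨x, c, (orderOf_coe x).trans h1, congrArg Subtype.val h2, congrArg Subtype.val h3,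
      congrArg Subtype.val h4, (orderOf_coe (c * x)).trans h5⟩

end NU2

variable {G : Type u} [Group G] [Finite G] {X : Type u} [Group X] [Finite X] {M : Subgroup G}
  {π : G → X} {L : Subgroup X}

omit [Finite G] in
theorem cf (gl : Gl G 7) (mx : Mx M (O2 M)) (ty : Ty M (O2 M) π) (hL : L.Normal) (hC : Cs L = ⊥)
    (hU : U33 L) (hm : ∃ a b r h y : L, UE a b r h y ∧ UI (⊤ : Subgroup L) r) :
    ∃ a b r h y : X, CF M π L a b r h y := by
  obtain ⟨a, b, r, h, y, u1, u2⟩ := hm
  have sim := (NSB0.soc (p := 7) (Or.inl ⟨rfl, Or.inr (Or.inr hU)⟩)).1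
  have c1 := NU2.card_le L hC hU
  have c2 := L.card_mul_index
  rw [TS.cardU hU] at c2
  have idx : L.index ≤ 2 := by omega
  have u3 := NU2.ue L.subtype L.subtype_injective u1
  refine ⟨a, b, r, h, y, gl, mx, ty, u3, NU2.ui u2, hL, y.2, idx,
    fun N hN h0 => NSB0.le_of_norm hC h0 (le_top.trans (normalizer_eq_top N).ge), le_top, u3.three, ?_⟩
  have c3 := (closure ({(a : X), (b : X)} : Set X)).card_mul_index
  have c4 : Nat.card (closure ({(a : X), (b : X)} : Set X)) = 27 := u3.c27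
  rw [c4] at c3
  rw [relIndex_top_right]
  have : 0 < Nat.card X := Nat.card_pos
  omega

end Cfsg.Lib.K7.NU
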