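import Cfsg.Agent.K7.NUd
import Cfsg.Agent.P8.Bas2
import Cfsg.Agent.P8.BasJ
import Cfsg.Agent.Gold.Cm

/-!
# Pushing up `U₃(3)`: the two modules
-/

set_option autoImplicit false

namespace Cfsg.Lib.K7.NU

open Cfsg Subgroup Cfsg.Lib.Trans Cfsg.Lib.Gold
open Cfsg.Lib.P8 (O2 Om EA Pj Ty Mx)
open scoped commutatorElement

universe u

namespace N7

variable {G : Type u} [Group G]

theorem conj_mem {X : Subgroup G} {k x : G} (hk : k ∈ Ns X) (hx : x ∈ X) :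
    k * x * k⁻¹ ∈ X := (mem_normalizer_iff.1 hk x).1 hx

theorem comm_right {X : Subgroup G} {k x : G} (hk : k ∈ Ns X) (hx : x ∈ X) : ⁅k, x⁆ ∈ X :=
  mul_mem (conj_mem hk hx) (inv_mem hx)

theorem comm_left {X : Subgroup G} {k x : G} (hk : k ∈ Ns X) (hx : x ∈ X) : ⁅x, k⁆ ∈ X := by
  rw [← commutatorElement_inv]
  exact inv_mem (comm_right hk hx)

theorem cj_comm {X : Subgroup G} (h : ∀ a ∈ X, ∀ b ∈ X, a * b = b * a) (g : G) :
    ∀ a ∈ cj g X, ∀ b ∈ cj g X, a * b = b * a := by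
  intro a ha b hb
  have h1 := h _ (mem_cj.1 ha) _ (mem_cj.1 hb)
  calc a * b = g * (g⁻¹ * a * g * (g⁻¹ * b * g)) * g⁻¹ := by group
    _ = g * (g⁻¹ * b * g * (g⁻¹ * a * g)) * g⁻¹ := by rw [h1]
    _ = b * a := by group

theorem cj_sq {X : Subgroup G} (h : ∀ a ∈ X, a * a = 1) (g : G) : ∀ a ∈ cj g X, a * a = 1 := by
  intro a ha
  have h1 := h _ (mem_cj.1 ha)
  calc a * a = g * (g⁻¹ * a * g * (g⁻¹ * a * g)) * g⁻¹ := by group
    _ = 1 := by rw [h1]; group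

theorem sq_comm {k v : G} (h1 : k * ⁅k, v⁆ = ⁅k, v⁆ * k) (h2 : ⁅k, v⁆ * ⁅k, v⁆ = 1) :
    v * (k * k) = k * k * v := by
  have e : k * v = ⁅k, v⁆ * v * k := by rw [commutatorElement_def]; group
  symm
  calc k * k * v = k * (k * v) := by group
    _ = k * ⁅k, v⁆ * v * k := by rw [e]; group
    _ = ⁅k, v⁆ * (k * v) * k := by rw [h1]; group
    _ = ⁅k, v⁆ * ⁅k, v⁆ * v * k * k := by rw [e]; group
    _ = v * (k * k) := by rw [h2]; group

/-- The squares in an abelian subgroup. -/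
def Sqs (T : Subgroup G) (h : ∀ a ∈ T, ∀ b ∈ T, a * b = b * a) : Subgroup G where
  carrier := {x | ∃ t ∈ T, x = t * t}
  one_mem' := ⟨1, one_mem _, (mul_one _).symm⟩
  mul_mem' := by
    rintro _ _ ⟨a, ha, rfl⟩ ⟨b, hb, rfl⟩
    refine ⟨a * b, mul_mem ha hb, ?_⟩
    calc a * a * (b * b) = a * (a * b) * b := by group
      _ = a * (b * a) * b := by rw [h a ha b hb]
      _ = a * b * (a * b) := by group
  inv_mem' := by
    rintro _ ⟨a, ha, rfl⟩
    exact ⟨a⁻¹, inv_mem ha, mul_inv_rev _ _⟩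

/-- The elements of `M` that are trivial on `D` and on `V / D`. -/
def Y0 (M V D : Subgroup G) : Subgroup G where
  carrier := {k | k ∈ M ∧ (∀ d ∈ D, k * d = d * k) ∧ ∀ v ∈ V, ⁅k, v⁆ ∈ D}
  one_mem' := ⟨one_mem _, fun d _ => by rw [one_mul, mul_one], fun v _ => by
    rw [commutatorElement_one_left]; exact one_mem _⟩
  mul_mem' := by
    rintro a b ⟨ha, ha1, ha2⟩ ⟨hb, hb1, hb2⟩
    refine ⟨mul_mem ha hb, fun d hd => ?_, fun v hv => ?_⟩
    · rw [mul_assoc, hb1 d hd, ← mul_assoc, ha1 d hd, mul_assoc]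
    · have e : ⁅a * b, v⁆ = a * ⁅b, v⁆ * a⁻¹ * ⁅a, v⁆ := by
        simp only [commutatorElement_def]; group
      rw [e, ha1 _ (hb2 v hv), mul_inv_cancel_right]
      exact mul_mem (hb2 v hv) (ha2 v hv)
  inv_mem' := by
    rintro a ⟨ha, ha1, ha2⟩
    refine ⟨inv_mem ha, fun d hd => ?_, fun v hv => ?_⟩
    · exact (Commute.inv_left (ha1 d hd)).eq
    · have e : ⁅a⁻¹, v⁆ = a⁻¹ * (⁅a, v⁆⁻¹ * a) := by
        simp only [commutatorElement_def]; group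
      rw [e, ← ha1 _ (inv_mem (ha2 v hv)), inv_mul_cancel_left]
      exact inv_mem (ha2 v hv)

theorem mem_Ns_of_le [Finite G] {X : Subgroup G} {k : G} (h : ∀ x ∈ X, k * x * k⁻¹ ∈ X) :
    k ∈ Ns X :=
  cj_eq_self_iff.1 (eq_of_le_of_card_ge (cj_le_iff.2 h) (card_cj _ _).ge)

end N7

variable {G : Type u} [Group G] [Finite G] {X : Type u} [Group X] {M S : Subgroup G}
  {π : G → X} {L : Subgroup X} {g : G}

open N7 in
theorem tw_core (mx : Mx M (O2 M)) (ty : Ty M (O2 M) π) (m : MF M (Om (O2 M)) π L)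
    (hab : O2 M ≤ Cs (O2 M))
    (c16 : Nat.card (Om (O2 M)) = 64 → ∀ t ∈ M, ∀ s ∈ M, π t ∈ L → π s ∈ L → π t * π t = 1 →
      π s * π s = 1 → π t ≠ 1 → π s ≠ 1 → π t ≠ π s → π t * π s = π s * π t →
      Nat.card ↥(Om (O2 M) ⊓ C1 t ⊓ C1 s) ≤ 8)
    (hS : IsSylowIn 2 S M) (hg : g ∈ Ns S) (g2 : g * g ∈ S) (gM : g ∉ M) :
    TW M (Om (O2 M)) g := by
  haveI : Fact (Nat.Prime 2) := ⟨Nat.prime_two⟩
  obtain ⟨-, -, VT, nTV, eaV, -, memV⟩ := P8.pf_BasJ.leT (O2 M)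
  obtain ⟨TM, T2, nMT, -, hTS⟩ := P8.pf_BasJ.o2 M
  have neV := (P8.pf_BasJ.ne T2 mx.ne).2
  generalize Om (O2 M) = V at *
  generalize hT : O2 M = T at *
  have TS : T ≤ S := hTS S hS
  have SM : S ≤ M := hS.le
  have MT : M ≤ Ns T := le_normalizer.trans nMT
  have MV : M ≤ Ns V := MT.trans nTV
  have cT : ∀ a ∈ T, ∀ b ∈ T, a * b = b * a := fun a ha b hb => mem_Cs.1 (hab hb) a ha
  have inV : ∀ t ∈ T, t * t = 1 → t ∈ V := fun t ht h =>
    memV t ht (fun b hb => mem_C1.2 (cT b hb t ht)) h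
  have sqV : ∀ v ∈ V, v * v = 1 := fun v hv => by rw [← pow_two]; exact eaV.2 v hv
  have cmV : ∀ a ∈ V, ∀ b ∈ V, a * b = b * a := fun a ha b hb => cT a (VT ha) b (VT hb)
  have nV : Ns V = M := P8.pf_Bas2.nor mx.mx (T2.to_le VT) neV MV
  have gS : cj g S = S := cj_eq_of_mem_normalizer hg
  have T1S : cj g T ≤ S := by rw [← gS]; exact cj_mono g TS
  have V1T1 : cj g V ≤ cj g T := cj_mono g VT
  have V1M : cj g V ≤ M := V1T1.trans (T1S.trans SM)
  have SV1 : S ≤ Ns (cj g V) := by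
    rw [← cj_Ns, ← gS]; exact cj_mono g (SM.trans MV)
  have ST1 : S ≤ Ns (cj g T) := by
    rw [← cj_Ns, ← gS]; exact cj_mono g (SM.trans MT)
  have gg : cj g (cj g V) = V := by
    rw [cj_cj]; exact cj_eq_of_mem_normalizer (MV (SM g2))
  have ne : cj g V ≠ V := fun h => gM (by rw [← nV]; exact cj_eq_self_iff.1 h)
  have sqV1 := cj_sq sqV g
  have cmV1 := cj_comm cmV g
  have nle : ¬ cj g V ≤ T := fun h =>
    ne (eq_of_le_of_card_ge (fun v hv => inV v (h hv) (sqV1 v hv)) (card_cj _ _).ge)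
  have hD : T ⊓ cj g V = V ⊓ cj g V :=
    le_antisymm (fun v hv => ⟨inV v hv.1 (sqV1 v hv.2), hv.2⟩) (inf_le_inf_right _ VT)
  have cTV : M ⊓ Cs V = T := by rw [m.cV, hT]
  have hi : Nat.card ↥(V ⊓ cj g V) * T.relIndex (cj g V) = Nat.card V := by
    rw [← inf_relIndex_right, hD, card_mul_relIndex inf_le_right, card_cj]
  have hi' : (V ⊓ cj g V).relIndex V = T.relIndex (cj g V) := by
    have h1 := card_mul_relIndex (inf_le_left : V ⊓ cj g V ≤ V)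
    rw [← hi] at h1
    exact Nat.eq_of_mul_eq_mul_left Nat.card_pos h1
  have i8 : T.relIndex (cj g V) ≤ 8 := by
    have := (m.rk (cj g V) V1M fun v hv => by rw [sqV1 v hv]; exact one_mem _).1
    rwa [hT] at this
  have i3 : Nat.card V ≤ T.relIndex (cj g V) ^ 3 := by
    obtain ⟨j, hj, hjT⟩ := SetLike.not_le_iff_exists.1 nle
    have h1 := m.i3 j (V1M hj) (by rw [hT]; exact hjT) (by rw [sqV1 j hj]; exact one_mem _)
    refine h1.trans (Nat.pow_le_pow_left ?_ 3)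
    rw [← hi']
    refine relIndex_le_of_le_left (fun d hd => mem_C1.2 (cmV1 d hd.2 j hj)) ?_
    exact FiniteIndex.index_ne_zero
  have c64 : Nat.card V = 64 :=
    (m.md V le_rfl neV MV).2 (i3.trans ((Nat.pow_le_pow_left i8 3).trans (by norm_num)))
  have cD : (Nat.card ↥(V ⊓ cj g V) = 16 ∧ T.relIndex (cj g V) = 4) ∨
      (Nat.card ↥(V ⊓ cj g V) = 8 ∧ T.relIndex (cj g V) = 8) := by
    rw [c64] at hi i3
    generalize Nat.card ↥(V ⊓ cj g V) = d at hi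
    generalize T.relIndex (cj g V) = i at hi i3 i8
    interval_cases i <;> omega
  have sqT1 : ∀ t ∈ cj g T, t * t ∈ T := by
    intro t ht
    have htM := SM (T1S ht)
    rw [← cTV]
    refine ⟨mul_mem htM htM, mem_Cs.2 fun v hv => sq_comm ?_ (sqV _ (comm_right (MV htM) hv))⟩
    exact cj_comm cT g t ht _ (comm_left (ST1 (TS (VT hv))) ht)
  have eq : V = T := by
    refine le_antisymm VT fun t ht => inV t ht ?_
    by_contra hne
    have hle : Sqs T cT ≤ T := by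
      rintro _ ⟨a, ha, rfl⟩
      exact mul_mem ha ha
    have hnb : Sqs T cT ≠ ⊥ := fun h => hne (by
      have h1 : t * t ∈ Sqs T cT := ⟨t, ht, rfl⟩
      rwa [h, mem_bot] at h1)
    have hnb' : Sqs T cT ⊓ V ≠ ⊥ := by
      obtain ⟨-, -, a1, -, a2, -, -⟩ := P8.pf_BasJ.leT (Sqs T cT)
      have a3 := (P8.pf_BasJ.ne (T2.to_le hle) hnb).2
      intro h
      apply a3
      rw [eq_bot_iff, ← h]
      exact fun x hx => ⟨a1 hx, inV x (hle (a1 hx)) (by rw [← pow_two]; exact a2.2 x hx)⟩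
    have hN : M ≤ Ns (Sqs T cT ⊓ V) := by
      intro k hk
      refine mem_Ns_of_le ?_
      rintro _ ⟨⟨a, ha, rfl⟩, hv⟩
      exact ⟨⟨k * a * k⁻¹, conj_mem (MT hk) ha, by group⟩, conj_mem (MV hk) hv⟩
    have h1 := (m.md _ inf_le_right hnb' hN).1
    have h2 : Sqs T cT ⊓ V = V := eq_of_le_of_card_ge inf_le_right (by rw [c64]; exact h1)
    apply nle
    intro w hw
    have h3 : g⁻¹ * w * g ∈ Sqs T cT ⊓ V := by rw [h2]; exact mem_cj.1 hw
    obtain ⟨a, ha, h4⟩ := h3.1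
    have h5 : w = g * a * g⁻¹ * (g * a * g⁻¹) := by
      calc w = g * (g⁻¹ * w * g) * g⁻¹ := by group
        _ = _ := by rw [h4]; group
    rw [h5]
    exact sqT1 _ (conj_mem_cj.2 ha)
  have cm1 : ∀ v ∈ V, ∀ w ∈ cj g V, ⁅v, w⁆ ∈ V ⊓ cj g V := fun v hv w hw =>
    ⟨comm_left (MV (V1M hw)) hv, comm_right (SV1 (TS (VT hv))) hw⟩
  have VY : V ≤ Y0 M V (V ⊓ cj g V) := fun v hv =>
    ⟨TM (VT hv), fun d hd => cmV v hv d hd.1, fun w hw => by
      rw [commutatorElement_eq_one_iff_mul_comm.2 (cmV v hv w hw)]; exact one_mem _⟩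
  have V1Y : cj g V ≤ Y0 M V (V ⊓ cj g V) := fun v hv =>
    ⟨V1M hv, fun d hd => cmV1 v hv d hd.2, fun w hw => by
      rw [← commutatorElement_inv]; exact inv_mem (cm1 w hw v hv)⟩
  have YM : Y0 M V (V ⊓ cj g V) ≤ M := fun k hk => hk.1
  have sqY : ∀ k ∈ Y0 M V (V ⊓ cj g V), k * k ∈ T := by
    rintro k ⟨hk, hk1, hk2⟩
    rw [← cTV]
    exact ⟨mul_mem hk hk, mem_Cs.2 fun v hv => sq_comm (hk1 _ (hk2 v hv)) (sqV _ (hk2 v hv).1)⟩
  have hY : T.relIndex (Y0 M V (V ⊓ cj g V)) ≤ T.relIndex (cj g V) := by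
    obtain ⟨r1, -, r2⟩ := m.rk _ YM (by rw [hT]; exact sqY)
    rw [hT] at r1 r2
    rcases cD with ⟨d1, d2⟩ | ⟨-, d2⟩
    · rw [d2]
      rcases r2 with r2 | ⟨t, ht, s, hs, tL, sL, t1, s1, ts⟩
      · exact r2
      exfalso
      have psq : ∀ k ∈ Y0 M V (V ⊓ cj g V), π k * π k = 1 := fun k hk => by
        rw [← ty.mul k hk.1 k hk.1]
        exact (ty.ker _ (mul_mem hk.1 hk.1)).2 (sqY k hk)
      have hc : π t * π s = π s * π t := by
        have h1 := psq _ (mul_mem ht hs)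
        rw [ty.mul t ht.1 s hs.1] at h1
        rw [← inv_eq_of_mul_eq_one_right h1, mul_inv_rev, inv_eq_of_mul_eq_one_right (psq t ht),
          inv_eq_of_mul_eq_one_right (psq s hs)]
      have h1 := c16 c64 t ht.1 s hs.1 tL sL (psq t ht) (psq s hs) t1 s1 ts hc
      have h2 : V ⊓ cj g V ≤ V ⊓ C1 t ⊓ C1 s := fun d hd =>
        ⟨⟨hd.1, mem_C1.2 (ht.2.1 d hd).symm⟩, mem_C1.2 (hs.2.1 d hd).symm⟩
      have h3 := Subgroup.card_le_of_le h2
      omega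
    · rw [d2]; exact r1
  have hYeq : V ⊔ cj g V = Y0 M V (V ⊓ cj g V) := by
    refine eq_of_le_of_card_ge (sup_le VY V1Y) ?_
    have h1 := card_mul_relIndex VY
    have h2 := card_mul_relIndex (le_sup_left : V ≤ V ⊔ cj g V)
    have h3 : V.relIndex (cj g V) ≤ V.relIndex (V ⊔ cj g V) :=
      relIndex_le_of_le_right le_sup_right FiniteIndex.index_ne_zero
    rw [← eq] at hY
    rw [← h1, ← h2]
    exact Nat.mul_le_mul_left _ (hY.trans h3)
  refine ⟨eq.trans hT.symm, eaV, c64, nV, V1M, gg, ne, commutator_le.2 cm1, cD.imp And.left And.left, ?_⟩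
  intro k hk hkD
  rw [hYeq]
  refine mem_Ns_of_le ?_
  rintro x ⟨hx, hx1, hx2⟩
  refine ⟨mul_mem (mul_mem hk hx) (inv_mem hk), fun d hd => ?_, fun v hv => ?_⟩
  · have h1 := hx1 _ (conj_mem (inv_mem hkD) hd)
    calc k * x * k⁻¹ * d = k * (x * (k⁻¹ * d * k⁻¹⁻¹)) * k⁻¹ := by group
      _ = k * (k⁻¹ * d * k⁻¹⁻¹ * x) * k⁻¹ := by rw [h1]
      _ = d * (k * x * k⁻¹) := by group
  · have h1 := conj_mem hkD (hx2 _ (conj_mem (MV (inv_mem hk)) hv))
    have e : ⁅k * x * k⁻¹, v⁆ = k * ⁅x, k⁻¹ * v * k⁻¹⁻¹⁆ * k⁻¹ := by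
      simp only [commutatorElement_def]; group
    rw [e]; exact h1

end Cfsg.Lib.K7.NU
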