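import Cfsg.Agent.K7.NUd
import Cfsg.Agent.P8.PjB
import Cfsg.Agent.P8.Bas2

/-!
# Pushing up `U₃(3)`: the case of an intersection of order 16
-/

set_option autoImplicit false
set_option linter.unusedVariables false
set_option linter.unusedSectionVars false

namespace Cfsg.Lib.K7.NU.N8

open Cfsg Subgroup Cfsg.Lib.Trans Cfsg.Lib.Gold
open Cfsg.Lib.P8 (O2 Om EA Pj Ty Mx PjB Bas1 Bas2)
open scoped commutatorElement Pointwise

universe u

variable {G : Type u} [Group G] [Finite G] {X : Type u} [Group X] [Finite X] {M V S : Subgroup G}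
  {π : G → X} {L : Subgroup X} {a b r h y : X} {g : G}

theorem card_mul (A B : Subgroup G) : A.relIndex B * Nat.card ↥(B ⊓ A) = Nat.card B := by
  have h1 := (A.subgroupOf B).index_mul_card
  have h2 : Nat.card ↥(A.subgroupOf B) = Nat.card ↥(B ⊓ A) := by
    rw [← inf_subgroupOf_left]
    exact Nat.card_congr (subgroupOfEquivOfLe (inf_le_left : B ⊓ A ≤ B)).toEquiv
  rw [← h2]; exact h1

theorem ea_comm {A : Subgroup G} (e : EA A) {x z : G} (hx : x ∈ A) (hz : z ∈ A) : x * z = z * x := by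
  have := e.1
  exact congrArg Subtype.val (mul_comm' (⟨x, hx⟩ : A) ⟨z, hz⟩)

theorem ea_sq {A : Subgroup G} (e : EA A) {x : G} (hx : x ∈ A) : x * x = 1 := by
  have := e.2 x hx
  rwa [pow_two] at this

theorem ea_cj {A : Subgroup G} (e : EA A) (g : G) : EA (cj g A) := by
  refine ⟨⟨⟨fun x z => Subtype.ext ?_⟩⟩, fun x hx => ?_⟩
  · have h1 := ea_comm e (mem_cj.1 x.2) (mem_cj.1 z.2)
    have h2 : (x : G) * z = g * ((g⁻¹ * x * g) * (g⁻¹ * z * g)) * g⁻¹ := by group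
    have h3 : (z : G) * x = g * ((g⁻¹ * z * g) * (g⁻¹ * x * g)) * g⁻¹ := by group
    show (x : G) * z = z * x
    rw [h2, h3, h1]
  · have h1 := ea_sq e (mem_cj.1 hx)
    have h2 : x ^ 2 = g * ((g⁻¹ * x * g) * (g⁻¹ * x * g)) * g⁻¹ := by rw [pow_two]; group
    rw [h2, h1]; group

theorem memC1 {x z : G} : x ∈ C1 z ↔ z * x = x * z := by
  simp [mem_centralizer_iff]

theorem c4 (pj : Pj M V π) (ux : UX L a b r h y) (m : MF M V π L) (t : TW M V g)
    (h16 : Nat.card ↥(V ⊓ cj g V) = 16)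
    (fp : ∀ ρ ∈ M, orderOf ρ = 3 → IsConj r (π ρ) → V ⊓ C1 ρ = ⊥)
    (c16 : ∀ t ∈ M, ∀ s ∈ M, π t ∈ L → π s ∈ L → π t * π t = 1 → π s * π s = 1 → π t ≠ 1 → π s ≠ 1 →
      π t ≠ π s → π t * π s = π s * π t → Nat.card ↥(V ⊓ C1 t ⊓ C1 s) ≤ 8) : False := by
  have : Bas1.{u} := P8.pf_Bas1
  have : PjB.{u, u} := P8.pf_PjB
  have : Bas2.{u} := P8.pf_Bas2
  obtain ⟨p1, pinv, ppow, -, peq⟩ := PjB.one pj
  have e1 : EA (cj g V) := ea_cj t.ea g
  have c1 : Nat.card (cj g V) = 64 := by rw [card_cj, t.card]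
  have hle := t.le
  have hVM : V ≤ M := pj.le
  have hO : O2 M = V := t.eq.symm
  -- step 1
  have dle : ∀ j ∈ cj g V, V ⊓ cj g V ≤ V ⊓ C1 j := fun j hj d hd =>
    ⟨hd.1, memC1.2 (ea_comm e1 hj hd.2)⟩
  have s1 : ∀ j ∈ cj g V, j ∉ V → V ⊓ C1 j = V ⊓ cj g V := by
    intro j hj hjV
    have i3 := m.i3 j (hle hj) (by rwa [hO]) (by rw [ea_sq e1 hj]; exact one_mem _)
    have cm := card_mul (C1 j) V
    rw [t.card] at i3 cm
    have h4 : 4 ≤ (C1 j).relIndex V := by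
      by_contra hlt
      have : (C1 j).relIndex V ≤ 3 := by omega
      have := Nat.pow_le_pow_left this 3
      omega
    refine (eq_of_le_of_card_ge (dle j hj) ?_).symm
    rw [h16]
    nlinarith
  -- step 2
  have r4 : V.relIndex (cj g V) = 4 := by
    have cm := card_mul V (cj g V)
    rw [c1, inf_comm, h16] at cm
    omega
  obtain ⟨-, rk, -⟩ := m.rk (cj g V) hle (fun x hx => by rw [ea_sq e1 hx]; exact one_mem _)
  rw [hO, r4] at rk
  obtain ⟨j, hj, jV, jL⟩ := rk.resolve_left (by omega)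
  have sq : ∀ x ∈ cj g V, π x * π x = 1 := fun x hx => by
    rw [← pj.mul x (hle hx) x (hle hx), ea_sq e1 hx, p1]
  -- step 3
  obtain ⟨l, hl⟩ := ux.ui.one (π j) jL (sq j hj)
  obtain ⟨a0, ha0, ea0⟩ := pj.sur (l * r * l⁻¹)
  have o3 : orderOf (π a0) = 3 := by
    rw [ea0, ← ux.ue.or]
    exact (MulAut.conj l).orderOf_eq r
  obtain ⟨ρ, hρ, eρ, oρ⟩ := PjB.odd pj a0 ha0 (by rw [o3]; decide)
  have ρM : ρ ∈ M := (zpowers_le.2 ha0) hρ
  rw [o3] at oρ
  rw [ea0] at eρ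
  have fρ : V ⊓ C1 ρ = ⊥ := fp ρ ρM oρ (by rw [eρ]; exact isConj_iff.2 ⟨l, rfl⟩)
  have ρV : ρ ∈ Ns V := by rw [t.nV]; exact ρM
  have cV : cj ρ V = V := cj_eq_self_iff.2 ρV
  have jM := hle hj
  have hv : j⁻¹ * (ρ * j * ρ⁻¹) ∈ V := by
    refine (peq j jM _ (mul_mem (mul_mem ρM jM) (inv_mem ρM))).1 ?_
    rw [pj.mul _ (mul_mem ρM jM) _ (inv_mem ρM), pj.mul _ ρM _ jM, pinv _ ρM, eρ, ← hl]
    group
  have ρD : ρ ∈ Ns (V ⊓ cj g V) := by
    refine mem_normalizer_of_cj_le (cj_le_iff.2 fun d hd => ?_)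
    have hd' : ρ * d * ρ⁻¹ ∈ V := by rw [← cV]; exact conj_mem_cj.2 hd.1
    rw [← s1 j hj jV]
    refine ⟨hd', memC1.2 ?_⟩
    have k1 := ea_comm t.ea hv hd'
    have k2 := ea_comm e1 hj hd.2
    have k3 : ρ * j * ρ⁻¹ * (ρ * d * ρ⁻¹) = ρ * d * ρ⁻¹ * (ρ * j * ρ⁻¹) := by
      calc _ = ρ * (j * d) * ρ⁻¹ := by group
        _ = ρ * (d * j) * ρ⁻¹ := by rw [k2]
        _ = _ := by group
    set e := ρ * d * ρ⁻¹
    set w := ρ * j * ρ⁻¹
    calc j * e = j * (e * (j⁻¹ * w)) * w⁻¹ * j := by group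
      _ = j * (j⁻¹ * w * e) * w⁻¹ * j := by rw [k1]
      _ = (w * e) * w⁻¹ * j := by group
      _ = (e * w) * w⁻¹ * j := by rw [k3]
      _ = e * j := by group
  have ρY : ρ ∈ Ns (V ⊔ cj g V) := t.nY ρ ρM ρD
  -- step 4
  have hN : cj g V ≤ normalizer (V : Set G) := by
    intro x hx
    have : x ∈ Ns V := by rw [t.nV]; exact hle hx
    exact this
  have hU : ∀ x ∈ cj ρ (cj g V), x ∈ V ∨ x ∈ cj g V := by
    intro x hx
    have hx' : x ∈ V ⊔ cj g V := by
      rw [← cj_eq_self_iff.2 ρY]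
      exact cj_mono ρ le_sup_right hx
    have hs : x ∈ ((V ⊔ cj g V : Subgroup G) : Set G) := hx'
    rw [coe_mul_of_right_le_normalizer_left V (cj g V) hN] at hs
    obtain ⟨v, hv, w, hw, rfl⟩ := hs
    by_cases wV : w ∈ V
    · exact Or.inl (mul_mem hv wV)
    · right
      have q := ea_sq (ea_cj e1 ρ) hx
      have qv := ea_sq t.ea hv
      have qw := ea_sq e1 hw
      have k : w * v = v * w := by
        calc w * v = (v * v) * w * v * (w * w) := by rw [qv, qw]; group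
          _ = v * (v * w * (v * w)) * w := by group
          _ = v * w := by
            have q' : v * w * (v * w) = 1 := q
            rw [q']; group
      have : v ∈ V ⊓ C1 w := ⟨hv, memC1.2 k⟩
      rw [s1 w hw wV] at this
      exact mul_mem this.2 hw
  have hB : cj ρ (cj g V) ≤ cj g V := by
    by_contra hn
    obtain ⟨x, hx, xn⟩ := SetLike.not_le_iff_exists.1 hn
    have xV : x ∈ V := (hU x hx).resolve_right xn
    have hle' : cj ρ (cj g V) ≤ V := by
      intro z hz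
      by_contra zn
      have z1 : z ∈ cj g V := (hU z hz).resolve_left zn
      rcases hU _ (mul_mem hx hz) with k | k
      · exact zn ((mul_mem_cancel_left xV).1 k)
      · exact xn ((mul_mem_cancel_right z1).1 k)
    have : cj ρ (cj g V) = V := eq_of_le_of_card_ge hle' (by rw [card_cj, card_cj])
    rw [← cV] at this
    have := cj_inj.1 this
    rw [cV] at this
    exact t.ne this
  have cB : cj ρ (cj g V) = cj g V := cj_eq_self_iff.2 (mem_normalizer_of_cj_le hB)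
  -- step 5
  have σM : g * ρ * g⁻¹ ∈ M := by
    rw [← t.nV]
    refine cj_eq_self_iff.1 ?_
    conv_lhs => rw [← t.gg]
    rw [cj_mul, cj_mul, cj_inv_cj, cB, t.gg]
  have σN : g * ρ * g⁻¹ ∈ Ns (cj g V) := by
    refine cj_eq_self_iff.1 ?_
    rw [cj_mul, cj_mul, cj_inv_cj, cV]
  have oσ : orderOf (g * ρ * g⁻¹) = 3 := by
    rw [← oρ]; exact (MulAut.conj g).orderOf_eq ρ
  have fσ : cj g V ⊓ C1 (g * ρ * g⁻¹) = ⊥ := by
    rw [eq_bot_iff]
    intro x hx
    have k := memC1.1 hx.2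
    have : g⁻¹ * x * g ∈ V ⊓ C1 ρ := by
      refine ⟨mem_cj.1 hx.1, memC1.2 ?_⟩
      calc ρ * (g⁻¹ * x * g) = g⁻¹ * (g * ρ * g⁻¹ * x) * g := by group
        _ = g⁻¹ * (x * (g * ρ * g⁻¹)) * g := by rw [k]
        _ = _ := by group
    rw [fρ, mem_bot] at this
    rw [mem_bot]
    calc x = g * (g⁻¹ * x * g) * g⁻¹ := by group
      _ = 1 := by rw [this]; group
  set σ := g * ρ * g⁻¹
  have σL : π σ ∈ L := by
    have := ux.nor
    have k3 : π σ ^ 3 = 1 := by rw [← ppow σ σM, ← oσ, pow_orderOf_eq_one, p1]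
    have k := L.pow_index_mem (π σ)
    have i0 : L.index ≠ 0 := index_ne_zero_of_finite
    have i2 := ux.idx
    have k2 : π σ ^ 2 ∈ L := by
      rcases (by omega : L.index = 1 ∨ L.index = 2) with e | e
      · rw [e, pow_one] at k; exact pow_mem k 2
      · rwa [e] at k
    have : π σ = (π σ ^ 2) ^ 2 := by
      rw [← pow_mul, show 2 * 2 = 3 + 1 from rfl, pow_succ, k3, one_mul]
    rw [this]; exact pow_mem k2 2
  obtain ⟨K, hK, -⟩ := PjB.pre pj L
  have two : IsPGroup 2 (cj g V) := isPGroup_cj pj.two g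
  have cop := (Bas2.cop two σN (by rw [oσ]; decide)).1
  rw [fσ, sup_bot_eq] at cop
  have hKL : cj g V ≤ K := by
    refine cop.trans (commutator_le.2 fun x hx z hz => ?_)
    have zK : z ∈ K := (zpowers_le.2 ((hK σ).2 ⟨σM, σL⟩)) hz
    have zM := ((hK z).1 zK).1
    have xM := hle hx
    rw [commutatorElement_def]
    refine mul_mem ((hK _).2 ⟨mul_mem (mul_mem xM zM) (inv_mem xM), ?_⟩) (inv_mem zK)
    rw [pj.mul _ (mul_mem xM zM) _ (inv_mem xM), pj.mul _ xM _ zM, pinv _ xM]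
    exact ux.nor.conj_mem _ ((hK z).1 zK).2 _
  -- step 6
  obtain ⟨B, hB', cB'⟩ := PjB.im pj (cj g V) hle
  rw [r4] at cB'
  have ex : ∃ z ∈ B, z ≠ 1 ∧ z ≠ π j := by
    by_contra hn
    push Not at hn
    have sub : (B : Set X) ⊆ {1, π j} := by
      intro z hz
      by_cases z1 : z = 1
      · exact Or.inl z1
      · exact Or.inr (hn z hz z1)
    have k1 := Set.ncard_le_ncard sub (Set.toFinite _)
    have k2 : ({1, π j} : Set X).ncard ≤ 2 := by
      have := Set.ncard_insert_le (1 : X) {π j}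
      rwa [Set.ncard_singleton] at this
    have k3 : (B : Set X).ncard = 4 := by rw [← cB']; exact (Nat.card_coe_set_eq _).symm
    omega
  obtain ⟨z, hz, z1, zj⟩ := ex
  obtain ⟨s, hs, rfl⟩ := (hB' z).1 hz
  have k := c16 j jM s (hle hs) jL ((hK s).1 (hKL hs)).2 (sq j hj) (sq s hs)
    (fun e => jV ((pj.ker j jM).1 e)) z1 (Ne.symm zj)
    (by rw [← pj.mul _ jM _ (hle hs), ← pj.mul _ (hle hs) _ jM, ea_comm e1 hj hs])
  have kk : V ⊓ cj g V ≤ V ⊓ C1 j ⊓ C1 s := fun d hd => ⟨dle j hj hd, (dle s hs hd).2⟩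
  have := Subgroup.card_le_of_le kk
  omega

end Cfsg.Lib.K7.NU.N8
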